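import Cfsg.Agent.OddHalf.D7F4Ex.Chart
import Cfsg.Agent.OddHalf.D7F4.Dual

/-!
# The dual chart

`dualE rt E a u = E a* u` (`a` short), `E a* √u` (`a` long).
-/

set_option autoImplicit false
set_option linter.unusedSectionVars false

namespace Cfsg.Agent.OddHalf.D7F4Ex

open Cfsg.Agent.OddHalf.D7F4 Cfsg.Agent.OddHalf.D7F4.Model

theorem k_norm : ∀ a ∈ rts, (B a a = 2 ∧ B (dual a) (dual a) = 4) ∨ (B a a = 4 ∧ B (dual a) (dual a) = 2) := by
  intro a ha
  rcases Model.norm a ha with h | h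
  · exact Or.inl ⟨h, dn2 a ha h⟩
  · exact Or.inr ⟨h, dn4 a ha h⟩

theorem k_c1 : ∀ a ∈ rts, ∀ b ∈ rts, B a a = B b b → B a b < 0 → a ≠ -b → B (a + b) (a + b) = B a a ∧
    a + b ∈ rts ∧ B (dual a) (dual b) < 0 ∧ dual a ≠ -dual b ∧ dual (a + b) = dual a + dual b := by
  intro a ha b hb h1 h2 h3
  obtain ⟨-, e2, e3, e4⟩ := Model.d1 a ha b hb h1 h2 h3
  refine ⟨?_, Model.add a ha b hb h2 h3, e2, e3, e4⟩
  rw [Model.roots.norm_add, ← h1]
  have h4 := Model.neg_mem b hb
  have h5 : B (-b) (-b) = B b b := by rw [Model.roots.neg_left, Model.roots.neg_right, neg_neg]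
  have h6 : B a (-b) = - B a b := Model.roots.neg_right a b
  rcases Model.norm a ha with h | h
  · have h7 := Model.ss a ha (-b) h4 h (by omega)
    have h8 : B a (-b) ≠ 2 := fun h9 => h3 (h7.2 h9)
    omega
  · obtain ⟨h7, h8, h9⟩ := Model.ll a ha (-b) h4 h (by omega)
    have h10 : B a (-b) ≠ 4 := fun h9' => h3 (h9 h9')
    omega

theorem k_c2 : ∀ a ∈ rts, ∀ b ∈ rts, B a a = 4 → B b b = 2 → B a b = -2 → a + b ∈ rts ∧ a + b + b ∈ rts ∧
    B (a + b) (a + b) = 2 ∧ B (a + b + b) (a + b + b) = 4 ∧ B (dual b) (dual a) = -2 ∧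
    dual (a + b) = dual b + dual a + dual a ∧ dual (a + b + b) = dual b + dual a := by
  intro a ha b hb h1 h2 h3
  obtain ⟨m1, m2, -, m4, m5⟩ := Model.roots.add_ls ha hb h1 h2 h3
  obtain ⟨-, -, e3, e4, e5⟩ := Model.d2 a ha b hb h1 h2 h3
  exact ⟨m1, m4, m2, m5, e3, e4, e5⟩

theorem k_inj : ∀ a ∈ rts, ∀ b ∈ rts, a ≠ b → dual a ≠ dual b := fun a ha b hb h h' => h (dne a ha b hb h')

theorem k_neg : ∀ a ∈ rts, -a ∈ rts ∧ B (-a) (-a) = B a a ∧ dual (-a) = -dual a := by decide +kernel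

theorem B_tau (x y : Fin 4 → ℤ) : B (tau x) (tau y) = 2 * B x y := by
  unfold B tau
  simp only [Matrix.cons_val_zero, Matrix.cons_val_one, Matrix.cons_val]
  ring

theorem tau_sub (x y : Fin 4 → ℤ) (m : ℤ) : tau (x - m • y) = tau x - m • tau y := by
  funext i
  fin_cases i <;> simp [tau] <;> ring

theorem k_tau : ∀ a ∈ rts, B a a = 4 → dual a + dual a = tau a := by decide +kernel

theorem dual_short {x : Fin 4 → ℤ} (h : B x x = 2) : dual x = tau x := if_pos h

theorem dual_of_half {x y : Fin 4 → ℤ} (h : B x x = 4) (hy : y + y = tau x) : dual x = y := by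
  unfold dual
  rw [if_neg (by rw [h]; norm_num)]
  funext i
  have h1 := congrFun hy i
  simp only [Pi.add_apply, tau] at h1
  fin_cases i
  · simp at h1 ⊢; omega
  · simp at h1 ⊢; omega
  · simp at h1 ⊢; omega
  · simp at h1 ⊢; omega

theorem B_add_add (x y : Fin 4 → ℤ) : B (x + x) (y + y) = 4 * B x y ∧ B (x + x) y = 2 * B x y ∧
    B x (y + y) = 2 * B x y := by
  refine ⟨?_, ?_, ?_⟩ <;> (unfold B; simp only [Pi.add_apply]; ring)

theorem B_sub_smul (x y : Fin 4 → ℤ) (m : ℤ) : B (y - m • x) (y - m • x) = B y y - 2 * m * B x y + m * m * B x x := by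
  unfold B; simp only [Pi.sub_apply, Pi.smul_apply, smul_eq_mul]; ring

theorem k_even {a b : Fin 4 → ℤ} (ha : a ∈ rts) (hb : b ∈ rts) (h : B a a = 4 ∨ B b b = 4) : B a b % 2 = 0 := by
  rcases Model.norm a ha with h1 | h1 <;> rcases Model.norm b hb with h2 | h2
  · omega
  · have := Model.ls b hb a ha h2 h1
    rw [B_symm b a] at this
    omega
  · have := Model.ls a ha b hb h1 h2
    omega
  · exact (Model.ll a ha b hb h1 h2).1

theorem k_rfl : ∀ a ∈ rts, ∀ b ∈ rts, B (rfl' a b) (rfl' a b) = B b b ∧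
    dual (rfl' a b) = rfl' (dual a) (dual b) := by
  intro a ha b hb
  have hn : B (rfl' a b) (rfl' a b) = B b b := by
    unfold rfl'
    rw [B_sub_smul]
    rcases Model.norm a ha with h | h
    · rw [h]
      have h1 : 2 * B a b / 2 = B a b := by omega
      rw [h1]; ring
    · have he := k_even ha hb (Or.inl h)
      rw [h]
      obtain ⟨k, hk⟩ : ∃ k, B a b = 2 * k := ⟨B a b / 2, by omega⟩
      have h1 : 2 * B a b / 4 = k := by omega
      rw [h1, hk]; ring
  refine ⟨hn, ?_⟩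
  rcases Model.norm b hb with h2 | h2
  · rw [dual_short (hn.trans h2), dual_short h2]
    rcases Model.norm a ha with h | h
    · rw [dual_short h]
      unfold rfl'
      rw [tau_sub, B_tau, B_tau, h]
      congr 2
      omega
    · have he := k_even ha hb (Or.inl h)
      have h3 := k_tau a ha h
      have h4 : B (dual a) (tau b) = B a b := by
        have h5 := (B_add_add (dual a) (tau b)).2.1
        rw [h3, B_tau] at h5
        omega
      unfold rfl'
      rw [tau_sub, h4, dn4 a ha h, h, ← h3, ← two_smul ℤ (dual a), smul_smul]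
      congr 2
      omega
  · apply dual_of_half (hn.trans h2)
    have h3 := k_tau b hb h2
    rcases Model.norm a ha with h | h
    · have he := k_even ha hb (Or.inr h2)
      have h4 : B (tau a) (dual b) = B a b := by
        have h5 := (B_add_add (tau a) (dual b)).2.2
        rw [h3, B_tau] at h5
        omega
      rw [dual_short h]
      unfold rfl'
      rw [tau_sub, h4, B_tau, ← h3, h]
      obtain ⟨k, hk⟩ : ∃ k, B a b = 2 * k := ⟨B a b / 2, by omega⟩
      have h5 : 2 * B a b / (2 * 2) = k := by omega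
      have h6 : 2 * B a b / 2 = 2 * k := by omega
      rw [h5, h6]
      module
    · have he := k_even ha hb (Or.inr h2)
      have h7 := k_tau a ha h
      have h4 : 2 * B (dual a) (dual b) = B a b := by
        have h5 := (B_add_add (dual a) (dual b)).1
        rw [h3, h7, B_tau] at h5
        omega
      unfold rfl'
      rw [tau_sub, dn4 a ha h, ← h3, ← h7, h]
      have h5 : 2 * B (dual a) (dual b) / 2 = B (dual a) (dual b) := by omega
      have h6 : 2 * B a b / 4 = B (dual a) (dual b) := by omega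
      rw [h5, h6]
      module

theorem k_dd : ∀ a ∈ rts, (B a a = 2 → dd (dual a) 0 = dd a 0 + dd a 1 ∧ dd (dual a) 1 = dd a 0 - dd a 1 ∧
      dd (dual a) 2 = dd a 2 + dd a 3 ∧ dd (dual a) 3 = dd a 2 - dd a 3) ∧
    (B a a = 4 → 2 * dd (dual a) 0 = dd a 0 + dd a 1 ∧ 2 * dd (dual a) 1 = dd a 0 - dd a 1 ∧
      2 * dd (dual a) 2 = dd a 2 + dd a 3 ∧ 2 * dd (dual a) 3 = dd a 2 - dd a 3) := by decide +kernel

variable {F : Type*} [Field F] {G : Type*} [Group G]

/-- the dual root elements -/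
def dualE (rt : F ≃+* F) (E : (Fin 4 → ℤ) → F → G) (a : Fin 4 → ℤ) (u : F) : G :=
  if B a a = 2 then E (dual a) u else E (dual a) (rt u)

/-- the dual torus -/
def dualH (rt : F ≃+* F) : (Fin 4 → Fˣ) →* (Fin 4 → Fˣ) where
  toFun ν := ![Units.map (rt : F →* F) (ν 0 * ν 1), Units.map (rt : F →* F) (ν 0 * (ν 1)⁻¹),
    Units.map (rt : F →* F) (ν 2 * ν 3), Units.map (rt : F →* F) (ν 2 * (ν 3)⁻¹)]
  map_one' := by
    funext i
    fin_cases i <;> simp
  map_mul' a b := by
    funext i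
    fin_cases i
    · show Units.map (rt : F →* F) ((a 0 * b 0) * (a 1 * b 1)) = Units.map (rt : F →* F) (a 0 * a 1) *
        Units.map (rt : F →* F) (b 0 * b 1)
      rw [← map_mul, mul_mul_mul_comm]
    · show Units.map (rt : F →* F) ((a 0 * b 0) * (a 1 * b 1)⁻¹) = Units.map (rt : F →* F) (a 0 * (a 1)⁻¹) *
        Units.map (rt : F →* F) (b 0 * (b 1)⁻¹)
      rw [← map_mul, mul_inv, mul_mul_mul_comm]
    · show Units.map (rt : F →* F) ((a 2 * b 2) * (a 3 * b 3)) = Units.map (rt : F →* F) (a 2 * a 3) *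
        Units.map (rt : F →* F) (b 2 * b 3)
      rw [← map_mul, mul_mul_mul_comm]
    · show Units.map (rt : F →* F) ((a 2 * b 2) * (a 3 * b 3)⁻¹) = Units.map (rt : F →* F) (a 2 * (a 3)⁻¹) *
        Units.map (rt : F →* F) (b 2 * (b 3)⁻¹)
      rw [← map_mul, mul_inv, mul_mul_mul_comm]

section

variable {E : (Fin 4 → ℤ) → F → G} {T : (Fin 4 → Fˣ) →* G} (rt : F ≃+* F)

theorem dualE_short {a : Fin 4 → ℤ} (h : B a a = 2) (u : F) : dualE rt E a u = E (dual a) u := if_pos h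

theorem dualE_long {a : Fin 4 → ℤ} (h : B a a = 4) (u : F) : dualE rt E a u = E (dual a) (rt u) :=
  if_neg (by rw [h]; norm_num)

variable (hrt : ∀ u, rt u ^ 2 = u)

include hrt in
theorem rt_sq (u : F) : rt (u ^ 2) = u := by rw [map_pow, hrt]

/-- two squares -/
theorem four_zpow {A : Type*} [CommGroup A] (x y : A) (m n : ℤ) :
    (x * y) ^ (m + n) * (x * y⁻¹) ^ (m - n) = (x ^ 2) ^ m * (y ^ 2) ^ n := by
  rw [mul_zpow, mul_zpow, inv_zpow, ← zpow_neg, mul_mul_mul_comm, ← zpow_add, ← zpow_add, ← zpow_natCast,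
    ← zpow_natCast, ← zpow_mul, ← zpow_mul]
  congr 2 <;> (push_cast; ring)

include hrt in
theorem rtu_sq (ν : Fˣ) : (Units.map (rt : F →* F) ν) ^ 2 = ν := by
  apply Units.ext
  rw [Units.val_pow_eq_pow_val]
  exact hrt _

include hrt in
theorem chd_dual_short (ν : Fin 4 → Fˣ) {a : Fin 4 → ℤ} (ha : a ∈ rts) (h : B a a = 2) :
    chd (dualH rt ν) (dual a) = chd ν a := by
  obtain ⟨h0, h1, h2, h3⟩ := (k_dd a ha).1 h
  rw [chd_eq, chd_eq, h0, h1, h2, h3]
  show (Units.map (rt : F →* F) (ν 0 * ν 1)) ^ _ * (Units.map (rt : F →* F) (ν 0 * (ν 1)⁻¹)) ^ _ *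
    (Units.map (rt : F →* F) (ν 2 * ν 3)) ^ _ * (Units.map (rt : F →* F) (ν 2 * (ν 3)⁻¹)) ^ _ = _
  rw [map_mul, map_mul, map_mul, map_mul, map_inv, map_inv, four_zpow, mul_assoc, four_zpow, rtu_sq rt hrt,
    rtu_sq rt hrt, rtu_sq rt hrt, rtu_sq rt hrt, mul_assoc, mul_assoc, mul_assoc]

include hrt in
theorem chd_dual_long (ν : Fin 4 → Fˣ) {a : Fin 4 → ℤ} (ha : a ∈ rts) (h : B a a = 4) :
    (chd (dualH rt ν) (dual a)) ^ 2 = chd ν a := by
  obtain ⟨h0, h1, h2, h3⟩ := (k_dd a ha).2 h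
  have key : ∀ (x : Fˣ) (m : ℤ), (x ^ m) ^ 2 = x ^ (2 * m) := by
    intro x m
    rw [← zpow_natCast, ← zpow_mul]
    congr 1
    push_cast; ring
  rw [chd_eq, chd_eq, mul_pow, mul_pow, mul_pow, key, key, key, key, h0, h1, h2, h3]
  show (Units.map (rt : F →* F) (ν 0 * ν 1)) ^ _ * (Units.map (rt : F →* F) (ν 0 * (ν 1)⁻¹)) ^ _ *
    (Units.map (rt : F →* F) (ν 2 * ν 3)) ^ _ * (Units.map (rt : F →* F) (ν 2 * (ν 3)⁻¹)) ^ _ = _
  rw [map_mul, map_mul, map_mul, map_mul, map_inv, map_inv, four_zpow, mul_assoc, four_zpow, rtu_sq rt hrt,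
    rtu_sq rt hrt, rtu_sq rt hrt, rtu_sq rt hrt, mul_assoc, mul_assoc, mul_assoc]

theorem nE_dual {a : Fin 4 → ℤ} (ha : a ∈ rts) : nE (dualE rt E) a = nE E (dual a) := by
  obtain ⟨h1, h2, h3⟩ := k_neg a ha
  unfold nE
  rcases k_norm a ha with ⟨h, -⟩ | ⟨h, -⟩
  · rw [dualE_short rt h, dualE_short rt (h2.trans h), h3]
  · rw [dualE_long rt h, dualE_long rt (h2.trans h), h3, map_one]

include hrt in
/-- **The dual chart.** -/
theorem Chart.dual (C : Chart E T) : Chart (dualE rt E) (T.comp (dualH rt)) where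
  two := C.two
  big := C.big
  add := by
    intro a ha u v
    rcases k_norm a ha with ⟨h, -⟩ | ⟨h, -⟩
    · rw [dualE_short rt h, dualE_short rt h, dualE_short rt h]
      exact C.add _ (dual_mem a ha) u v
    · rw [dualE_long rt h, dualE_long rt h, dualE_long rt h, map_add]
      exact C.add _ (dual_mem a ha) _ _
  inj := by
    intro a ha u hu
    rcases k_norm a ha with ⟨h, -⟩ | ⟨h, -⟩
    · rw [dualE_short rt h] at hu
      exact C.inj _ (dual_mem a ha) u hu
    · rw [dualE_long rt h] at hu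
      have := C.inj _ (dual_mem a ha) _ hu
      exact (map_eq_zero_iff rt rt.injective).1 this
  sep := by
    intro a ha b hb hab u v huv
    obtain ⟨u', hu'⟩ : ∃ u', dualE rt E a u = E (D7F4.Model.dual a) u' := by
      unfold dualE; split_ifs <;> exact ⟨_, rfl⟩
    rcases k_norm b hb with ⟨h, -⟩ | ⟨h, -⟩
    · rw [hu', dualE_short rt h] at huv
      exact C.sep _ (dual_mem a ha) _ (dual_mem b hb) (k_inj a ha b hb hab) _ _ huv
    · rw [hu', dualE_long rt h] at huv
      have := C.sep _ (dual_mem a ha) _ (dual_mem b hb) (k_inj a ha b hb hab) _ _ huv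
      exact (map_eq_zero_iff rt rt.injective).1 this
  c0 := by
    intro a ha b hb hab u v
    obtain ⟨u', hu'⟩ : ∃ u', dualE rt E a u = E (D7F4.Model.dual a) u' := by
      unfold dualE; split_ifs <;> exact ⟨_, rfl⟩
    obtain ⟨v', hv'⟩ : ∃ v', dualE rt E b v = E (D7F4.Model.dual b) v' := by
      unfold dualE; split_ifs <;> exact ⟨_, rfl⟩
    rw [hu', hv']
    exact C.c0 _ (dual_mem a ha) _ (dual_mem b hb) (d0 a ha b hb hab) _ _
  c1 := by
    intro a ha b hb h1 h2 h3 u v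
    obtain ⟨h4, h5, h6, h7, h8⟩ := k_c1 a ha b hb h1 h2 h3
    have hn := dual_norm a ha
    have hn' := dual_norm b hb
    have h9 : B (D7F4.Model.dual a) (D7F4.Model.dual a) = B (D7F4.Model.dual b) (D7F4.Model.dual b) := by rw [hn, hn', h1]
    rcases k_norm a ha with ⟨h, -⟩ | ⟨h, -⟩
    · rw [dualE_short rt h, dualE_short rt (h1 ▸ h), dualE_short rt (h4.trans h), h8]
      exact C.c1 _ (dual_mem a ha) _ (dual_mem b hb) h9 h6 h7 u v
    · rw [dualE_long rt h, dualE_long rt (h1 ▸ h), dualE_long rt (h4.trans h), h8, map_mul]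
      exact C.c1 _ (dual_mem a ha) _ (dual_mem b hb) h9 h6 h7 _ _
  c2 := by
    intro a ha b hb h1 h2 h3 u v
    obtain ⟨h4, h5, h6, h7, h8, h9, h10⟩ := k_c2 a ha b hb h1 h2 h3
    have hna : B (D7F4.Model.dual a) (D7F4.Model.dual a) = 2 := by rw [dual_norm a ha, h1]; norm_num
    have hnb : B (D7F4.Model.dual b) (D7F4.Model.dual b) = 4 := by rw [dual_norm b hb, h2]; norm_num
    have h11 := C.c2 _ (dual_mem b hb) _ (dual_mem a ha) hnb hna h8 v (rt u)
    rw [hrt, ← h9, ← h10] at h11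
    rw [dualE_long rt h1, dualE_short rt h2, dualE_short rt h6, dualE_long rt h7, map_mul, map_pow, hrt]
    have h12 : E (D7F4.Model.dual a) (rt u) * E (D7F4.Model.dual b) v * (E (D7F4.Model.dual a) (rt u))⁻¹ * (E (D7F4.Model.dual b) v)⁻¹ =
        (E (D7F4.Model.dual b) v * E (D7F4.Model.dual a) (rt u) * (E (D7F4.Model.dual b) v)⁻¹ * (E (D7F4.Model.dual a) (rt u))⁻¹)⁻¹ := by
      group
    rw [h12, h11, mul_inv_rev, C.inv (dual_mem _ h4), C.inv (dual_mem _ h5), mul_comm v u, mul_comm v (rt u)]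
  tor := by
    intro a ha ν u
    rcases k_norm a ha with ⟨h, -⟩ | ⟨h, -⟩
    · rw [dualE_short rt h, dualE_short rt h]
      show T (dualH rt ν) * _ * (T (dualH rt ν))⁻¹ = _
      rw [C.tor _ (dual_mem a ha), chd_dual_short rt hrt ν ha h]
    · rw [dualE_long rt h, dualE_long rt h]
      show T (dualH rt ν) * _ * (T (dualH rt ν))⁻¹ = _
      rw [C.tor _ (dual_mem a ha), ← chd_dual_long rt hrt ν ha h, map_mul, Units.val_pow_eq_pow_val, rt_sq rt hrt]
  nrf := by
    intro a ha b hb u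
    obtain ⟨h2, h3⟩ := k_rfl a ha b hb
    rw [nE_dual rt ha]
    rcases k_norm b hb with ⟨h, -⟩ | ⟨h, -⟩
    · rw [dualE_short rt h, dualE_short rt (h2.trans h), h3]
      exact C.nrf _ (dual_mem a ha) _ (dual_mem b hb) _
    · rw [dualE_long rt h, dualE_long rt (h2.trans h), h3]
      exact C.nrf _ (dual_mem a ha) _ (dual_mem b hb) _

end

end Cfsg.Agent.OddHalf.D7F4Ex
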