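import Cfsg.Agent.OddHalf.D7F4Ex.Chart
import Cfsg.Agent.OddHalf.D7Ex.One

/-!
# The doubled root groups of the short roots of a chart

`XE E s = X_s`, `PE E s = ⟨X_a : (a, s) ≥ 0⟩`, `QE E s = ⟨X_a : (a, s) > 0⟩`,
`PT E T s = ⟨X_a (a long, (a, s) ≥ 0; a short, (a, s) > 0), T ν (ν trivial at s)⟩`;
`Dbs t E T W κ c0` : `W s` is the doubled root group of the short root `s` (`w ^ 2 = 1` is not assumed);
`K2E` : the centraliser of the common part of `PT s`, `PT s'`.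
-/

set_option autoImplicit false

namespace Cfsg.Agent.OddHalf.D7F4Ex

open Cfsg.Agent.OddHalf.D7F4.Model

section

variable {F : Type*} {Y : Type*} [Group Y]

/-- `P_s` -/
def PE (E : (Fin 4 → ℤ) → F → Y) (s : Fin 4 → ℤ) : Subgroup Y :=
  Subgroup.closure {g | ∃ a ∈ rts, 0 ≤ B a s ∧ ∃ u, E a u = g}

/-- `Q_s` -/
def QE (E : (Fin 4 → ℤ) → F → Y) (s : Fin 4 → ℤ) : Subgroup Y :=
  Subgroup.closure {g | ∃ a ∈ rts, 0 < B a s ∧ ∃ u, E a u = g}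

/-- `X_s` -/
def XE (E : (Fin 4 → ℤ) → F → Y) (s : Fin 4 → ℤ) : Subgroup Y := Subgroup.closure (Set.range (E s))

theorem mem_PE {E : (Fin 4 → ℤ) → F → Y} {a s : Fin 4 → ℤ} (ha : a ∈ rts) (h : 0 ≤ B a s) (u : F) : E a u ∈ PE E s :=
  Subgroup.subset_closure ⟨a, ha, h, u, rfl⟩

theorem mem_QE {E : (Fin 4 → ℤ) → F → Y} {a s : Fin 4 → ℤ} (ha : a ∈ rts) (h : 0 < B a s) (u : F) : E a u ∈ QE E s :=
  Subgroup.subset_closure ⟨a, ha, h, u, rfl⟩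

theorem mem_XE' (E : (Fin 4 → ℤ) → F → Y) (s : Fin 4 → ℤ) (u : F) : E s u ∈ XE E s :=
  Subgroup.subset_closure ⟨u, rfl⟩

end

variable {F : Type*} [Field F] {G : Type*} [Group G]

/-- the roots of `P~_s` -/
def Cs (s a : Fin 4 → ℤ) : Prop := B a a = 4 ∧ 0 ≤ B a s ∨ B a a = 2 ∧ 0 < B a s

/-- `P~_s` : what is centralised by `W_s` in all cases -/
def PT (E : (Fin 4 → ℤ) → F → G) (T : (Fin 4 → Fˣ) →* G) (s : Fin 4 → ℤ) : Subgroup G :=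
  Subgroup.closure {g | (∃ a ∈ rts, Cs s a ∧ ∃ u, E a u = g) ∨ ∃ ν, chd ν s = 1 ∧ T ν = g}

theorem Chart.mem_XE {E : (Fin 4 → ℤ) → F → G} {T : (Fin 4 → Fˣ) →* G} (C : Chart E T) {s : Fin 4 → ℤ}
    (hs : s ∈ rts) {g : G} : g ∈ XE E s ↔ ∃ u, E s u = g := by
  constructor
  · intro h
    induction h using Subgroup.closure_induction with
    | mem x hx => exact hx
    | one => exact ⟨0, C.zero hs⟩
    | mul x y _ _ hx hy =>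
      obtain ⟨a, rfl⟩ := hx
      obtain ⟨b, rfl⟩ := hy
      exact ⟨a + b, C.add s hs a b⟩
    | inv x _ hx =>
      obtain ⟨a, rfl⟩ := hx
      exact ⟨a, (C.inv hs a).symm⟩
  · rintro ⟨u, rfl⟩
    exact mem_XE' E s u

/-- The doubled root groups of the short roots of a chart (`w ^ 2 = 1` is not assumed: `w ^ 2 = x_s (c0 a)` if
`w⁻¹ w ^ t = x_s a`). -/
structure Dbs (t : G) (E : (Fin 4 → ℤ) → F → G) (T : (Fin 4 → Fˣ) →* G) (W : (Fin 4 → ℤ) → Subgroup G)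
    (κ c0 : F) : Prop where
  chart : Chart E T
  tt : t * t = 1
  tX : ∀ a ∈ rts, ∀ u, t ≠ E a u
  tE : ∀ a ∈ rts, ∀ u, t * E a u = E a u * t
  tT : ∀ ν, t * T ν = T ν * t
  dbl : ∀ s ∈ rts, B s s = 2 → D7Ex.IsDbl t (XE E s) (PT E T s) (W s)
  comm : ∀ s ∈ rts, B s s = 2 → ∀ w ∈ W s, ∀ w' ∈ W s, w * w' = w' * w
  sq : ∀ s ∈ rts, B s s = 2 → ∀ w ∈ W s, ∀ a, w⁻¹ * (t * w * t) = E s a → w * w = E s (c0 * a)
  /-- type: `κ = 0` (C) or `κ ≠ 0` (O) -/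
  typ : ∀ s ∈ rts, B s s = 2 → ∀ w ∈ W s, ∀ a, w⁻¹ * (t * w * t) = E s a →
    ∀ d ∈ rts, B d d = 2 → B d s = 0 → ∀ u, w * E d u * w⁻¹ = E (s + d) (κ * a * u) * E d u
  /-- the torus -/
  torW : ∀ s ∈ rts, B s s = 2 → ∀ ν, ∀ w ∈ W s, T ν * w * (T ν)⁻¹ ∈ W s
  /-- the Weyl elements -/
  refl : ∀ s ∈ rts, B s s = 2 → ∀ a ∈ rts, ∀ w ∈ W s, nE E a * w * (nE E a)⁻¹ ∈ W (rfl' a s)
  /-- everything else normalising the torus -/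
  eqv : ∀ s ∈ rts, B s s = 2 → ∀ s' ∈ rts, B s' s' = 2 → ∀ k, k * t = t * k → (∀ ν, ∃ ν', k * T ν * k⁻¹ = T ν') →
    (∀ x, x ∈ XE E s ↔ k * x * k⁻¹ ∈ XE E s') → (∀ x, x ∈ PT E T s ↔ k * x * k⁻¹ ∈ PT E T s') →
    ∀ w ∈ W s, k * w * k⁻¹ ∈ W s'

/-- The centraliser in `C(t)` of the common part of `P~_s` and `P~_s'` (60 degrees). -/
def K2E (t : G) (E : (Fin 4 → ℤ) → F → G) : Prop :=
  ∀ s ∈ rts, ∀ s' ∈ rts, B s s = 2 → B s' s' = 2 → B s s' = 1 → ∀ c, c * t = t * c →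
    (∀ a ∈ rts, Cs s a → Cs s' a → ∀ u, c * E a u = E a u * c) →
    ∃ x y, c = E s x * E s' y ∨ c = t * (E s x * E s' y)

end Cfsg.Agent.OddHalf.D7F4Ex
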