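import Cfsg.Agent.OddHalf.D7F4Ex.Chain

/-!
# Existence: `D` moves `t` (`q > 2`)

If `H ≤ C_G(t)` is transitive on `X#`, some `h ∈ H` is trivial on `P/Q` and not on `X`, and some `n` normalising `X`, `tX`
moves `t`, then for each `x ∈ X` some `b ∈ C_G(Q)` with `[b, P] ≤ V` has `b t b⁻¹ = t x`.
-/

set_option autoImplicit false
set_option linter.style.haveILetI false

namespace Cfsg.Agent.OddHalf.D7F4Ex.Chain

open Subgroup
open scoped commutatorElement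

variable {G : Type*} [Group G] {t : G} {X V Q P H : Subgroup G}

theorem H_le (S : Chain t X V Q P H) : H ≤ S.N := by
  intro h hh
  refine ⟨S.HX h hh, fun x hx => by simpa using S.HX h⁻¹ (inv_mem hh) x hx, ?_⟩
  have e : t * (h * t * h⁻¹) = 1 := by
    rw [← S.tH h hh]
    calc t * (t * h * h⁻¹) = t * t := by group
      _ = 1 := S.tt
  rw [e]; exact one_mem _

/-- The coset `tX`. -/
def Om (t : G) (X : Subgroup G) : Type _ := {y : G // t * y ∈ X}

instance actOm (S : Chain t X V Q P H) : MulAction S.N (Om t X) where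
  smul n y := ⟨n * y.1 * (n : G)⁻¹, by
    obtain ⟨y, hy⟩ := y
    have h1 := mul_mem n.2.2.2 (n.2.1 _ hy)
    have e : t * ((n : G) * y * (n : G)⁻¹) = t * ((n : G) * t * (n : G)⁻¹) * ((n : G) * (t * y) * (n : G)⁻¹) := by
      calc t * ((n : G) * y * (n : G)⁻¹) = t * (n : G) * 1 * y * (n : G)⁻¹ := by group
        _ = t * (n : G) * (t * t) * y * (n : G)⁻¹ := by rw [S.tt]
        _ = _ := by group
    show t * ((n : G) * y * (n : G)⁻¹) ∈ X
    rwa [e]⟩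
  one_smul y := Subtype.ext (by
    show ((1 : S.N) : G) * y.1 * ((1 : S.N) : G)⁻¹ = y.1
    simp)
  mul_smul a b y := Subtype.ext (by
    show ((a * b : S.N) : G) * y.1 * ((a * b : S.N) : G)⁻¹ = (a : G) * ((b : G) * y.1 * (b : G)⁻¹) * (a : G)⁻¹
    rw [Subgroup.coe_mul]; group)

/-- the point `t` -/
def pt (S : Chain t X V Q P H) : Om t X := ⟨t, by rw [S.tt]; exact one_mem _⟩

theorem isPGroup_X (S : Chain t X V Q P H) : IsPGroup 2 X := by
  rintro ⟨x, hx⟩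
  exact ⟨1, Subtype.ext (by
    show x ^ (2 ^ 1) = 1
    rw [pow_one, pow_two]; exact S.X2 x hx)⟩

theorem card_Om (S : Chain t X V Q P H) : Nat.card (Om t X) = Nat.card X := by
  refine Nat.card_congr ⟨fun y => ⟨t * y.1, y.2⟩, fun x => ⟨t * x.1, ?_⟩, fun y => ?_, fun x => ?_⟩
  · rw [← mul_assoc, S.tt, one_mul]; exact x.2
  · apply Subtype.ext
    show t * (t * y.1) = y.1
    rw [← mul_assoc, S.tt, one_mul]
  · apply Subtype.ext
    show t * (t * x.1) = x.1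
    rw [← mul_assoc, S.tt, one_mul]

/-- `N` is transitive on `tX`. -/
theorem exists_N (S : Chain t X V Q P H)
    (Htr : ∀ x ∈ X, ∀ y ∈ X, x ≠ 1 → y ≠ 1 → ∃ h ∈ H, h * x * h⁻¹ = y)
    {n : G} (hn : n ∈ S.N) (hnt : n * t * n⁻¹ ≠ t) {x : G} (hx : x ∈ X) :
    ∃ m ∈ S.N, m * t * m⁻¹ = t * x := by
  by_cases h1 : x = 1
  · exact ⟨1, one_mem _, by rw [h1]; group⟩
  · set z := t * (n * t * n⁻¹) with hz
    have hzX : z ∈ X := hn.2.2
    have hz1 : z ≠ 1 := by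
      intro h
      apply hnt
      have : t * (n * t * n⁻¹) = t * t := by rw [← hz, h, S.tt]
      exact mul_left_cancel this
    obtain ⟨h, hh, hhz⟩ := Htr z hzX x hx hz1 h1
    refine ⟨h * n, mul_mem (S.H_le hh) hn, ?_⟩
    have e1 : n * t * n⁻¹ = t * z := by rw [hz, ← mul_assoc, S.tt, one_mul]
    calc h * n * t * (h * n)⁻¹ = h * (n * t * n⁻¹) * h⁻¹ := by group
      _ = h * t * z * h⁻¹ := by rw [e1]; group
      _ = t * (h * z * h⁻¹) := by rw [← S.tH h hh]; group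
      _ = t * x := by rw [hhz]

/-- An odd power of each element of `C4` lies in `D`; the index is odd. -/
theorem odd_relIndex (S : Chain t X V Q P H) [Finite G] : Odd (S.D.relIndex S.C4) := by
  classical
  haveI : Fact (Nat.Prime 2) := ⟨Nat.prime_two⟩
  let R : Sylow 2 S.C4 := default
  have h1 : (R : Subgroup S.C4) ≤ S.D.subgroupOf S.C4 := by
    intro g hg
    rw [mem_subgroupOf]
    obtain ⟨k, hk⟩ := (IsPGroup.iff_orderOf.1 R.isPGroup') ⟨g, hg⟩
    have h2 : (g : G) ^ 2 ^ k = 1 := by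
      have h3 : (⟨g, hg⟩ : (R : Subgroup S.C4)) ^ 2 ^ k = 1 := by rw [← hk, pow_orderOf_eq_one]
      have h4 := congrArg (fun z : (R : Subgroup S.C4) => ((z : S.C4) : G)) h3
      exact h4
    exact S.mem_D_of_two g.2 h2
  have h5 : (S.D.subgroupOf S.C4).index ∣ (R : Subgroup S.C4).index := index_dvd_of_le h1
  have h6 : ¬ 2 ∣ (R : Subgroup S.C4).index := R.not_dvd_index
  rw [relIndex, ← Nat.not_even_iff_odd, even_iff_two_dvd]
  exact fun h => h6 (h.trans h5)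

/-- `D` moves `t`. -/
theorem exists_move (S : Chain t X V Q P H) [Finite G]
    (Htr : ∀ x ∈ X, ∀ y ∈ X, x ≠ 1 → y ≠ 1 → ∃ h ∈ H, h * x * h⁻¹ = y)
    (Hne : ∃ h ∈ H, (∀ p ∈ P, h * p * h⁻¹ * p⁻¹ ∈ Q) ∧ ∃ x ∈ X, h * x * h⁻¹ ≠ x)
    {n : G} (hn : n ∈ S.N) (hnt : n * t * n⁻¹ ≠ t) : ∃ d ∈ S.D, d * t * d⁻¹ ≠ t := by
  classical
  by_contra hcon
  push Not at hcon
  letI := S.actOm
  haveI : Finite (Om t X) := by unfold Om; infer_instance
  haveI htrans : MulAction.IsPretransitive S.N (Om t X) := by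
    refine (MulAction.isPretransitive_iff_base S.pt).2 fun y => ?_
    obtain ⟨m, hm, hmt⟩ := S.exists_N Htr hn hnt y.2
    refine ⟨⟨m, hm⟩, Subtype.ext ?_⟩
    show m * t * m⁻¹ = y.1
    rw [hmt, ← mul_assoc, S.tt, one_mul]
  let C := S.C4.subgroupOf S.N
  haveI hCn : C.Normal := ⟨by
    intro c hc g
    rw [mem_subgroupOf] at hc ⊢
    exact S.conj_C4 g.2 hc⟩
  have hb : MulAction.IsBlock S.N (MulAction.orbit C S.pt) := MulAction.IsBlock.orbit_of_normal _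
  have hdvd := hb.ncard_dvd_card ⟨_, MulAction.mem_orbit_self _⟩
  rw [S.card_Om] at hdvd
  have hodd : Odd (MulAction.orbit C S.pt).ncard := by
    rw [← MulAction.index_stabilizer]
    have h1 : (S.D.subgroupOf S.N).subgroupOf C ≤ MulAction.stabilizer C S.pt := by
      intro g hg
      rw [mem_subgroupOf, mem_subgroupOf] at hg
      rw [MulAction.mem_stabilizer_iff]
      exact Subtype.ext (hcon _ hg)
    have h2 := index_dvd_of_le h1
    have h3 : ((S.D.subgroupOf S.N).subgroupOf C).index = S.D.relIndex S.C4 := by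
      show (S.D.subgroupOf S.N).relIndex C = _
      exact relIndex_subgroupOf S.C4_le
    rw [h3] at h2
    exact Odd.of_dvd_nat S.odd_relIndex h2
  obtain ⟨k, hk⟩ := IsPGroup.iff_card.1 S.isPGroup_X
  rw [hk] at hdvd
  have h1 : (MulAction.orbit C S.pt).ncard = 1 := by
    have h2 : (MulAction.orbit C S.pt).ncard.Coprime (2 ^ k) :=
      Nat.Coprime.pow_right _ (Nat.coprime_two_right.2 hodd)
    exact Nat.eq_one_of_dvd_coprimes h2 dvd_rfl hdvd |>.trans rfl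
  have hfix : ∀ c ∈ S.C4, c * t * c⁻¹ = t := by
    intro c hc
    obtain ⟨a, ha⟩ := Set.ncard_eq_one.1 h1
    have e1 : S.pt ∈ MulAction.orbit C S.pt := MulAction.mem_orbit_self _
    have e2 : (⟨⟨c, hc.1⟩, hc⟩ : C) • S.pt ∈ MulAction.orbit C S.pt := MulAction.mem_orbit _ _
    rw [ha, Set.mem_singleton_iff] at e1 e2
    have e3 := e2.trans e1.symm
    exact congrArg Subtype.val e3
  obtain ⟨h, hh, hhP, x, hx, hne⟩ := Hne
  apply hne
  obtain ⟨m, hm, hmt⟩ := S.exists_N Htr hn hnt hx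
  have h2 := hfix _ (S.conj_C4 (inv_mem hm) ⟨S.H_le hh, hhP⟩)
  -- `h` fixes `m t m⁻¹ = t x`
  have h3 : h * (t * x) * h⁻¹ = t * x := by
    rw [← hmt]
    calc h * (m * t * m⁻¹) * h⁻¹ = m * ((m⁻¹ * h * m⁻¹⁻¹) * t * (m⁻¹ * h * m⁻¹⁻¹)⁻¹) * m⁻¹ := by group
      _ = m * t * m⁻¹ := by rw [h2]
  have h4 : t * (h * x * h⁻¹) = t * x := by
    rw [← h3, ← mul_assoc t, ← mul_assoc t, S.tH h hh]; group
  exact mul_left_cancel h4

/-- **Existence.** -/
theorem exists_cent_of_big (S : Chain t X V Q P H) [Finite G]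
    (Htr : ∀ x ∈ X, ∀ y ∈ X, x ≠ 1 → y ≠ 1 → ∃ h ∈ H, h * x * h⁻¹ = y)
    (Hne : ∃ h ∈ H, (∀ p ∈ P, h * p * h⁻¹ * p⁻¹ ∈ Q) ∧ ∃ x ∈ X, h * x * h⁻¹ ≠ x)
    {n : G} (hn : n ∈ S.N) (hnt : n * t * n⁻¹ ≠ t) {A : Subgroup G} (hAP : A ≤ P) (hodd : Odd (Nat.card A))
    {x : G} (hx : x ∈ X) :
    ∃ b : G, (∀ q ∈ Q, b * q = q * b) ∧ (∀ p ∈ P, b * p * b⁻¹ * p⁻¹ ∈ V) ∧ (∀ a ∈ A, b * a = a * b) ∧
      b * t * b⁻¹ = t * x := by
  obtain ⟨d, hd, hdt⟩ := S.exists_move Htr Hne hn hnt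
  by_cases h1 : x = 1
  · exact ⟨1, fun p _ => by rw [one_mul, mul_one], fun p _ => by
      rw [one_mul, inv_one, mul_one, mul_inv_cancel]; exact one_mem _, fun p _ => by rw [one_mul, mul_one],
      by rw [h1]; group⟩
  set z := t * (d * t * d⁻¹) with hz
  have hzX : z ∈ X := hd.1.1.2.2
  have hz1 : z ≠ 1 := by
    intro h
    apply hdt
    have : t * (d * t * d⁻¹) = t * t := by rw [← hz, h, S.tt]
    exact mul_left_cancel this
  obtain ⟨h, hh, hhz⟩ := Htr z hzX x hx hz1 h1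
  obtain ⟨b, hb, hbP, hbt⟩ := S.exists_cent (S.conj_D (S.H_le hh) hd)
  obtain ⟨b', hb', hbP', hbA, hbt', -⟩ := S.exists_avg hAP hodd hb hbP
  refine ⟨b', hb', hbP', hbA, ?_⟩
  have e1 : d * t * d⁻¹ = t * z := by rw [hz, ← mul_assoc, S.tt, one_mul]
  have e2 : h⁻¹ * t = t * h⁻¹ := (S.tH _ (inv_mem hh)).symm
  rw [hbt', hbt]
  calc h * d * h⁻¹ * t * (h * d * h⁻¹)⁻¹ = h * d * (h⁻¹ * t) * h * d⁻¹ * h⁻¹ := by group
    _ = h * (d * t * d⁻¹) * h⁻¹ := by rw [e2]; group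
    _ = h * t * z * h⁻¹ := by rw [e1]; group
    _ = t * (h * z * h⁻¹) := by rw [← S.tH h hh]; group
    _ = t * x := by rw [hhz]

end Cfsg.Agent.OddHalf.D7F4Ex.Chain
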