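import Cfsg.Agent.OddHalf.D7F4Ex.Irr
import Cfsg.Agent.OddHalf.D7F4Ex.Move
import Cfsg.Agent.OddHalf.D7Ex.Norm

/-!
# Existence of `W_s` and its type (`C` or `O`) for `F₄(q)`, `q ≥ 4`

`GData` = the data in `G`; `exists_b`: for `x ∈ X` some `b` with `b t b⁻¹ = t x` centralises
`P~ = ⟨Q, H ∩ C(X_s), l a b⟩` and `[b, c k u] = v k (κ u)`.
-/

set_option autoImplicit false
set_option linter.unusedSectionVars false
set_option linter.style.haveILetI false
set_option linter.unusedSimpArgs false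

namespace Cfsg.Agent.OddHalf.D7F4Ex.Loc

open Subgroup

variable {F : Type*} [Field F] {G : Type*} [Group G] {x0 : F → G} {v : J → F → G} {z : Sp → F → G} {c : J → F → G}
  {l : J → J → F → G} {th : (Fin 3 → Fˣ) →* G}

/-- the generators of `P~` -/
def gT (x0 : F → G) (v : J → F → G) (z : Sp → F → G) (l : J → J → F → G) (th : (Fin 3 → Fˣ) →* G) : Set G :=
  {g | g ∈ gV x0 v ∨ (∃ i a, g = z i a) ∨ (∃ j k a, j.1 ≠ k.1 ∧ g = l j k a) ∨ ∃ ν, g = th ν}

/-- `P~` : what is centralised by `W_s` in all cases -/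
def Pt (x0 : F → G) (v : J → F → G) (z : Sp → F → G) (l : J → J → F → G) (th : (Fin 3 → Fˣ) →* G) : Subgroup G :=
  closure (gT x0 v z l th)

theorem Pt_le_P : Pt x0 v z l th ≤ Ps x0 v z c l th := by
  refine closure_mono fun g hg => ?_
  rcases hg with h | h | h | h
  · exact Or.inl h
  · exact Or.inr (Or.inl h)
  · exact Or.inr (Or.inr (Or.inr (Or.inl h)))
  · exact Or.inr (Or.inr (Or.inr (Or.inr h)))

theorem Q_le_Pt : Qs x0 v z ≤ Pt x0 v z l th := closure_mono fun _ h => h.elim Or.inl fun h => Or.inr (Or.inl h)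

/-- The data in `G`. -/
structure GData (t : G) (hs : Fˣ →* G) (x0 : F → G) (v : J → F → G) (z : Sp → F → G) (c : J → F → G)
    (l : J → J → F → G) (th : (Fin 3 → Fˣ) →* G) : Prop where
  tt : t * t = 1
  tX : ∀ a, t ≠ x0 a
  tP : ∀ p ∈ Ps x0 v z c l th, t * p = p * t
  th' : ∀ a, t * hs a = hs a * t
  hs_x0 : ∀ μ a, hs μ * x0 a * (hs μ)⁻¹ = x0 ((μ : F) ^ 2 * a)
  hs_v : ∀ μ j a, hs μ * v j a * (hs μ)⁻¹ = v j ((μ : F) ^ 2 * a)
  hs_z : ∀ μ i a, hs μ * z i a * (hs μ)⁻¹ = z i ((μ : F) * a)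
  hs_c : ∀ μ j a, hs μ * c j a = c j a * hs μ
  hs_l : ∀ μ j k a, j.1 ≠ k.1 → hs μ * l j k a = l j k a * hs μ
  hs_th : ∀ μ ν, hs μ * th ν = th ν * hs μ
  /-- an element normalising `X` and `t X` normalises `P`, `Q`, `V` -/
  nP : ∀ n : G, (∀ x ∈ Xs x0, n * x * n⁻¹ ∈ Xs x0) → t * (n * t * n⁻¹) ∈ Xs x0 →
    (∀ p ∈ Ps x0 v z c l th, n * p * n⁻¹ ∈ Ps x0 v z c l th) ∧ (∀ q ∈ Qs x0 v z, n * q * n⁻¹ ∈ Qs x0 v z) ∧
      (∀ y ∈ Vs x0 v, n * y * n⁻¹ ∈ Vs x0 v)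
  cP : ∀ g, t * g = g * t → (∀ p ∈ Pt x0 v z l th, g * p = p * g) → g ∈ Xs x0 ∨ t * g ∈ Xs x0

section

variable (L : Loc x0 v z c l th)

include L

theorem odd_card [Finite F] : Odd (Nat.card Fˣ) := by
  classical
  haveI := Fintype.ofFinite F
  haveI : CharP F 2 := by
    refine CharTwo.of_one_ne_zero_of_two_eq_zero one_ne_zero ?_
    have := L.two 1
    rwa [one_add_one_eq_two] at this
  have h1 : Fintype.card F % 2 = 0 := FiniteField.even_card_of_char_two ((CharP.ringChar_of_prime_eq_zero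
    Nat.prime_two (by have := L.two 1; rw [one_add_one_eq_two] at this; exact_mod_cast this)))
  have h2 : Nat.card Fˣ = Fintype.card F - 1 := by
    rw [Nat.card_eq_fintype_card, Fintype.card_units]
  have h3 : 0 < Fintype.card F := Fintype.card_pos
  rw [h2]
  rw [Nat.odd_iff]
  omega

theorem odd_range [Finite F] : Odd (Nat.card th.range) := by
  have h1 : Nat.card th.range ∣ Nat.card (Fin 3 → Fˣ) := by
    exact Subgroup.card_range_dvd th
  refine Odd.of_dvd_nat ?_ h1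
  rw [Nat.card_fun]
  exact (L.odd_card).pow

variable {t : G} {hs : Fˣ →* G} (D : GData t hs x0 v z c l th)

include D

/-- The chain. -/
theorem chain [Finite F] : Chain t (Xs x0) (Vs x0 v) (Qs x0 v z) (Ps x0 v z c l th) hs.range where
  tt := D.tt
  tX := fun h => by
    obtain ⟨a, ha⟩ := L.mem_X.1 h
    exact D.tX a ha
  X2 := fun x hx => L.V2 (z := z) (X_le_V hx)
  XV := X_le_V
  VQ := V_le_Q
  QP := Q_le_P
  V2 := fun x hx => L.V2 (z := z) hx
  Q2 := fun x hx => L.Q2 hx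
  tP := D.tP
  XP := fun x hx p hp => L.XP hx hp
  VQc := fun x hx q hq => L.VQ hx hq
  PQ := fun p hp q hq => L.PQ hp hq
  PV := fun p hp q hq => L.PV hp hq
  tH := by rintro _ ⟨a, rfl⟩; exact D.th' a
  HX := by
    rintro _ ⟨μ, rfl⟩ x hx
    obtain ⟨a, rfl⟩ := L.mem_X.1 hx
    rw [D.hs_x0]; exact L.x0_mem _
  nP := D.nP
  XQQ := L.X_le_comm
  QQ := fun x hx y hy => L.QQ hx hy
  ZQ := fun q hq h => L.ZQ hq h
  irrQ := fun R h1 h2 h3 => L.irrQ h1 h2 h3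
  irrV := fun R h1 h2 h3 => L.irrV h1 h2 h3
  neQ := L.neQ
  neV := L.neV
  hQ := fun d h1 h2 _ => L.hQ h1 h2
  hV := fun d h1 h2 _ => L.hV h1 h2
  E2 := L.E2

omit D

/-- uniqueness of `x0 α * v k β` -/
theorem x0v_unique {k : J} {α β α' β' : F} (h : x0 α * v k β = x0 α' * v k β') : α = α' ∧ β = β' := by
  have h1 : x0 (α' + α) = v k (β' + β) := by
    have h2 : (x0 α')⁻¹ * x0 α = v k β' * (v k β)⁻¹ := by
      calc (x0 α')⁻¹ * x0 α = (x0 α')⁻¹ * (x0 α * v k β) * (v k β)⁻¹ := by group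
        _ = _ := by rw [h]; group
    rwa [inv_of_add L.two L.x0_add, inv_of_add L.two (L.v_add k), ← L.x0_add, ← L.v_add] at h2
  have h3 := L.xv _ _ _ h1
  have h4 := (L.add_eq_zero h3).symm
  refine ⟨?_, h4⟩
  rw [h3, zero_of_add (L.v_add k)] at h1
  exact (L.add_eq_zero (L.x0_inj _ h1)).symm

/-- the properties of `b` -/
structure Bp (x0 : F → G) (v : J → F → G) (z : Sp → F → G) (c : J → F → G) (l : J → J → F → G)
    (th : (Fin 3 → Fˣ) →* G) (b : G) : Prop where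
  Q : ∀ q ∈ Qs x0 v z, b * q = q * b
  P : ∀ p ∈ Ps x0 v z c l th, b * p * b⁻¹ * p⁻¹ ∈ Vs x0 v
  A : ∀ ν, b * th ν = th ν * b

/-- the commutator with `b` transforms under the torus as the element does -/
theorem Bp.torus {b : G} (B : Bp x0 v z c l th b) (ν : Fin 3 → Fˣ) (p p' : G) (h : th ν * p * (th ν)⁻¹ = p') :
    th ν * (b * p * b⁻¹ * p⁻¹) * (th ν)⁻¹ = b * p' * b⁻¹ * p'⁻¹ := by
  have h1 := B.A ν
  have h2 : (th ν)⁻¹ * b⁻¹ = b⁻¹ * (th ν)⁻¹ := by rw [← mul_inv_rev, h1, mul_inv_rev]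
  rw [← h]
  calc th ν * (b * p * b⁻¹ * p⁻¹) * (th ν)⁻¹ = (th ν * b) * p * b⁻¹ * p⁻¹ * (th ν)⁻¹ := by group
    _ = b * th ν * p * b⁻¹ * p⁻¹ * (th ν)⁻¹ := by rw [← h1]
    _ = b * th ν * p * (b⁻¹ * (th ν)⁻¹) * th ν * p⁻¹ * (th ν)⁻¹ := by group
    _ = b * th ν * p * ((th ν)⁻¹ * b⁻¹) * th ν * p⁻¹ * (th ν)⁻¹ := by rw [h2]
    _ = _ := by group

/-- a coordinate vanishes if the torus moves it -/
theorem CoV.eq_zero {g : G} {r : F} {ω : J → F} (h : L.CoV g r ω) {ν : Fin 3 → Fˣ}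
    (h1 : th ν * g * (th ν)⁻¹ = g) {j : J} (hj : wt ν j ≠ 1) : ω j = 0 := by
  have h2 := CoV.torus L h ν
  rw [h1] at h2
  have h3 := congrFun (CoV.unique L h h2) j
  have h4 : ((wt ν j : F) + 1) * ω j = 0 := by
    have h5 := L.two (ω j)
    calc ((wt ν j : F) + 1) * ω j = (wt ν j : F) * ω j + ω j := by ring
      _ = ω j + ω j := by rw [← h3]
      _ = 0 := h5
  rcases mul_eq_zero.1 h4 with h5 | h5
  · exfalso; apply hj
    exact Units.ext (L.add_eq_zero h5)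
  · exact h5

theorem sq_ne {μ : Fˣ} (h : μ ≠ 1) : μ ^ 2 ≠ 1 := by
  intro h2
  apply h
  have h3 : (μ : F) ^ 2 = 1 := by rw [← Units.val_pow_eq_pow_val, h2, Units.val_one]
  have h4 : ((μ : F) + 1) * ((μ : F) + 1) = 0 := by
    calc ((μ : F) + 1) * ((μ : F) + 1) = (μ : F) ^ 2 + 1 + ((μ : F) + μ) := by ring
      _ = 0 := by rw [h3, L.two, L.two, add_zero]
  exact Units.ext (L.add_eq_zero (mul_self_eq_zero.1 h4))

/-- `b` commutes with the root groups of the other length orthogonal to `s` -/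
theorem Bp.comm_l {b : G} (B : Bp x0 v z c l th b) {j k : J} (hjk : j.1 ≠ k.1) (u : F) : b * l j k u = l j k u * b := by
  obtain ⟨μ, hμ⟩ := L.big
  have hμ2 := L.sq_ne hμ
  have key : ∀ u, ∃ r, b * l j k u * b⁻¹ * (l j k u)⁻¹ = x0 r := by
    intro u
    obtain ⟨r, ω, hω⟩ := L.exists_coV (B.P _ (l_mem hjk u))
    refine ⟨r, ?_⟩
    have h0 : ω = 0 := by
      funext m
      -- a torus element trivial on `l j k` and not on `v m`
      obtain ⟨ν, hν1, hν2⟩ : ∃ ν : Fin 3 → Fˣ, wt ν j * wt ν k = 1 ∧ wt ν m ≠ 1 := by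
        by_cases hm : m.1 = j.1 ∨ m.1 = k.1
        · refine ⟨fun i => if i = j.1 then μ else if i = k.1 then (if j.2 = k.2 then μ⁻¹ else μ) else 1, ?_, ?_⟩
          · rcases j with ⟨j, sj⟩
            rcases k with ⟨k, sk⟩
            simp only at hjk
            cases sj <;> cases sk <;> simp [wt, hjk, Ne.symm hjk]
          · rcases j with ⟨j, sj⟩
            rcases k with ⟨k, sk⟩
            rcases m with ⟨m, sm⟩
            simp only at hjk hm
            have hμi : (μ⁻¹) ^ 2 ≠ 1 := by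
              rw [inv_pow]; exact fun h => hμ2 (inv_eq_one.1 h)
            rcases hm with rfl | rfl
            · cases sm <;> simp [wt, hμ2, hμi]
            · cases sm <;> cases sj <;> cases sk <;> simp [wt, Ne.symm hjk, hμ2, hμi]
        · push Not at hm
          refine ⟨fun i => if i = m.1 then μ else 1, ?_, ?_⟩
          · simp [wt, Ne.symm hm.1, Ne.symm hm.2]
          · have hμi : (μ⁻¹) ^ 2 ≠ 1 := by
              rw [inv_pow]; exact fun h => hμ2 (inv_eq_one.1 h)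
            rcases m with ⟨m, sm⟩
            cases sm <;> simp [wt, hμ2, hμi]
      have h1 : th ν * (b * l j k u * b⁻¹ * (l j k u)⁻¹) * (th ν)⁻¹ = b * l j k u * b⁻¹ * (l j k u)⁻¹ := by
        refine Bp.torus L B ν _ _ ?_
        rw [L.th_l _ _ _ _ hjk, ← Units.val_mul, hν1, Units.val_one, one_mul]
      exact CoV.eq_zero L hω h1 hν2
    rw [h0] at hω
    exact CoV.mem_X L hω
  choose g hg using key
  have hadd : ∀ u u', g (u + u') = g u + g u' := by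
    intro u u'
    have h1 := hg (u + u')
    rw [L.l_add _ _ _ _ hjk] at h1
    have h2 := L.x0_l (g u') j k u hjk
    have h3 : x0 (g u + g u') = x0 (g (u + u')) := by
      rw [← h1, L.x0_add, ← hg u, ← hg u']
      have h4 : (b * l j k u' * b⁻¹ * (l j k u')⁻¹) * (l j k u)⁻¹ =
          (l j k u)⁻¹ * (b * l j k u' * b⁻¹ * (l j k u')⁻¹) := by
        rw [hg u', inv_of_add L.two (fun a b => L.l_add j k a b hjk), h2]
      calc b * l j k u * b⁻¹ * (l j k u)⁻¹ * (b * l j k u' * b⁻¹ * (l j k u')⁻¹)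
          = b * l j k u * b⁻¹ * ((l j k u)⁻¹ * (b * l j k u' * b⁻¹ * (l j k u')⁻¹)) := by group
        _ = b * l j k u * b⁻¹ * ((b * l j k u' * b⁻¹ * (l j k u')⁻¹) * (l j k u)⁻¹) := by rw [h4]
        _ = _ := by group
    have h5 : x0 (g (u + u') + (g u + g u')) = 1 := by
      rw [L.x0_add, h3, self_of_add L.two L.x0_add]
    exact L.add_eq_zero (L.x0_inj _ h5)
  -- invariance under the torus
  obtain ⟨ν, hν1, hν2⟩ : ∃ ν : Fin 3 → Fˣ, wt ν j * wt ν k ≠ 1 ∧ True := by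
    refine ⟨fun i => if i = j.1 then μ else 1, ?_, trivial⟩
    have hμi : (μ⁻¹) ^ 2 ≠ 1 := by
      rw [inv_pow]; exact fun h => hμ2 (inv_eq_one.1 h)
    rcases j with ⟨j, sj⟩
    rcases k with ⟨k, sk⟩
    simp only at hjk
    cases sj <;> cases sk <;> simp [wt, hμ2, hμi, Ne.symm hjk]
  have hinv : ∀ u, g ((wt ν j * wt ν k : Fˣ) * u) = g u := by
    intro u
    have h1 := Bp.torus L B ν (l j k u) _ rfl
    rw [hg, L.th_x0, mul_inv_cancel_right, L.th_l _ _ _ _ hjk, ← Units.val_mul, hg] at h1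
    have h5 : x0 (g ((wt ν j * wt ν k : Fˣ) * u) + g u) = 1 := by
      rw [L.x0_add, h1, self_of_add L.two L.x0_add]
    exact L.add_eq_zero (L.x0_inj _ h5)
  have h0 := L.add_zero_of_inv hadd (fun h => hν1 (Units.ext h)) hinv u
  have h1 := hg u
  rw [h0, zero_of_add L.x0_add] at h1
  calc b * l j k u = (b * l j k u * b⁻¹ * (l j k u)⁻¹) * (l j k u * b) := by group
    _ = _ := by rw [h1, one_mul]

/-- the commutator of `b` with the root groups of the same length orthogonal to `s` -/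
theorem Bp.exists_c [Finite F] {b : G} (B : Bp x0 v z c l th b) (k : J) :
    ∃ κ : F, ∀ u, b * c k u * b⁻¹ = v k (κ * u) * c k u := by
  obtain ⟨μ, hμ⟩ := L.big
  have hμ2 := L.sq_ne hμ
  have hμi : (μ⁻¹) ^ 2 ≠ 1 := by
    rw [inv_pow]; exact fun h => hμ2 (inv_eq_one.1 h)
  have key : ∀ u, ∃ r φ, b * c k u * b⁻¹ * (c k u)⁻¹ = x0 r * v k φ := by
    intro u
    obtain ⟨r, ω, hω⟩ := L.exists_coV (B.P _ (c_mem k u))
    refine ⟨r, ω k, ?_⟩
    have h0 : ω = Pi.single k (ω k) := by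
      funext m
      by_cases hmk : m = k
      · rw [hmk, Pi.single_eq_same]
      rw [Pi.single_eq_of_ne hmk]
      by_cases hm : m = ng k
      · -- `c` is an involution
        set δ := b * c k u * b⁻¹ * (c k u)⁻¹ with hδ
        have hcc := self_of_add L.two (L.c_add k) u
        have h1 : (b * c k u * b⁻¹) * (b * c k u * b⁻¹) = 1 := by
          calc (b * c k u * b⁻¹) * (b * c k u * b⁻¹) = b * (c k u * c k u) * b⁻¹ := by group
            _ = 1 := by rw [hcc]; group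
        have h2 : b * c k u * b⁻¹ = δ * c k u := by rw [hδ]; group
        rw [h2] at h1
        have h3 : c k u * δ * (c k u)⁻¹ = δ := by
          have h4 : δ * δ = 1 := L.V2 (z := z) (B.P _ (c_mem k u))
          calc c k u * δ * (c k u)⁻¹ = δ⁻¹ * (δ * c k u * (δ * c k u)) * (c k u * c k u)⁻¹ := by group
            _ = δ⁻¹ := by rw [h1, hcc]; group
            _ = δ := inv_eq_of_mul_eq_one_left h4
        by_cases hu : u = 0
        · have h4 : δ = 1 := by rw [hδ, hu, zero_of_add (L.c_add k)]; group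
          have h5 : L.CoV δ 0 0 := by
            rw [h4]
            refine ⟨by rw [L.vv_zero, mul_one, zero_of_add L.x0_add], fun k u => ?_⟩
            rw [Pi.zero_apply, mul_zero, mul_zero, zero_of_add L.x0_add, zero_of_add (L.v_add k), one_mul, one_mul,
              mul_one, mul_inv_cancel]
          rw [CoV.unique L hω h5]; rfl
        · have h4 := hω.act k u
          rw [h3] at h4
          have h5 : x0 (u * ω (ng k)) * v k (u ^ 2 * ω (ng k)) = x0 0 * v k 0 := by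
            rw [zero_of_add L.x0_add, zero_of_add (L.v_add k), one_mul]
            exact mul_right_cancel (b := δ) (by rw [one_mul]; exact h4.symm)
          have h6 := (L.x0v_unique h5).1
          rw [hm]
          exact (mul_eq_zero.1 h6).resolve_left hu
      · have hm1 : m.1 ≠ k.1 := by
          intro h
          rcases m with ⟨m, sm⟩
          rcases k with ⟨k, sk⟩
          simp only at h
          subst h
          cases sm <;> cases sk <;> simp_all [ng]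
        refine CoV.eq_zero L hω (ν := fun i => if i = m.1 then μ else 1) ?_ ?_
        · refine Bp.torus L B _ _ _ ?_
          rw [L.th_c]
          have : wt (fun i => if i = m.1 then μ else 1) k = 1 := by
            simp [wt, Ne.symm hm1]
          rw [this, Units.val_one, one_mul]
        · rcases m with ⟨m, sm⟩
          cases sm <;> simp [wt, hμ2, hμi]
    have h1 := hω.eq
    rw [h1]
    congr 1
    rw [h0, L.vv_single, Pi.single_eq_same]
  choose g φ hg using key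
  have hck : k ≠ ng k := fun h => ng_ne k h.symm
  have hadd : ∀ u u', g (u + u') = g u + g u' ∧ φ (u + u') = φ u + φ u' := by
    intro u u'
    apply L.x0v_unique (k := k)
    have h1 : x0 (g u') * v k (φ u') * c k u = c k u * (x0 (g u') * v k (φ u')) := by
      rw [← mul_assoc, ← L.x0_c, mul_assoc, mul_assoc, L.c_v' _ _ _ _ hck]
    have h2 := hg (u + u')
    rw [L.c_add] at h2
    rw [← h2]
    have h3 : b * (c k u * c k u') * b⁻¹ * (c k u * c k u')⁻¹ =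
        (b * c k u * b⁻¹ * (c k u)⁻¹) * (c k u * (b * c k u' * b⁻¹ * (c k u')⁻¹) * (c k u)⁻¹) := by group
    rw [h3, hg u, hg u', ← h1, mul_inv_cancel_right, L.x0_add, L.v_add]
    calc x0 (g u) * v k (φ u) * (x0 (g u') * v k (φ u')) = x0 (g u) * (v k (φ u) * x0 (g u')) * v k (φ u') := by
          group
      _ = _ := by rw [← L.x0_v]; group
  have htor : ∀ (a : Fˣ) u, g (a * u) = g u ∧ φ (a * u) = a * φ u := by
    intro a u
    obtain ⟨ν, hν⟩ := L.exists_wt k a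
    apply L.x0v_unique (k := k)
    have h1 := Bp.torus L B ν (c k u) _ rfl
    rw [hg, L.th_c, hν, hg] at h1
    rw [← h1]
    calc th ν * (x0 (g u) * v k (φ u)) * (th ν)⁻¹ = (th ν * x0 (g u)) * (th ν)⁻¹ * (th ν * v k (φ u) * (th ν)⁻¹) := by
          group
      _ = _ := by rw [L.th_x0, mul_inv_cancel_right, L.th_v, hν]
  refine ⟨φ 1, fun u => ?_⟩
  have h0 : g u = 0 := L.add_zero_of_inv (fun a b => (hadd a b).1) (fun h => hμ (Units.ext h))
    (fun a => (htor μ a).1) u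
  have h1 : φ u = φ 1 * u := by
    by_cases hu : u = 0
    · have h2 := (hadd 0 0).2
      rw [add_zero] at h2
      have h3 : φ 0 = 0 := by
        have := L.two (φ 0)
        rw [← h2] at this; exact this
      rw [hu, h3, mul_zero]
    · have h2 := (htor (Units.mk0 u hu) 1).2
      rw [Units.val_mk0, mul_one] at h2
      rw [h2, mul_comm]
  have h2 := hg u
  rw [h0, h1, zero_of_add L.x0_add, one_mul] at h2
  rw [← h2]; group

theorem Bp.exists_kappa [Finite F] {b : G} (B : Bp x0 v z c l th b) :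
    ∃ κ : F, ∀ k u, b * c k u * b⁻¹ = v k (κ * u) * c k u := by
  choose κ hκ using fun k => Bp.exists_c L B k
  have step : ∀ a b' : J, a.1 ≠ b'.1 → κ (ng a) = κ b' := by
    intro a b' hab
    have h1 := L.l_c a b' 1 1 hab
    rw [one_mul, one_pow, one_mul] at h1
    have hngb : (b').1 ≠ (ng a).1 := Ne.symm hab
    -- conjugate by `b`
    have e1 : b * (l a b' 1 * c (ng a) 1 * (l a b' 1)⁻¹) * b⁻¹ =
        l a b' 1 * (b * c (ng a) 1 * b⁻¹) * (l a b' 1)⁻¹ := by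
      have h2 := Bp.comm_l L B hab 1
      have h3 : (l a b' 1)⁻¹ * b⁻¹ = b⁻¹ * (l a b' 1)⁻¹ := by rw [← mul_inv_rev, h2, mul_inv_rev]
      calc b * (l a b' 1 * c (ng a) 1 * (l a b' 1)⁻¹) * b⁻¹ = (b * l a b' 1) * c (ng a) 1 * ((l a b' 1)⁻¹ * b⁻¹) := by
            group
        _ = _ := by rw [h2, h3]; group
    have e2 : l a b' 1 * (b * c (ng a) 1 * b⁻¹) * (l a b' 1)⁻¹ =
        v b' (κ (ng a)) * v (ng a) (κ (ng a)) * (c b' 1 * l b' (ng a) 1 * c (ng a) 1) := by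
      rw [hκ, mul_one]
      calc l a b' 1 * (v (ng a) (κ (ng a)) * c (ng a) 1) * (l a b' 1)⁻¹
          = (l a b' 1 * v (ng a) (κ (ng a)) * (l a b' 1)⁻¹) * (l a b' 1 * c (ng a) 1 * (l a b' 1)⁻¹) := by group
        _ = _ := by rw [L.l_v _ _ _ _ hab, h1, one_mul]
    have e3 : b * (c b' 1 * l b' (ng a) 1 * c (ng a) 1) * b⁻¹ =
        v b' (κ b') * v (ng a) (κ (ng a)) * (c b' 1 * l b' (ng a) 1 * c (ng a) 1) := by
      have h2 := Bp.comm_l L B hngb 1
      have hne1 : ng a ≠ ng b' := fun h => hab (congrArg Prod.fst h : (ng a).1 = (ng b').1)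
      have hne2 : ng a ≠ ng (ng a) := fun h => ng_ne (ng a) h.symm
      have h3 := L.l_v' b' (ng a) 1 (ng a) (κ (ng a)) hngb hne1 hne2
      have h4 := L.c_v' b' 1 (ng a) (κ (ng a)) hne1
      calc b * (c b' 1 * l b' (ng a) 1 * c (ng a) 1) * b⁻¹
          = (b * c b' 1 * b⁻¹) * (b * l b' (ng a) 1) * b⁻¹ * (b * c (ng a) 1 * b⁻¹) := by group
        _ = v b' (κ b') * c b' 1 * (l b' (ng a) 1 * v (ng a) (κ (ng a))) * c (ng a) 1 := by
          rw [hκ b', hκ (ng a), mul_one, mul_one, h2]; group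
        _ = v b' (κ b') * (c b' 1 * v (ng a) (κ (ng a))) * l b' (ng a) 1 * c (ng a) 1 := by rw [h3]; group
        _ = _ := by rw [h4]; group
    have e4 := e1.symm.trans ((congrArg (fun y => b * y * b⁻¹) h1).trans e3)
    rw [e2] at e4
    have e5 := mul_right_cancel (mul_right_cancel e4)
    have e6 : v b' (κ (ng a) + κ b') = 1 := by
      rw [L.v_add, e5, self_of_add L.two (L.v_add b')]
    exact L.add_eq_zero (L.v_inj e6)
  have hall : ∀ j k : J, κ j = κ k := by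
    have h1 : ∀ j k : J, j.1 ≠ k.1 → κ j = κ k := by
      intro j k hjk
      have := step (ng j) k hjk
      rwa [ng_ng] at this
    intro j k
    by_cases h : j.1 = k.1
    · obtain ⟨i, hi⟩ : ∃ i : Fin 3, i ≠ j.1 := exists_ne _
      rw [h1 j (i, true) (Ne.symm hi), h1 (i, true) k (by rw [← h]; exact hi)]
    · exact h1 j k h
  exact ⟨κ (0, true), fun k u => by rw [hκ k, hall k (0, true)]⟩

/-! ### The group `W` -/

theorem th_mem_Pt (ν : Fin 3 → Fˣ) : th ν ∈ Pt x0 v z l th := subset_closure (Or.inr (Or.inr (Or.inr ⟨ν, rfl⟩)))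

theorem l_mem_Pt {j k : J} (h : j.1 ≠ k.1) (a : F) : l j k a ∈ Pt x0 v z l th :=
  subset_closure (Or.inr (Or.inr (Or.inl ⟨j, k, a, h, rfl⟩)))

/-- the elements `b` centralise `P~` -/
theorem Bp.comm_Pt {b : G} (B : Bp x0 v z c l th b) {p : G} (hp : p ∈ Pt x0 v z l th) : b * p = p * b := by
  have hle : Pt x0 v z l th ≤ centralizer {b} := by
    rw [Pt, closure_le]
    intro g hg
    rw [SetLike.mem_coe, mem_centralizer_singleton_iff]
    rcases hg with h | ⟨i, a, rfl⟩ | ⟨j, k, a, h, rfl⟩ | ⟨ν, rfl⟩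
    · exact (B.Q _ (V_le_Q (subset_closure h))).symm
    · exact (B.Q _ (z_mem i a)).symm
    · exact (Bp.comm_l L B h a).symm
    · exact (B.A ν).symm
  exact (mem_centralizer_singleton_iff.1 (hle hp)).symm

include D

/-- **Existence.** -/
theorem exists_b [Finite F] [Finite G] {n : G} (hn1 : ∀ x ∈ Xs x0, n * x * n⁻¹ ∈ Xs x0)
    (hn2 : ∀ x ∈ Xs x0, n⁻¹ * x * n ∈ Xs x0) (hn3 : t * (n * t * n⁻¹) ∈ Xs x0) (hnt : n * t * n⁻¹ ≠ t) {x : G}
    (hx : x ∈ Xs x0) : ∃ b : G, Bp x0 v z c l th b ∧ b * t * b⁻¹ = t * x := by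
  have S := L.chain D
  obtain ⟨μ, hμ⟩ := L.big
  obtain ⟨b, h1, h2, h3, h4⟩ := S.exists_cent_of_big
    (by
      rintro x hx y hy hx1 hy1
      obtain ⟨a, rfl⟩ := L.mem_X.1 hx
      obtain ⟨a', rfl⟩ := L.mem_X.1 hy
      have ha : a ≠ 0 := fun h => hx1 (by rw [h, zero_of_add L.x0_add])
      have ha' : a' ≠ 0 := fun h => hy1 (by rw [h, zero_of_add L.x0_add])
      obtain ⟨β, hβ⟩ := L.exists_sqrt_unit (Units.mk0 a' ha' * (Units.mk0 a ha)⁻¹)
      refine ⟨hs β, ⟨β, rfl⟩, ?_⟩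
      rw [D.hs_x0, ← Units.val_pow_eq_pow_val, hβ, Units.val_mul, Units.val_mk0, Units.val_inv_eq_inv_val,
        Units.val_mk0, mul_assoc, inv_mul_cancel₀ ha, mul_one])
    (by
      refine ⟨hs μ, ⟨μ, rfl⟩, fun p hp => ?_, x0 1, L.x0_mem 1, fun h => ?_⟩
      · induction hp using closure_induction with
        | mem g hg =>
          have triv : hs μ * g = g * hs μ → hs μ * g * (hs μ)⁻¹ * g⁻¹ ∈ Qs x0 v z := fun h => by
            rw [h, mul_inv_cancel_right, mul_inv_cancel]; exact one_mem _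
          rcases hg with (⟨b, rfl⟩ | ⟨j, b, rfl⟩) | ⟨i, b, rfl⟩ | ⟨j, b, rfl⟩ | ⟨j, k, b, h, rfl⟩ | ⟨ν, rfl⟩
          · rw [D.hs_x0]
            exact mul_mem (V_le_Q (X_le_V (L.x0_mem _))) (inv_mem (V_le_Q (X_le_V (L.x0_mem _))))
          · rw [D.hs_v]; exact mul_mem (V_le_Q (v_mem _ _)) (inv_mem (V_le_Q (v_mem _ _)))
          · rw [D.hs_z]; exact mul_mem (z_mem _ _) (inv_mem (z_mem _ _))
          · exact triv (D.hs_c _ _ _)
          · exact triv (D.hs_l _ _ _ _ h)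
          · exact triv (D.hs_th _ _)
        | one => rw [mul_one, mul_inv_cancel, inv_one, mul_one]; exact one_mem _
        | mul g g' hg hg' ih1 ih2 =>
          have e : hs μ * (g * g') * (hs μ)⁻¹ * (g * g')⁻¹ =
            (hs μ * g * (hs μ)⁻¹ * g⁻¹) * (g * (hs μ * g' * (hs μ)⁻¹ * g'⁻¹) * g⁻¹) := by group
          rw [e]; exact mul_mem ih1 (L.PQ hg ih2)
        | inv g hg ih =>
          have e : hs μ * g⁻¹ * (hs μ)⁻¹ * g⁻¹⁻¹ = g⁻¹ * (hs μ * g * (hs μ)⁻¹ * g⁻¹)⁻¹ * g⁻¹⁻¹ := by group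
          rw [e]; exact L.PQ (inv_mem hg) (inv_mem ih)
      · rw [D.hs_x0, mul_one] at h
        have h1 : x0 ((μ : F) ^ 2 + 1) = 1 := by rw [L.x0_add, h, self_of_add L.two L.x0_add]
        have h2 := L.add_eq_zero (L.x0_inj _ h1)
        exact L.sq_ne hμ (Units.ext (by rw [Units.val_pow_eq_pow_val, h2, Units.val_one])))
    (show n ∈ S.N from ⟨hn1, hn2, hn3⟩) hnt (A := th.range)
    (by rintro _ ⟨ν, rfl⟩; exact th_mem ν) L.odd_range hx
  exact ⟨b, ⟨h1, h2, fun ν => h3 _ ⟨ν, rfl⟩⟩, h4⟩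

/-- The hypotheses of `D7Ex.Cent` for `P~`. -/
theorem cent [Finite F] [Finite G] {n : G} (hn1 : ∀ x ∈ Xs x0, n * x * n⁻¹ ∈ Xs x0)
    (hn2 : ∀ x ∈ Xs x0, n⁻¹ * x * n ∈ Xs x0) (hn3 : t * (n * t * n⁻¹) ∈ Xs x0) (hnt : n * t * n⁻¹ ≠ t) :
    D7Ex.Cent t (Xs x0) (Pt x0 v z l th) where
  tt := D.tt
  tX := (L.chain D).tX
  X2 := (L.chain D).X2
  XP := X_le_V.trans (V_le_Q.trans Q_le_Pt)
  tP := fun p hp => D.tP p (Pt_le_P hp)
  Xc := fun x hx p hp => L.XP hx (Pt_le_P hp)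
  cP := D.cP
  ex := fun x hx => by
    obtain ⟨b, hb, hbt⟩ := L.exists_b D hn1 hn2 hn3 hnt hx
    exact ⟨b, fun p hp => Bp.comm_Pt L hb hp, hbt⟩

/-- conjugation by `h_s(μ)` preserves `P~` -/
theorem hs_Pt (μ : Fˣ) {p : G} (hp : p ∈ Pt x0 v z l th) :
    hs μ * p * (hs μ)⁻¹ ∈ Pt x0 v z l th := by
  induction hp using closure_induction with
  | mem g hg =>
    have hg' : g ∈ Pt x0 v z l th := subset_closure hg
    have triv : hs μ * g = g * hs μ → hs μ * g * (hs μ)⁻¹ ∈ Pt x0 v z l th := fun h => by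
      rw [h, mul_inv_cancel_right]; exact hg'
    rcases hg with (⟨b, rfl⟩ | ⟨j, b, rfl⟩) | ⟨i, b, rfl⟩ | ⟨j, k, b, h, rfl⟩ | ⟨ν, rfl⟩
    · rw [D.hs_x0]; exact Q_le_Pt (V_le_Q (X_le_V (L.x0_mem _)))
    · rw [D.hs_v]; exact Q_le_Pt (V_le_Q (v_mem _ _))
    · rw [D.hs_z]; exact Q_le_Pt (z_mem _ _)
    · exact triv (D.hs_l _ _ _ _ h)
    · exact triv (D.hs_th _ _)
  | one => rw [mul_one, mul_inv_cancel]; exact one_mem _
  | mul g g' _ _ ih1 ih2 =>
    have e : hs μ * (g * g') * (hs μ)⁻¹ = (hs μ * g * (hs μ)⁻¹) * (hs μ * g' * (hs μ)⁻¹) := by group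
    rw [e]; exact mul_mem ih1 ih2
  | inv g _ ih =>
    have e : hs μ * g⁻¹ * (hs μ)⁻¹ = (hs μ * g * (hs μ)⁻¹)⁻¹ := by group
    rw [e]; exact inv_mem ih

theorem nice_hs (μ ρ : Fˣ) : D7Ex.Nice t (Xs x0) (Pt x0 v z l th) (hs μ) (hs ρ) where
  kt := (D.th' ρ).symm
  kX := by
    have h1 : ∀ (ρ : Fˣ) (x : G), x ∈ Xs x0 → hs ρ * x * (hs ρ)⁻¹ ∈ Xs x0 := by
      intro ρ x hx
      obtain ⟨a, rfl⟩ := L.mem_X.1 hx
      rw [D.hs_x0]; exact L.x0_mem _
    intro x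
    refine ⟨h1 ρ x, fun h => ?_⟩
    have h2 := h1 ρ⁻¹ _ h
    rw [map_inv] at h2
    have e : (hs ρ)⁻¹ * (hs ρ * x * (hs ρ)⁻¹) * (hs ρ)⁻¹⁻¹ = x := by group
    rwa [e] at h2
  kP := by
    intro p
    refine ⟨L.hs_Pt D ρ, fun h => ?_⟩
    have h2 := L.hs_Pt D ρ⁻¹ h
    rw [map_inv] at h2
    have e : (hs ρ)⁻¹ * (hs ρ * p * (hs ρ)⁻¹) * (hs ρ)⁻¹⁻¹ = p := by group
    rwa [e] at h2
  kh := by
    rw [← map_mul, mul_comm ρ μ, map_mul, mul_inv_cancel_right, mul_inv_cancel]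
    exact one_mem _

/-- The final properties of `W = W_s`. -/
structure IsW (t : G) (hs : Fˣ →* G) (x0 : F → G) (v : J → F → G) (z : Sp → F → G) (c : J → F → G)
    (l : J → J → F → G) (th : (Fin 3 → Fˣ) →* G) (W : Subgroup G) (κ c0 : F) : Prop where
  dbl : D7Ex.IsDbl t (Xs x0) (Pt x0 v z l th) W
  comm : ∀ w ∈ W, ∀ w' ∈ W, w * w' = w' * w
  /-- squares -/
  sq : ∀ w ∈ W, ∀ a, w⁻¹ * (t * w * t) = x0 a → w * w = x0 (c0 * a)
  /-- type -/
  typ : ∀ w ∈ W, ∀ a, w⁻¹ * (t * w * t) = x0 a → ∀ k u, w * c k u * w⁻¹ = v k (κ * a * u) * c k u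
  /-- the torus -/
  hsW : ∀ μ, ∀ w ∈ W, hs μ * w * (hs μ)⁻¹ ∈ W

/-- every element of `BG` acts on the `c k u` as some `b` -/
theorem exists_kappa_BG [Finite F] [Finite G] {n : G} (hn1 : ∀ x ∈ Xs x0, n * x * n⁻¹ ∈ Xs x0)
    (hn2 : ∀ x ∈ Xs x0, n⁻¹ * x * n ∈ Xs x0) (hn3 : t * (n * t * n⁻¹) ∈ Xs x0) (hnt : n * t * n⁻¹ ≠ t) {w : G}
    (hw : ∀ p ∈ Pt x0 v z l th, w * p = p * w) (hw2 : t * (w * t * w⁻¹) ∈ Xs x0) :
    ∃ κ : F, ∀ k u, w * c k u * w⁻¹ = v k (κ * u) * c k u := by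
  obtain ⟨b, hb, hbt⟩ := L.exists_b D hn1 hn2 hn3 hnt hw2
  obtain ⟨κ, hκ⟩ := Bp.exists_kappa L hb
  refine ⟨κ, fun k u => ?_⟩
  have h1 : b * t * b⁻¹ = w * t * w⁻¹ := by rw [hbt, ← mul_assoc, D.tt, one_mul]
  have h2 : t * (b⁻¹ * w) = b⁻¹ * w * t := by
    calc t * (b⁻¹ * w) = b⁻¹ * (b * t * b⁻¹) * w := by group
      _ = b⁻¹ * w * t := by rw [h1]; group
  have h3 : ∀ p ∈ Pt x0 v z l th, b⁻¹ * w * p = p * (b⁻¹ * w) := by
    intro p hp
    have h4 := Bp.comm_Pt L hb hp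
    have h5 := hw p hp
    calc b⁻¹ * w * p = b⁻¹ * (p * b) * b⁻¹ * w := by rw [mul_assoc, h5]; group
      _ = p * (b⁻¹ * w) := by rw [← h4]; group
  have h6 : (b⁻¹ * w) * c k u = c k u * (b⁻¹ * w) := by
    rcases D.cP _ h2 h3 with h | h
    · exact L.XP h (c_mem k u)
    · have h7 := L.XP (v := v) (z := z) (l := l) (th := th) h (c_mem k u)
      have h8 := D.tP _ (c_mem k u)
      have h9 : t * (b⁻¹ * w * c k u) = t * (c k u * (b⁻¹ * w)) := by
        rw [← mul_assoc, h7, ← mul_assoc, ← mul_assoc t, h8]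
      exact mul_left_cancel h9
  rw [← hκ k u]
  calc w * c k u * w⁻¹ = b * ((b⁻¹ * w) * c k u) * w⁻¹ := by group
    _ = b * c k u * b⁻¹ := by rw [h6]; group

/-- **The group `W_s` and its type.** -/
theorem exists_W [Finite F] [Finite G] {n : G} (hn1 : ∀ x ∈ Xs x0, n * x * n⁻¹ ∈ Xs x0)
    (hn2 : ∀ x ∈ Xs x0, n⁻¹ * x * n ∈ Xs x0) (hn3 : t * (n * t * n⁻¹) ∈ Xs x0) (hnt : n * t * n⁻¹ ≠ t) :
    ∃ (μ : Fˣ) (W : Subgroup G) (κ c0 : F), IsW t hs x0 v z c l th W κ c0 ∧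
      ∀ k, D7Ex.Nice t (Xs x0) (Pt x0 v z l th) (hs μ) k → ∀ w ∈ W, k * w * k⁻¹ ∈ W := by
  have C := L.cent D hn1 hn2 hn3 hnt
  obtain ⟨μ, hμ⟩ := L.big
  have hh := L.nice_hs D μ μ
  have hm : (hs μ) ^ Nat.card Fˣ = 1 := by rw [← map_pow, pow_card_eq_one', map_one]
  have hf : ∀ x ∈ Xs x0, hs μ * x * (hs μ)⁻¹ = x → x = 1 := by
    intro x hx h
    obtain ⟨a, rfl⟩ := L.mem_X.1 hx
    rw [D.hs_x0] at h
    have h1 : x0 ((μ : F) ^ 2 * a + a) = 1 := by rw [L.x0_add, h, self_of_add L.two L.x0_add]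
    have h2 := L.x0_inj _ h1
    have h3 : ((μ : F) ^ 2 + 1) * a = 0 := by rw [← h2]; ring
    rcases mul_eq_zero.1 h3 with h4 | h4
    · exfalso
      exact L.sq_ne hμ (Units.ext (by
        rw [Units.val_pow_eq_pow_val, Units.val_one]; exact L.add_eq_zero h4))
    · rw [h4, zero_of_add L.x0_add]
  have hdbl := C.isDbl_big hh hm L.odd_card hf
  set W := C.Wbig hh (Nat.card Fˣ) with hW
  have hnice : ∀ k, D7Ex.Nice t (Xs x0) (Pt x0 v z l th) (hs μ) k → ∀ w ∈ W, k * w * k⁻¹ ∈ W :=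
    fun k hk w hw => C.nice_big hh _ hk hw
  have hsW : ∀ ρ, ∀ w ∈ W, hs ρ * w * (hs ρ)⁻¹ ∈ W := fun ρ w hw => hnice _ (L.nice_hs D μ ρ) w hw
  have hXc : ∀ {x w : G}, x ∈ Xs x0 → w ∈ W → w * x = x * w := fun {x w} hx hw =>
    hdbl.WP w hw x (X_le_V.trans (V_le_Q.trans Q_le_Pt) hx)
  have hBG : ∀ w ∈ W, t * (w * t * w⁻¹) ∈ Xs x0 := fun w hw => by
    obtain ⟨h1, -⟩ := (C.mem_Wbig hh _).1 hw
    exact h1.2
  -- the displacement is a homomorphism
  have hd : ∀ w ∈ W, ∀ w' ∈ W, (w * w')⁻¹ * (t * (w * w') * t) = w⁻¹ * (t * w * t) * (w'⁻¹ * (t * w' * t)) := by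
    intro w hw w' hw'
    have h1 := hdbl.brk w hw
    have h2 := hXc h1 hw'
    have h3 : w'⁻¹ * (w⁻¹ * (t * w * t)) = w⁻¹ * (t * w * t) * w'⁻¹ := by
      set x := w⁻¹ * (t * w * t)
      rw [inv_mul_eq_iff_eq_mul, ← mul_assoc, h2, mul_inv_cancel_right]
    calc (w * w')⁻¹ * (t * (w * w') * t) = w'⁻¹ * w⁻¹ * t * w * 1 * w' * t := by group
      _ = w'⁻¹ * w⁻¹ * t * w * (t * t) * w' * t := by rw [D.tt]
      _ = (w'⁻¹ * (w⁻¹ * (t * w * t))) * (t * w' * t) := by group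
      _ = _ := by rw [h3]; group
  obtain ⟨w1, hw1, hw1d⟩ := hdbl.surj (x0 1) (L.x0_mem 1)
  obtain ⟨κ, hκ⟩ := L.exists_kappa_BG D hn1 hn2 hn3 hnt (hdbl.WP w1 hw1) (hBG w1 hw1)
  obtain ⟨c0, hc0⟩ := L.mem_X.1 (C.sq_mem (show w1 ∈ C.BG from ((C.mem_Wbig hh _).1 hw1).1))
  -- every element of `W` in terms of `w1`
  have hex : ∀ w ∈ W, ∀ a, w⁻¹ * (t * w * t) = x0 a → a ≠ 0 → ∃ β : Fˣ, (β : F) ^ 2 = a ∧
      ∃ y ∈ Xs x0, w = hs β * w1 * (hs β)⁻¹ * y := by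
    intro w hw a ha ha0
    obtain ⟨β, hβ⟩ := L.exists_sqrt_unit (Units.mk0 a ha0)
    have hβ' : (β : F) ^ 2 = a := by rw [← Units.val_pow_eq_pow_val, hβ, Units.val_mk0]
    refine ⟨β, hβ', ?_⟩
    have hw' := hsW β w1 hw1
    set w' := hs β * w1 * (hs β)⁻¹ with hw'd
    have h1 : w'⁻¹ * (t * w' * t) = x0 a := by
      have e1 : (hs β)⁻¹ * t = t * (hs β)⁻¹ := by
        rw [inv_mul_eq_iff_eq_mul, ← mul_assoc, ← D.th', mul_inv_cancel_right]
      calc w'⁻¹ * (t * w' * t) = hs β * w1⁻¹ * ((hs β)⁻¹ * t) * hs β * w1 * ((hs β)⁻¹ * t) := by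
            rw [hw'd]; group
        _ = hs β * (w1⁻¹ * (t * w1 * t)) * (hs β)⁻¹ := by rw [e1]; group
        _ = x0 a := by rw [hw1d, D.hs_x0, mul_one, hβ']
    refine ⟨w'⁻¹ * w, ?_, by group⟩
    apply hdbl.cent _ (mul_mem (inv_mem hw') hw)
    have h2 := hd _ (inv_mem hw') _ hw
    have h3 := hd _ hw' _ (inv_mem hw')
    rw [mul_inv_cancel, inv_one, one_mul, mul_one, D.tt, h1] at h3
    have h4 : w'⁻¹⁻¹ * (t * w'⁻¹ * t) = x0 a := by
      rw [← inv_of_add L.two L.x0_add, eq_inv_iff_mul_eq_one]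
      have h5 := L.V2 (z := z) (X_le_V (v := v) (L.x0_mem a))
      calc w'⁻¹⁻¹ * (t * w'⁻¹ * t) * x0 a = (x0 a)⁻¹ * (x0 a * (w'⁻¹⁻¹ * (t * w'⁻¹ * t))) * x0 a := by group
        _ = 1 := by rw [← h3]; group
    rw [h4, ha, self_of_add L.two L.x0_add] at h2
    have h5 : t * (w'⁻¹ * w) * t = w'⁻¹ * w := by
      rw [inv_mul_eq_one] at h2; exact h2.symm
    calc t * (w'⁻¹ * w) = t * (w'⁻¹ * w) * t * t⁻¹ := by group
      _ = w'⁻¹ * w * t := by rw [h5, inv_eq_of_mul_eq_one_left D.tt]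
  have hX1 : ∀ w ∈ W, ∀ a, w⁻¹ * (t * w * t) = x0 a → a = 0 → w ∈ Xs x0 := by
    intro w hw a ha ha0
    apply hdbl.cent w hw
    rw [ha0, zero_of_add L.x0_add, inv_mul_eq_one] at ha
    calc t * w = t * w * t * t⁻¹ := by group
      _ = w * t := by rw [← ha, inv_eq_of_mul_eq_one_left D.tt]
  have hsq : ∀ w ∈ W, ∀ a, w⁻¹ * (t * w * t) = x0 a → w * w = x0 (c0 * a) := by
    intro w hw a ha
    by_cases ha0 : a = 0
    · rw [ha0, mul_zero, zero_of_add L.x0_add]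
      exact L.V2 (z := z) (X_le_V (v := v) (hX1 w hw a ha ha0))
    · obtain ⟨β, hβ, y, hy, e⟩ := hex w hw a ha ha0
      have h1 := hXc hy (hsW β w1 hw1)
      have h2 := L.V2 (z := z) (X_le_V (v := v) hy)
      rw [e]
      calc hs β * w1 * (hs β)⁻¹ * y * (hs β * w1 * (hs β)⁻¹ * y)
          = hs β * w1 * (hs β)⁻¹ * y * (y * (hs β * w1 * (hs β)⁻¹)) := by rw [h1]
        _ = hs β * w1 * (hs β)⁻¹ * (y * y) * (hs β * w1 * (hs β)⁻¹) := by group
        _ = hs β * (w1 * w1) * (hs β)⁻¹ := by rw [h2]; group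
        _ = x0 (c0 * a) := by rw [hc0, D.hs_x0, hβ, mul_comm]
  refine ⟨μ, W, κ, c0, ⟨hdbl, ?_, hsq, ?_, hsW⟩, hnice⟩
  · intro w hw w' hw'
    obtain ⟨a, ha⟩ := L.mem_X.1 (hdbl.brk w hw)
    obtain ⟨a', ha'⟩ := L.mem_X.1 (hdbl.brk w' hw')
    have h1 := hsq w hw a ha
    have h2 := hsq w' hw' a' ha'
    have h3 := hsq (w * w') (mul_mem hw hw') (a + a') (by rw [hd w hw w' hw', ha, ha', L.x0_add])
    rw [mul_add, L.x0_add, ← h1, ← h2] at h3
    have h4 : w * (w' * w) * w' = w * (w * w') * w' := by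
      calc w * (w' * w) * w' = w * w' * (w * w') := by group
        _ = w * w * (w' * w') := h3
        _ = _ := by group
    exact (mul_left_cancel (mul_right_cancel h4)).symm
  · intro w hw a ha k u
    by_cases ha0 : a = 0
    · rw [ha0, mul_zero, zero_mul, zero_of_add (L.v_add k), one_mul,
        L.XP (hX1 w hw a ha ha0) (c_mem k u : c k u ∈ Ps x0 v z c l th), mul_inv_cancel_right]
    · obtain ⟨β, hβ, y, hy, e⟩ := hex w hw a ha ha0
      have h1 := L.XP (v := v) (z := z) (l := l) (th := th) hy (c_mem k u)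
      have h2 := D.hs_c β k u
      have h3 : (hs β)⁻¹ * c k u = c k u * (hs β)⁻¹ := by
        rw [inv_mul_eq_iff_eq_mul, ← mul_assoc, h2, mul_inv_cancel_right]
      rw [e]
      calc hs β * w1 * (hs β)⁻¹ * y * c k u * (hs β * w1 * (hs β)⁻¹ * y)⁻¹
          = hs β * w1 * (hs β)⁻¹ * (y * c k u) * y⁻¹ * hs β * w1⁻¹ * (hs β)⁻¹ := by group
        _ = hs β * w1 * ((hs β)⁻¹ * c k u) * hs β * w1⁻¹ * (hs β)⁻¹ := by rw [h1]; group
        _ = hs β * (w1 * c k u * w1⁻¹) * (hs β)⁻¹ := by rw [h3]; group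
        _ = (hs β * v k (κ * u) * (hs β)⁻¹) * (hs β * c k u) * (hs β)⁻¹ := by rw [hκ]; group
        _ = v k (κ * a * u) * c k u := by
          rw [h2, mul_assoc _ (c k u * hs β), mul_inv_cancel_right, D.hs_v, hβ]
          congr 2; ring

end

end Cfsg.Agent.OddHalf.D7F4Ex.Loc
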