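import Cfsg.Agent.OddHalf.D7F4Ex.Inst
import Cfsg.Agent.OddHalf.D7F4Ex.Exist
import Cfsg.Agent.OddHalf.D7F4Ex.Dbs
import Cfsg.Agent.KFacts.F4Aut
import Cfsg.Agent.KFacts.F4Model
import Cfsg.Agent.KFacts.RgdEx

/-!
# The facts on `F₄(q)`, `q ≥ 4` even, in a chart

`KC E T` : chart and the facts on the short roots; `kc_short`, `kc_long`: both charts of `chevF4.group F`.
-/

set_option autoImplicit false
set_option linter.unusedSectionVars false
set_option linter.style.haveILetI false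

namespace Cfsg.Agent.OddHalf.D7F4Ex

open CoxeterSystem Cfsg.Agent.ChevalleyStructure.CoxeterGeom Cfsg.Agent.Tits.Roots Cfsg.Agent.Tits.Core
open Cfsg.Lie Cfsg.Agent.ChevalleyStructure Cfsg.Agent.ChevalleyStructure.Elts
  Cfsg.Agent.ChevalleyStructure.RootVec Cfsg.Agent.ChevalleyStructure.CoxeterGeomTypes
open Cfsg.Agent.Nodes Cfsg.Agent.Nodes.Reps Cfsg.Agent.Nodes.BNOf Cfsg.Agent.Nodes.RGDChev Cfsg.Agent.Nodes.Coroot
  Cfsg.Agent.Nodes.KindF Cfsg.Agent.Nodes.Bruhat Cfsg.Agent.KFacts.ChevTwo Cfsg.Agent.KFacts.ChevTwoTab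
  Cfsg.Agent.KFacts.ChevTwoInst Cfsg.Agent.KFacts.RgdTI Cfsg.Agent.KFacts.RgdOdd Cfsg.Agent.KFacts.RgdPar
  Cfsg.Agent.KFacts.F4Star Cfsg.Agent.KFacts.F4Cent Cfsg.Agent.KFacts.F4Pair Cfsg.Agent.KFacts.F4Torus
  Cfsg.Agent.KFacts.F4Perf
open Cfsg.Agent.OddHalf.D7F4 Cfsg.Agent.OddHalf.D7F4.Model
open scoped commutatorElement

universe u

/-- The facts on `F₄(q)` in a chart. -/
structure KC {F : Type*} [Field F] {Y : Type*} [Group Y] (E : (Fin 4 → ℤ) → F → Y) (T : (Fin 4 → Fˣ) →* Y) : Prop where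
  chart : Chart E T
  /-- the centraliser of an element of `X_s` is `P_s` -/
  cX : ∀ s ∈ rts, B s s = 2 → ∀ z : F, z ≠ 0 → ∀ y, y * E s z = E s z * y → y ∈ PE E s
  perf : ∀ s ∈ rts, B s s = 2 → ⁅PE E s, PE E s⁆ = PE E s
  cent : ∀ s ∈ rts, B s s = 2 → ∀ y, (∀ a ∈ rts, Cs s a →
    ∀ u, y * E a u = E a u * y) → ∃ u, E s u = y
  inn : ∀ s ∈ rts, B s s = 2 → ∀ α : MulAut Y, (∀ u, α (E s u) = E s u) → ∃ g, α = MulAut.conj g
  core : ∀ s ∈ rts, B s s = 2 → ∀ R : Subgroup Y, IsPGroup 2 R → (∀ p ∈ PE E s, ∀ r ∈ R, p * r * p⁻¹ ∈ R) →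
    R ≤ QE E s
  cen : ∀ y : Y, (∀ g, y * g = g * y) → y = 1

section Tw

variable {F : Type u} [Field F] [Finite F] [CharP F 2]

/-- a relabelling of the root groups -/
structure Tw (δ : (Fin 4 → ℤ) → (Fin 4 → ℤ)) (E : (Fin 4 → ℤ) → F → ↥(chevF4.group F)) : Prop where
  mem : ∀ a ∈ rts, δ a ∈ rts
  sur : ∀ b ∈ rts, ∃ a ∈ rts, δ a = b
  nn : ∀ a ∈ rts, ∀ b ∈ rts, (0 ≤ B (δ a) (δ b) ↔ 0 ≤ B a b)
  ps : ∀ a ∈ rts, ∀ b ∈ rts, (0 < B (δ a) (δ b) ↔ 0 < B a b)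
  X : ∀ a ∈ rts, ∀ g, g ∈ XF F (δ a) ↔ ∃ u, E a u = g

variable {δ : (Fin 4 → ℤ) → (Fin 4 → ℤ)} {E : (Fin 4 → ℤ) → F → ↥(chevF4.group F)}

theorem Tw.PE_eq (t : Tw δ E) {s : Fin 4 → ℤ} (hs : s ∈ rts) : PE E s = PF csF F (δ s) := by
  apply le_antisymm
  · rw [PE, Subgroup.closure_le]
    rintro g ⟨a, ha, h, u, rfl⟩
    refine RGD.le_Sup (X := XF F) (S := Ge csF isType.isCartan (δ s)) (z := δ a) ⟨mem_rts.2 (t.mem a ha), ?_⟩
      ((t.X a ha _).2 ⟨u, rfl⟩)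
    rw [Cfsg.Agent.KFacts.F4Model.cpr_nonneg_iff csF (t.mem a ha) (t.mem s hs)]
    exact (t.nn a ha s hs).2 h
  · refine RGD.Sup_le fun b hb => ?_
    obtain ⟨a, ha, rfl⟩ := t.sur b (mem_rts.1 hb.1)
    intro g hg
    obtain ⟨u, rfl⟩ := (t.X a ha g).1 hg
    refine mem_PE ha ((t.nn a ha s hs).1 ?_) u
    have := hb.2
    rwa [Cfsg.Agent.KFacts.F4Model.cpr_nonneg_iff csF (t.mem a ha) (t.mem s hs)] at this

theorem Tw.QE_eq (t : Tw δ E) {s : Fin 4 → ℤ} (hs : s ∈ rts) :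
    QE E s = RGD.Sup (XF F) (Rad csF isType.isCartan (δ s)) := by
  apply le_antisymm
  · rw [QE, Subgroup.closure_le]
    rintro g ⟨a, ha, h, u, rfl⟩
    refine RGD.le_Sup (X := XF F) (S := Rad csF isType.isCartan (δ s)) (z := δ a) ⟨mem_rts.2 (t.mem a ha), ?_⟩
      ((t.X a ha _).2 ⟨u, rfl⟩)
    rw [Cfsg.Agent.KFacts.F4Model.cpr_pos_iff' csF (t.mem a ha) (t.mem s hs)]
    exact (t.ps a ha s hs).2 h
  · refine RGD.Sup_le fun b hb => ?_
    obtain ⟨a, ha, rfl⟩ := t.sur b (mem_rts.1 hb.1)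
    intro g hg
    obtain ⟨u, rfl⟩ := (t.X a ha g).1 hg
    refine mem_QE ha ((t.ps a ha s hs).1 ?_) u
    have := hb.2
    rwa [Cfsg.Agent.KFacts.F4Model.cpr_pos_iff' csF (t.mem a ha) (t.mem s hs)] at this

theorem Tw.kc (t : Tw δ E) {T : (Fin 4 → Fˣ) →* ↥(chevF4.group F)} (C : Chart E T)
    (hcent : ∀ s ∈ rts, B s s = 2 → ∀ y, (∀ a ∈ rts, Cs s a →
      ∀ u, y * E a u = E a u * y) → y ∈ XF F (δ s)) : KC E T where
  chart := C
  cX := by
    intro s hs _ z hz y hy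
    rw [t.PE_eq hs]
    exact cent_X csF (mem_rts.2 (t.mem s hs)) ((t.X s hs _).2 ⟨z, rfl⟩) (fun h => hz (C.inj s hs z h)) hy
  perf := by
    intro s hs _
    rw [t.PE_eq hs]
    exact perfect_P csF (mem_rts.2 (t.mem s hs))
  cent := fun s hs h y hy => (t.X s hs y).1 (hcent s hs h y hy)
  inn := by
    intro s hs _ α hα
    obtain ⟨g, -, h⟩ := Cfsg.Agent.KFacts.F4Aut.inner_of_fix_X csF (mem_rts.2 (t.mem s hs)) (α := α) (by
      intro z hz
      obtain ⟨u, rfl⟩ := (t.X s hs z).1 hz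
      exact hα u)
    exact ⟨g, h⟩
  core := by
    intro s hs _ R h2 hn
    haveI : Fact (Nat.Prime 2) := ⟨Nat.prime_two⟩
    rw [t.QE_eq hs]
    refine Cfsg.Agent.KFacts.RgdEx.core_le (rgd (K := F) isType csF 2) (mem_rts.2 (t.mem s hs)) (D := R) ?_ h2 ?_
    · rw [Cfsg.Agent.KFacts.F4Aut.GG_top csF]
      exact le_top
    · intro u hu
      have hu' : u ∈ PE E s := by
        rw [t.PE_eq hs]
        exact hu
      apply le_antisymm
      · rintro _ ⟨x, hx, rfl⟩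
        exact hn u hu' x hx
      · intro x hx
        have := hn u⁻¹ (inv_mem hu') x hx
        rw [mem_cj]
        rwa [inv_inv] at this
  cen := fun y hy => eq_one_of_comm csF fun x hx u => hy _

/-! ### The two charts -/

theorem tw_id : Tw (fun a => a) (eF F) where
  mem := fun _ ha => ha
  sur := fun b hb => ⟨b, hb, rfl⟩
  nn := fun _ _ _ _ => Iff.rfl
  ps := fun _ _ _ _ => Iff.rfl
  X := fun _ ha _ => mem_XF_iff csF (mem_rts.2 ha)

theorem k_pos : ∀ a ∈ rts, ∀ b ∈ rts, (0 ≤ B (dual a) (dual b) ↔ 0 ≤ B a b) ∧ (0 < B (dual a) (dual b) ↔ 0 < B a b) := by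
  decide +kernel

theorem tw_dual (rt : F ≃+* F) : Tw dual (dualE rt (eF F)) where
  mem := dual_mem
  sur := fun b hb => ⟨dual b, dual_mem b hb, dual_dual b hb⟩
  nn := fun a ha b hb => (k_pos a ha b hb).1
  ps := fun a ha b hb => (k_pos a ha b hb).2
  X := by
    intro a ha g
    rw [mem_XF_iff csF (mem_rts.2 (dual_mem a ha))]
    rcases k_norm a ha with ⟨h, -⟩ | ⟨h, -⟩
    · constructor
      · rintro ⟨u, rfl⟩; exact ⟨u, dualE_short rt h u⟩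
      · rintro ⟨u, rfl⟩; exact ⟨u, (dualE_short rt h u).symm⟩
    · constructor
      · rintro ⟨u, rfl⟩; exact ⟨rt.symm u, by rw [dualE_long rt h, rt.apply_symm_apply]⟩
      · rintro ⟨u, rfl⟩; exact ⟨rt u, (dualE_long rt h u).symm⟩

theorem exists_ne_XF {a : Fin 4 → ℤ} (ha : a ∈ rts) : ∃ z ∈ XF F a, z ≠ 1 := by
  refine ⟨eF F a 1, (mem_XF_iff csF (mem_rts.2 ha)).2 ⟨1, rfl⟩, fun h => ?_⟩
  exact one_ne_zero (Cfsg.Agent.KFacts.F4Model.e_eq_one ha h)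

/-- **The short root chart.** -/
theorem kc_short (hq : ∃ μ : Fˣ, μ ≠ 1) : KC (eF F) (TH (F := F)) := by
  refine tw_id.kc (chartY hq) fun s hs h y hy => ?_
  have hsr := mem_rts.2 hs
  have h1 : y ∈ RGD.Sup (XF F) (Cone csF s s) := by
    refine cent_pairL csF hsr hsr ?_ ?_ ?_ fun c hc => ?_
    · intro e
      have := cpr_neg csF isType.isCartan s hsr
      rw [← e, cpr_self csF _ hsr] at this
      omega
    · intro hl
      rw [Cfsg.Agent.KFacts.F4Model.lg_iff csF hs, h] at hl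
      omega
    · intro _
      rw [cpr_self csF _ hsr]
      norm_num
    · have hcr := mem_rts.1 hc.1
      obtain ⟨z, hz, hz1⟩ := exists_ne_XF (F := F) hcr
      refine ⟨z, hz, hz1, ?_⟩
      obtain ⟨u, rfl⟩ := (mem_XF_iff csF hc.1).1 hz
      refine hy c hcr ?_ u
      rcases Model.norm c hcr with h2 | h2
      · have h3 := (hc.2.2 ((Cfsg.Agent.KFacts.F4Model.sh_iff csF hcr).2 h2)).1
        exact Or.inr ⟨h2, (Cfsg.Agent.KFacts.F4Model.cpr_pos_iff' csF hcr hs).1 h3⟩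
      · have h3 := (hc.2.1 ((Cfsg.Agent.KFacts.F4Model.lg_iff csF hcr).2 h2)).1
        exact Or.inl ⟨h2, (Cfsg.Agent.KFacts.F4Model.cpr_nonneg_iff csF hcr hs).1 h3⟩
  have h2 : RGD.Sup (XF F) (Cone csF s s) ≤ XF F s := RGD.Sup_le fun z hz => by
    rw [Set.mem_singleton_iff.1 (cone_self csF hsr hz)]
  exact h2 h1

/-- **The long root chart.** -/
theorem kc_long (hq : ∃ μ : Fˣ, μ ≠ 1) (rt : F ≃+* F) (hrt : ∀ u, rt u ^ 2 = u) :
    KC (dualE rt (eF F)) ((TH (F := F)).comp (dualH rt)) := by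
  refine (tw_dual rt).kc (Chart.dual rt hrt (chartY hq)) fun s hs h y hy => ?_
  have hs' := dual_mem s hs
  have hsr := mem_rts.2 hs'
  have hn : B (dual s) (dual s) = 4 := dn2 s hs h
  have h1 : y ∈ RGD.Sup (XF F) (Cone csF (dual s) (dual s)) := by
    refine cent_pairS csF hsr hsr ?_ ?_ ?_ fun c hc => ?_
    · intro e
      have := cpr_neg csF isType.isCartan (dual s) hsr
      rw [← e, cpr_self csF _ hsr] at this
      omega
    · intro hl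
      rw [Cfsg.Agent.KFacts.F4Model.sh_iff csF hs', hn] at hl
      omega
    · intro _
      rw [cpr_self csF _ hsr]
      norm_num
    · have hcr := mem_rts.1 hc.1
      obtain ⟨z, hz, hz1⟩ := exists_ne_XF (F := F) hcr
      refine ⟨z, hz, hz1, ?_⟩
      obtain ⟨a, ha, rfl⟩ := (tw_dual rt).sur c hcr
      obtain ⟨u, rfl⟩ := ((tw_dual rt).X a ha z).1 hz
      refine hy a ha ?_ u
      rcases k_norm a ha with ⟨h2, h3⟩ | ⟨h2, h3⟩
      · have h4 := (hc.2.1 ((Cfsg.Agent.KFacts.F4Model.lg_iff csF hcr).2 h3)).1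
        have h5 := (Cfsg.Agent.KFacts.F4Model.cpr_pos_iff' csF hcr hs').1 h4
        exact Or.inr ⟨h2, (k_pos a ha s hs).2.1 h5⟩
      · have h4 := (hc.2.2 ((Cfsg.Agent.KFacts.F4Model.sh_iff csF hcr).2 h3)).1
        have h5 := (Cfsg.Agent.KFacts.F4Model.cpr_nonneg_iff csF hcr hs').1 h4
        exact Or.inl ⟨h2, (k_pos a ha s hs).1.1 h5⟩
  have h2 : RGD.Sup (XF F) (Cone csF (dual s) (dual s)) ≤ XF F (dual s) := RGD.Sup_le fun z hz => by
    rw [Set.mem_singleton_iff.1 (cone_self csF hsr hz)]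
  exact h2 h1

end Tw

end Cfsg.Agent.OddHalf.D7F4Ex
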