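import Cfsg.Agent.OddHalf.D7F4Ex.Dbs

/-!
# `w ^ 2 = 1` on the doubled root groups of the short roots, `q ≥ 4`

`s = s0`, `s' = s1`, `r = s - s'` short roots; `u ∈ W s'` with `u⁻¹ u ^ t = x_{s'} 1`.
`x_r g` moves `u` to `τ w x_{s'} y u` with `τ ∈ {1, t}`, `w ∈ W s`; `x_r g` is an involution: `y = c0 + τ`;
`x_r (g + h) = x_r g x_r h`: `y` and `τ` are additive in `g`. Hence `c0 = 0`.
-/

set_option autoImplicit false

namespace Cfsg.Agent.OddHalf.D7F4Ex.Wsq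

open Cfsg.Agent.OddHalf.D7F4.Model

/-- the short root `s'` -/
def s1 : Fin 4 → ℤ := ![1, 3, 2, 1]

/-- `r = s0 - s1` -/
def r0 : Fin 4 → ℤ := ![1, 0, 0, 0]

instance (s a : Fin 4 → ℤ) : Decidable (Cs s a) := by unfold Cs; infer_instance

theorem t_s1 : s1 ∈ rts ∧ B s1 s1 = 2 ∧ B s0 s0 = 2 ∧ B s0 s1 = 1 ∧ s0 ≠ s1 := by decide +kernel
theorem t_r0 : r0 ∈ rts ∧ B r0 r0 = B s1 s1 ∧ B r0 s1 < 0 ∧ r0 ≠ -s1 ∧ r0 + s1 = s0 := by decide +kernel
theorem t_cs : Cs s0 r0 ∧ Cs s0 s1 ∧ Cs s1 s0 ∧ Cs s0 s0 ∧ Cs s1 s1 := by decide +kernel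

theorem tab : ∀ a ∈ rts, Cs s0 a → Cs s1 a → 0 ≤ B r0 a ∨
    (B r0 r0 = B a a ∧ B r0 a < 0 ∧ r0 ≠ -a ∧ r0 + a ∈ rts ∧ Cs s1 (r0 + a)) ∨
    (B a a = 4 ∧ B r0 r0 = 2 ∧ B a r0 = -2 ∧ a + r0 ∈ rts ∧ a + r0 + r0 ∈ rts ∧ Cs s1 (a + r0) ∧
      Cs s1 (a + r0 + r0)) := by decide +kernel

variable {F : Type*} [Field F] {G : Type*} [Group G]

/-- `1` or `t` -/
def pw (t : G) (b : Bool) : G := if b then t else 1

theorem pw_mul {t : G} (tt : t * t = 1) (a b : Bool) : pw t a * pw t b = pw t (xor a b) := by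
  cases a <;> cases b <;> simp [pw, tt]

theorem pw_comm {t g : G} (h : t * g = g * t) (b : Bool) : pw t b * g = g * pw t b := by
  cases b
  · show 1 * g = g * 1
    rw [one_mul, mul_one]
  · exact h

section

variable {t : G} {E : (Fin 4 → ℤ) → F → G} {T : (Fin 4 → Fˣ) →* G} {W : (Fin 4 → ℤ) → Subgroup G} {κ c0 : F}
  (D : Dbs t E T W κ c0)

include D

theorem WX {s a : Fin 4 → ℤ} (hs : s ∈ rts) (h2 : B s s = 2) (ha : a ∈ rts) (h : Cs s a) {w : G} (hw : w ∈ W s)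
    (u : F) : w * E a u = E a u * w :=
  (D.dbl s hs h2).WP w hw _ (Subgroup.subset_closure (Or.inl ⟨a, ha, h, u, rfl⟩))

/-- `t` normalises `W s`. -/
theorem Wt {s : Fin 4 → ℤ} (hs : s ∈ rts) (h2 : B s s = 2) {w : G} (hw : w ∈ W s) : t * w * t ∈ W s := by
  have h := mul_mem hw ((D.dbl s hs h2).XW ((D.dbl s hs h2).brk w hw))
  rwa [mul_inv_cancel_left] at h

theorem pwW {s : Fin 4 → ℤ} (hs : s ∈ rts) (h2 : B s s = 2) {w : G} (hw : w ∈ W s) (b : Bool) :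
    ∃ w' ∈ W s, w * pw t b = pw t b * w' := by
  cases b
  · exact ⟨w, hw, by show w * 1 = 1 * w; rw [one_mul, mul_one]⟩
  · refine ⟨t * w * t, Wt D hs h2 hw, ?_⟩
    show w * t = t * (t * w * t)
    rw [mul_assoc t w t, ← mul_assoc t t, D.tt, one_mul]

theorem uniq {b : Bool} {v : G} (hv : v ∈ W s0) {z : F} (h : pw t b * v * E s1 z = 1) : b = false ∧ z = 0 := by
  obtain ⟨m1, b1, b0, -, hne⟩ := t_s1
  obtain ⟨-, c01, -, -, -⟩ := t_cs
  cases b
  · refine ⟨rfl, ?_⟩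
    have h1 : v = E s1 z := by
      have : v * E s1 z = 1 := by rw [← h]; show v * E s1 z = 1 * v * E s1 z; rw [one_mul]
      rw [← D.chart.inv m1 z]
      exact eq_inv_of_mul_eq_one_left this
    have h2 : v ∈ XE E s0 := (D.dbl s0 s0_mem b0).cent v hv (by rw [h1]; exact D.tE _ m1 z)
    obtain ⟨x, hx⟩ := (D.chart.mem_XE s0_mem).1 h2
    exact D.chart.sep _ s0_mem _ m1 hne x z (hx.trans h1)
  · exfalso
    have h1 : t * (v * E s1 z) = 1 := by rw [← mul_assoc]; exact h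
    have h2 : t = (v * E s1 z)⁻¹ := eq_inv_of_mul_eq_one_left h1
    obtain ⟨w, hw, hw1⟩ := (D.dbl s0 s0_mem b0).surj (E s0 1) (mem_XE' E s0 1)
    have h3 : Commute w (v * E s1 z) :=
      Commute.mul_right (D.comm s0 s0_mem b0 w hw v hv) (WX D s0_mem b0 m1 c01 hw z)
    have h4 : Commute w t := by rw [h2]; exact h3.inv_right
    have h5 : E s0 (1 : F) = 1 := by
      rw [← hw1, ← h4.eq, mul_assoc w t t, D.tt, mul_one, inv_mul_cancel]
    exact one_ne_zero (D.chart.inj _ s0_mem _ h5)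

theorem uniq2 {b b' : Bool} {v v' : G} (hv : v ∈ W s0) (hv' : v' ∈ W s0) {z z' : F}
    (h : pw t b * v * E s1 z = pw t b' * v' * E s1 z') : b = b' ∧ z = z' := by
  obtain ⟨m1, b1, b0, -, hne⟩ := t_s1
  obtain ⟨-, c01, -, -, -⟩ := t_cs
  have hp : pw t b' * pw t b' = 1 := by rw [pw_mul D.tt]; cases b' <;> rfl
  have h1 : pw t (xor b' b) * (v * v'⁻¹) * E s1 (z + z') = 1 := by
    have e1 : v'⁻¹ * E s1 z = E s1 z * v'⁻¹ := WX D s0_mem b0 m1 c01 (inv_mem hv') z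
    have e2 := WX D s0_mem b0 m1 c01 hv' z'
    calc pw t (xor b' b) * (v * v'⁻¹) * E s1 (z + z')
        = pw t b' * pw t b * v * (v'⁻¹ * E s1 z) * E s1 z' := by
          rw [← pw_mul D.tt, D.chart.add _ m1]; group
      _ = pw t b' * (pw t b * v * E s1 z) * v'⁻¹ * E s1 z' := by rw [e1]; group
      _ = (pw t b' * pw t b') * (v' * E s1 z') * v'⁻¹ * E s1 z' := by rw [h]; group
      _ = E s1 z' * E s1 z' := by rw [hp, e2]; group
      _ = 1 := D.chart.sq m1 z'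
  obtain ⟨h2, h3⟩ := uniq D (mul_mem hv (inv_mem hv')) h1
  refine ⟨?_, ?_⟩
  · cases b <;> cases b' <;> simp_all
  · calc z = z + (z' + z') := by rw [D.chart.two, add_zero]
      _ = (z + z') + z' := by ring
      _ = z' := by rw [h3, zero_add]

/-- `x_r g` on `u` -/
theorem stepA (K : K2E t E) {u : G} (hu : u ∈ W s1) (hu2 : u⁻¹ * (t * u * t) = E s1 1) (g : F) :
    ∃ b : Bool, ∃ w ∈ W s0, ∃ y, w⁻¹ * (t * w * t) = E s0 g ∧
      E r0 g * u * (E r0 g)⁻¹ = pw t b * w * E s1 y * u := by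
  obtain ⟨m1, b1, b0, b01, hne⟩ := t_s1
  obtain ⟨mr, r1, r2, r3, r4⟩ := t_r0
  obtain ⟨c0r, c01, c10, c00, c11⟩ := t_cs
  obtain ⟨w, hw, hw1⟩ := (D.dbl s0 s0_mem b0).surj (E s0 g) (mem_XE' E s0 g)
  have hgi := D.chart.inv mr g
  have hgg := D.chart.sq mr g
  -- `t u t`, `t w t`
  have tut : t * u * t = u * E s1 1 := by rw [← hu2, mul_inv_cancel_left]
  have twt : t * w * t = w * E s0 g := by rw [← hw1, mul_inv_cancel_left]
  have tinv : t⁻¹ = t := inv_eq_of_mul_eq_one_left D.tt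
  have conj_inv : ∀ x : G, t * x⁻¹ * t = (t * x * t)⁻¹ := fun x => by
    rw [mul_inv_rev, mul_inv_rev, tinv, mul_assoc]
  have conj_mul : ∀ x y : G, t * (x * y) * t = (t * x * t) * (t * y * t) := fun x y => by
    calc t * (x * y) * t = t * x * 1 * y * t := by group
      _ = t * x * (t * t) * y * t := by rw [D.tt]
      _ = _ := by group
  have tgt : t * E r0 g * t = E r0 g := by rw [D.tE _ mr, mul_assoc, D.tt, mul_one]
  have gs' : E r0 g * E s1 1 * (E r0 g)⁻¹ = E s0 g * E s1 1 := by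
    have := D.chart.conj1 mr m1 r1 r2 r3 g 1
    rwa [r4, mul_one] at this
  have uX := WX D m1 b1 s0_mem c10 hu g
  -- `k`
  have hk1 : t * (E r0 g * u * (E r0 g)⁻¹ * u⁻¹ * w⁻¹) * t = E r0 g * u * (E r0 g)⁻¹ * u⁻¹ * w⁻¹ := by
    rw [conj_mul, conj_mul, conj_mul, conj_mul, conj_inv w, conj_inv u, conj_inv (E r0 g), tgt, tut, twt]
    calc E r0 g * (u * E s1 1) * (E r0 g)⁻¹ * (u * E s1 1)⁻¹ * (w * E s0 g)⁻¹
        = E r0 g * u * (E r0 g)⁻¹ * (E r0 g * E s1 1 * (E r0 g)⁻¹) * (E s1 1)⁻¹ * u⁻¹ * (E s0 g)⁻¹ * w⁻¹ := by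
          group
      _ = E r0 g * u * (E r0 g)⁻¹ * (u⁻¹ * (u * E s0 g)) * u⁻¹ * (E s0 g)⁻¹ * w⁻¹ := by rw [gs']; group
      _ = E r0 g * u * (E r0 g)⁻¹ * (u⁻¹ * (E s0 g * u)) * u⁻¹ * (E s0 g)⁻¹ * w⁻¹ := by rw [uX]
      _ = _ := by group
  have hk2 : E r0 g * u * (E r0 g)⁻¹ * u⁻¹ * w⁻¹ * t = t * (E r0 g * u * (E r0 g)⁻¹ * u⁻¹ * w⁻¹) := by
    generalize E r0 g * u * (E r0 g)⁻¹ * u⁻¹ * w⁻¹ = k at hk1
    calc k * t = (t * t) * (k * t) := by rw [D.tt, one_mul]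
      _ = t * (t * k * t) := by group
      _ = t * k := by rw [hk1]
  have hUc : ∀ a ∈ rts, Cs s0 a → Cs s1 a → ∀ v, Commute (E r0 g * u * (E r0 g)⁻¹) (E a v) := by
    intro a ha h0 h1 v
    have key : Commute u (E r0 g * E a v * (E r0 g)⁻¹) := by
      rcases tab a ha h0 h1 with h | ⟨h2, h3, h4, h5, h6⟩ | ⟨h2, h3, h4, h5, h6, h7, h8⟩
      · rw [D.chart.c0 _ mr _ ha h g v, mul_inv_cancel_right]
        exact WX D m1 b1 ha h1 hu v
      · rw [D.chart.conj1 mr ha h2 h3 h4]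
        exact Commute.mul_right (WX D m1 b1 h5 h6 hu _) (WX D m1 b1 ha h1 hu v)
      · rw [D.chart.conj2' ha mr h2 h3 h4]
        exact Commute.mul_right (Commute.mul_right (WX D m1 b1 h5 h7 hu _) (WX D m1 b1 h6 h8 hu _))
          (WX D m1 b1 ha h1 hu v)
    have e1 : E r0 g * (E r0 g * E a v * (E r0 g)⁻¹) * (E r0 g)⁻¹ = E a v := by
      rw [hgi]
      calc E r0 g * (E r0 g * E a v * E r0 g) * E r0 g = (E r0 g * E r0 g) * E a v * (E r0 g * E r0 g) := by group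
        _ = E a v := by rw [hgg, one_mul, mul_one]
    have h3 := (Commute.conj_iff (E r0 g)).2 key
    rwa [e1] at h3
  obtain ⟨x, y, hxy⟩ := K s0 s0_mem s1 m1 b0 b1 b01 _ hk2 (by
    intro a ha h0 h1 v
    have h2 := hUc a ha h0 h1 v
    have h3 : Commute u (E a v) := WX D m1 b1 ha h1 hu v
    have h4 : Commute w (E a v) := WX D s0_mem b0 ha h0 hw v
    exact ((h2.mul_left h3.inv_left).mul_left h4.inv_left).eq)
  have hw' : E s0 x * w ∈ W s0 := mul_mem ((D.dbl s0 s0_mem b0).XW (mem_XE' E s0 x)) hw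
  have hw'' : (E s0 x * w)⁻¹ * (t * (E s0 x * w) * t) = E s0 g := by
    rw [conj_mul, D.tE _ s0_mem, mul_assoc (E s0 x) t t, D.tt, mul_one, mul_inv_rev, twt]
    group
  have e3 : ∀ y, w * E s1 y = E s1 y * w := WX D s0_mem b0 m1 c01 hw
  have e2 : E r0 g * u * (E r0 g)⁻¹ = (E r0 g * u * (E r0 g)⁻¹ * u⁻¹ * w⁻¹) * w * u := by group
  rcases hxy with h | h
  · refine ⟨false, E s0 x * w, hw', y, hw'', ?_⟩
    rw [e2, h]
    show _ = 1 * (E s0 x * w) * E s1 y * u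
    rw [mul_assoc (E s0 x) (E s1 y) w, ← e3]
    group
  · refine ⟨true, E s0 x * w, hw', y, hw'', ?_⟩
    rw [e2, h]
    show _ = t * (E s0 x * w) * E s1 y * u
    rw [mul_assoc t, mul_assoc (E s0 x) (E s1 y) w, ← e3]
    group

/-- `x_r g` is an involution. -/
theorem stepB {u : G} {g y : F} {b : Bool} {w : G} (hg : g ≠ 0) (hw : w ∈ W s0)
    (hw1 : w⁻¹ * (t * w * t) = E s0 g) (h : E r0 g * u * (E r0 g)⁻¹ = pw t b * w * E s1 y * u) :
    y = c0 + (if b then 1 else 0) := by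
  obtain ⟨m1, b1, b0, b01, hne⟩ := t_s1
  obtain ⟨mr, r1, r2, r3, r4⟩ := t_r0
  obtain ⟨c0r, c01, c10, c00, c11⟩ := t_cs
  have hgi := D.chart.inv mr g
  have hgg := D.chart.sq mr g
  have twt : t * w * t = w * E s0 g := by rw [← hw1, mul_inv_cancel_left]
  have gs' : E r0 g * E s1 y = E s0 (g * y) * E s1 y * E r0 g := by
    have := D.chart.conj1 mr m1 r1 r2 r3 g y
    rw [r4] at this
    rw [← this]; group
  have gw : E r0 g * w = w * E r0 g := (WX D s0_mem b0 mr c0r hw g).symm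
  have gt : E r0 g * pw t b = pw t b * E r0 g := (pw_comm (D.tE _ mr g) b).symm
  have x0w : E s0 (g * y) * w = w * E s0 (g * y) := (WX D s0_mem b0 s0_mem c00 hw _).symm
  have x1w : E s1 y * w = w * E s1 y := (WX D s0_mem b0 m1 c01 hw _).symm
  have x1t : E s1 y * pw t b = pw t b * E s1 y := (pw_comm (D.tE _ m1 y) b).symm
  have x0t : E s0 (g * y) * pw t b = pw t b * E s0 (g * y) := (pw_comm (D.tE _ s0_mem _) b).symm
  have e1 : u = pw t b * w * E s0 (g * y) * E s1 y * (pw t b * w * E s1 y * u) := by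
    calc u = (E r0 g * E r0 g) * u * (E r0 g * E r0 g)⁻¹ := by rw [hgg]; group
      _ = E r0 g * (E r0 g * u * (E r0 g)⁻¹) * (E r0 g)⁻¹ := by group
      _ = (E r0 g * pw t b) * w * E s1 y * u * (E r0 g)⁻¹ := by rw [h]; group
      _ = pw t b * (E r0 g * w) * E s1 y * u * (E r0 g)⁻¹ := by rw [gt]; group
      _ = pw t b * w * (E r0 g * E s1 y) * u * (E r0 g)⁻¹ := by rw [gw]; group
      _ = pw t b * w * E s0 (g * y) * E s1 y * (E r0 g * u * (E r0 g)⁻¹) := by rw [gs']; group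
      _ = _ := by rw [h]
  have e2 : pw t b * w * pw t b * w * E s0 (g * y) = 1 := by
    have e3 : pw t b * w * E s0 (g * y) * E s1 y * (pw t b * w * E s1 y) = 1 := by
      have := mul_right_cancel (b := u) (a := (1 : G)) (c := pw t b * w * E s0 (g * y) * E s1 y * (pw t b * w * E s1 y))
        (by rw [one_mul]; rw [mul_assoc _ _ u]; exact e1)
      exact this.symm
    calc pw t b * w * pw t b * w * E s0 (g * y)
        = pw t b * w * pw t b * (E s0 (g * y) * w) := by rw [x0w]; group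
      _ = pw t b * w * (E s0 (g * y) * pw t b) * w := by rw [x0t]; group
      _ = pw t b * w * E s0 (g * y) * pw t b * w * (E s1 y * E s1 y) := by rw [D.chart.sq m1, mul_one]; group
      _ = pw t b * w * E s0 (g * y) * pw t b * (E s1 y * w) * E s1 y := by rw [x1w]; group
      _ = pw t b * w * E s0 (g * y) * (E s1 y * pw t b) * w * E s1 y := by rw [x1t]; group
      _ = 1 := by rw [← e3]; group
  have hsq := D.sq s0 s0_mem b0 w hw g hw1
  cases b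
  · have e4 : E s0 (c0 * g + g * y) = 1 := by
      rw [D.chart.add _ s0_mem, ← hsq, ← e2]
      show _ = 1 * w * 1 * w * E s0 (g * y)
      group
    have e5 := D.chart.inj _ s0_mem _ e4
    have e6 : g * (c0 + y) = 0 := by rw [← e5]; ring
    have e7 := (mul_eq_zero.1 e6).resolve_left hg
    show y = c0 + 0
    calc y = (c0 + c0) + y := by rw [D.chart.two, zero_add]
      _ = c0 + (c0 + y) := by ring
      _ = c0 + 0 := by rw [e7]
  · have e4 : E s0 (c0 * g + g + g * y) = 1 := by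
      rw [D.chart.add _ s0_mem, D.chart.add _ s0_mem, ← hsq, ← e2]
      show _ = t * w * t * w * E s0 (g * y)
      rw [twt, mul_assoc w (E s0 g) w, ← WX D s0_mem b0 s0_mem c00 hw g]
      group
    have e5 := D.chart.inj _ s0_mem _ e4
    have e6 : g * (c0 + 1 + y) = 0 := by rw [← e5]; ring
    have e7 := (mul_eq_zero.1 e6).resolve_left hg
    show y = c0 + 1
    calc y = ((c0 + 1) + (c0 + 1)) + y := by rw [D.chart.two, zero_add]
      _ = (c0 + 1) + (c0 + 1 + y) := by ring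
      _ = c0 + 1 := by rw [e7, add_zero]

/-- `x_r (g + h) = x_r g x_r h` -/
theorem stepC {u : G} {g h y1 y2 y3 : F} {b1 b2 b3 : Bool} {w1 w2 w3 : G} (hw1 : w1 ∈ W s0) (hw2 : w2 ∈ W s0)
    (hw3 : w3 ∈ W s0) (h1 : E r0 g * u * (E r0 g)⁻¹ = pw t b1 * w1 * E s1 y1 * u)
    (h2 : E r0 h * u * (E r0 h)⁻¹ = pw t b2 * w2 * E s1 y2 * u)
    (h3 : E r0 (g + h) * u * (E r0 (g + h))⁻¹ = pw t b3 * w3 * E s1 y3 * u) :
    xor b1 b2 = b3 ∧ y1 + y2 = y3 := by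
  obtain ⟨m1, bb1, b0, b01, hne⟩ := t_s1
  obtain ⟨mr, r1, r2, r3, r4⟩ := t_r0
  obtain ⟨c0r, c01, c10, c00, c11⟩ := t_cs
  have gs' : E r0 h * E s1 y1 = E s0 (h * y1) * E s1 y1 * E r0 h := by
    have := D.chart.conj1 mr m1 r1 r2 r3 h y1
    rw [r4] at this
    rw [← this]; group
  have gw : E r0 h * w1 = w1 * E r0 h := (WX D s0_mem b0 mr c0r hw1 h).symm
  have gt : E r0 h * pw t b1 = pw t b1 * E r0 h := (pw_comm (D.tE _ mr h) b1).symm
  have x1w : E s1 y1 * w2 = w2 * E s1 y1 := (WX D s0_mem b0 m1 c01 hw2 _).symm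
  have x1t : E s1 y1 * pw t b2 = pw t b2 * E s1 y1 := (pw_comm (D.tE _ m1 y1) b2).symm
  have x0t : E s0 (h * y1) * pw t b2 = pw t b2 * E s0 (h * y1) := (pw_comm (D.tE _ s0_mem _) b2).symm
  obtain ⟨w1', hw1', e0⟩ := pwW D s0_mem b0 hw1 b2
  have e1 : pw t b3 * w3 * E s1 y3 * u = pw t (xor b1 b2) * (w1' * E s0 (h * y1) * w2) * E s1 (y1 + y2) * u := by
    calc pw t b3 * w3 * E s1 y3 * u = E r0 (h + g) * u * (E r0 (h + g))⁻¹ := by rw [← h3, add_comm]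
      _ = E r0 h * (E r0 g * u * (E r0 g)⁻¹) * (E r0 h)⁻¹ := by rw [D.chart.add _ mr]; group
      _ = (E r0 h * pw t b1) * w1 * E s1 y1 * u * (E r0 h)⁻¹ := by rw [h1]; group
      _ = pw t b1 * (E r0 h * w1) * E s1 y1 * u * (E r0 h)⁻¹ := by rw [gt]; group
      _ = pw t b1 * w1 * (E r0 h * E s1 y1) * u * (E r0 h)⁻¹ := by rw [gw]; group
      _ = pw t b1 * w1 * E s0 (h * y1) * E s1 y1 * (E r0 h * u * (E r0 h)⁻¹) := by rw [gs']; group
      _ = pw t b1 * w1 * E s0 (h * y1) * (E s1 y1 * pw t b2) * w2 * E s1 y2 * u := by rw [h2]; group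
      _ = pw t b1 * w1 * (E s0 (h * y1) * pw t b2) * (E s1 y1 * w2) * E s1 y2 * u := by rw [x1t]; group
      _ = pw t b1 * (w1 * pw t b2) * E s0 (h * y1) * w2 * (E s1 y1 * E s1 y2) * u := by rw [x0t, x1w]; group
      _ = (pw t b1 * pw t b2) * (w1' * E s0 (h * y1) * w2) * E s1 (y1 + y2) * u := by
        rw [e0, D.chart.add _ m1]; group
      _ = _ := by rw [pw_mul D.tt]
  have e2 := mul_right_cancel e1
  obtain ⟨e3, e4⟩ := uniq2 D hw3 (mul_mem (mul_mem hw1' ((D.dbl s0 s0_mem b0).XW (mem_XE' E s0 _))) hw2) e2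
  exact ⟨e3.symm, e4.symm⟩

theorem c0_zero (K : K2E t E) : c0 = 0 := by
  obtain ⟨m1, b1, b0, b01, hne⟩ := t_s1
  obtain ⟨u, hu, hu2⟩ := (D.dbl s1 m1 b1).surj (E s1 1) (mem_XE' E s1 1)
  obtain ⟨μ, hμ⟩ := D.chart.big
  have hμ0 : (μ : F) ≠ 0 := μ.ne_zero
  have hμ1 : (1 : F) + μ ≠ 0 := by
    intro h
    apply hμ
    apply Units.ext
    calc (μ : F) = (1 + 1) + μ := by rw [D.chart.two, zero_add]
      _ = 1 + (1 + μ) := by ring
      _ = 1 := by rw [h, add_zero]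
  obtain ⟨b1, w1, hw1, y1, hd1, h1⟩ := stepA D K hu hu2 1
  obtain ⟨b2, w2, hw2, y2, hd2, h2⟩ := stepA D K hu hu2 (μ : F)
  obtain ⟨b3, w3, hw3, y3, hd3, h3⟩ := stepA D K hu hu2 (1 + (μ : F))
  have a1 := stepB D one_ne_zero hw1 hd1 h1
  have a2 := stepB D hμ0 hw2 hd2 h2
  have a3 := stepB D hμ1 hw3 hd3 h3
  obtain ⟨e1, e2⟩ := stepC D hw1 hw2 hw3 h1 h2 h3
  rw [a1, a2, a3, ← e1] at e2
  have two := D.chart.two
  have k1 := two 1
  have k2 := two c0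
  have k3 : c0 = (c0 + c0) + c0 := by rw [k2, zero_add]
  cases b1 <;> cases b2
  · show c0 = 0
    have e3 : (c0 + 0) + (c0 + 0) = c0 + 0 := e2
    rw [add_zero, k2] at e3
    exact e3.symm
  · have e3 : (c0 + 0) + (c0 + 1) = c0 + 1 := e2
    linear_combination e3
  · have e3 : (c0 + 1) + (c0 + 0) = c0 + 1 := e2
    linear_combination e3
  · have e3 : (c0 + 1) + (c0 + 1) = c0 + 0 := e2
    rw [two, add_zero] at e3
    exact e3.symm

end

end Cfsg.Agent.OddHalf.D7F4Ex.Wsq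

namespace Cfsg.Agent.OddHalf.D7F4Ex

open Cfsg.Agent.OddHalf.D7F4.Model

variable {F : Type*} [Field F] {G : Type*} [Group G] {t : G} {E : (Fin 4 → ℤ) → F → G}
  {T : (Fin 4 → Fˣ) →* G} {W : (Fin 4 → ℤ) → Subgroup G} {κ c0 : F}

/-- `w ^ 2 = x_s (c0 a)` with `c0 = 0`. -/
theorem Dbs.c0_eq (D : Dbs t E T W κ c0) (K : K2E t E) : c0 = 0 := Wsq.c0_zero D K

/-- **The doubled root groups of the short roots have exponent two.** -/
theorem Dbs.sq_one (D : Dbs t E T W κ c0) (K : K2E t E) : ∀ s ∈ rts, B s s = 2 → ∀ w ∈ W s, w * w = 1 := by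
  intro s hs h2 w hw
  obtain ⟨a, ha⟩ := (D.chart.mem_XE hs).1 ((D.dbl s hs h2).brk w hw)
  rw [D.sq s hs h2 w hw a ha.symm, D.c0_eq K, zero_mul, D.chart.zero hs]

end Cfsg.Agent.OddHalf.D7F4Ex
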