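import Cfsg.Agent.OddHalf.D7F4Ex.Inst

/-!
# The Weyl group of a chart (S1765, node D7; F4)

* `WeyE E w k` : `k` acts on the root elements as the isometry `w`;
* `WeyE.one`, `WeyE.mul`, `WeyE.inv`, `WeyE.of_nE`;
* `exists_wey` : transitivity on the short roots, `exists_wey60`, `exists_wey90` : on the pairs of short roots at 60°, 90°;
* `range_TH`, `TH_norm`, `range_TH_dual`, `TH_norm_dual` : the torus.
-/

set_option autoImplicit false
set_option linter.unusedSectionVars false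
set_option Elab.async false

namespace Cfsg.Agent.OddHalf.D7F4Ex

open CoxeterSystem Cfsg.Agent.ChevalleyStructure.CoxeterGeom Cfsg.Agent.Tits.Roots Cfsg.Agent.Tits.Core
open Cfsg.Lie Cfsg.Agent.ChevalleyStructure Cfsg.Agent.ChevalleyStructure.Elts
  Cfsg.Agent.ChevalleyStructure.RootVec Cfsg.Agent.ChevalleyStructure.CoxeterGeomTypes
open Cfsg.Agent.Nodes Cfsg.Agent.Nodes.Reps Cfsg.Agent.Nodes.BNOf Cfsg.Agent.Nodes.RGDChev Cfsg.Agent.Nodes.Coroot
  Cfsg.Agent.Nodes.KindF Cfsg.Agent.Nodes.Bruhat Cfsg.Agent.KFacts.ChevTwo Cfsg.Agent.KFacts.ChevTwoTab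
  Cfsg.Agent.KFacts.ChevTwoInst Cfsg.Agent.KFacts.RgdTI
  Cfsg.Agent.KFacts.F4Star Cfsg.Agent.KFacts.F4Cent Cfsg.Agent.KFacts.F4Pair Cfsg.Agent.KFacts.F4Torus
  Cfsg.Agent.KFacts.F4Perf
open Cfsg.Agent.OddHalf.D7F4.Model

universe u

/-! ### Reflections -/

theorem B_smul (n : ℤ) (x y : Fin 4 → ℤ) : B (n • x) y = n * B x y := by
  unfold B; simp only [Pi.smul_apply, smul_eq_mul]; ring

theorem B_sub (x y z : Fin 4 → ℤ) : B (x - y) z = B x z - B y z := by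
  unfold B; simp only [Pi.sub_apply]; ring

theorem B_add_right (x y z : Fin 4 → ℤ) : B x (y + z) = B x y + B x z := by
  rw [B_symm, B_add, B_symm y, B_symm z]

/-- long roots have even products with all lattice vectors -/
theorem even_long : ∀ a ∈ rts, B a a = 4 → ∀ i : Fin 4, B a (Pi.single i 1) % 2 = 0 := by decide +kernel

theorem B_single (a x : Fin 4 → ℤ) : B a x = x 0 * B a (Pi.single 0 1) + x 1 * B a (Pi.single 1 1) +
    x 2 * B a (Pi.single 2 1) + x 3 * B a (Pi.single 3 1) := by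
  unfold B; simp; ring

theorem even_B {a : Fin 4 → ℤ} (ha : a ∈ rts) (h : B a a = 4) (x : Fin 4 → ℤ) : ∃ m, B a x = 2 * m := by
  have h0 := even_long a ha h 0
  have h1 := even_long a ha h 1
  have h2 := even_long a ha h 2
  have h3 := even_long a ha h 3
  obtain ⟨m0, h0⟩ := Int.dvd_of_emod_eq_zero h0
  obtain ⟨m1, h1⟩ := Int.dvd_of_emod_eq_zero h1
  obtain ⟨m2, h2⟩ := Int.dvd_of_emod_eq_zero h2
  obtain ⟨m3, h3⟩ := Int.dvd_of_emod_eq_zero h3
  refine ⟨x 0 * m0 + x 1 * m1 + x 2 * m2 + x 3 * m3, ?_⟩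
  rw [B_single, h0, h1, h2, h3]
  ring

/-- the Cartan integer -/
theorem coef {a : Fin 4 → ℤ} (ha : a ∈ rts) (x : Fin 4 → ℤ) : (2 * B a x / B a a) * B a a = 2 * B a x := by
  apply Int.ediv_mul_cancel
  rcases norm a ha with h | h
  · rw [h]; exact ⟨B a x, rfl⟩
  · obtain ⟨m, hm⟩ := even_B ha h x
    rw [h, hm]; exact ⟨m, by ring⟩

theorem norm_ne {a : Fin 4 → ℤ} (ha : a ∈ rts) : B a a ≠ 0 := by
  rcases norm a ha with h | h <;> omega

theorem rfl_add {a : Fin 4 → ℤ} (ha : a ∈ rts) (x y : Fin 4 → ℤ) : rfl' a (x + y) = rfl' a x + rfl' a y := by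
  have h1 : 2 * B a (x + y) / B a a = 2 * B a x / B a a + 2 * B a y / B a a := by
    apply Int.eq_of_mul_eq_mul_right (norm_ne ha)
    rw [add_mul, coef ha, coef ha, coef ha, B_add_right]
    ring
  unfold rfl'
  rw [h1, add_smul]
  abel

theorem B_rfl {a : Fin 4 → ℤ} (ha : a ∈ rts) (x y : Fin 4 → ℤ) : B (rfl' a x) (rfl' a y) = B x y := by
  have hx := coef ha x
  have hy := coef ha y
  unfold rfl'
  obtain ⟨m, hm⟩ : ∃ m, m = 2 * B a x / B a a := ⟨_, rfl⟩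
  obtain ⟨n, hn⟩ : ∃ n, n = 2 * B a y / B a a := ⟨_, rfl⟩
  rw [← hm] at hx ⊢
  rw [← hn] at hy ⊢
  rw [B_sub, B_smul, B_symm x, B_sub, B_smul, B_symm a (y - n • a), B_sub, B_smul, B_symm y x, B_symm y a]
  have h1 : m * (n * B a a) = n * (m * B a a) := by ring
  rw [hy, hx] at h1
  have h2 : m * B a y = n * B a x := by linarith
  have h3 : m * (n * B a a) = 2 * (m * B a y) := by rw [hy]; ring
  linarith

theorem rfl_rfl {a : Fin 4 → ℤ} (ha : a ∈ rts) (x : Fin 4 → ℤ) : rfl' a (rfl' a x) = x := by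
  have hx := coef ha x
  have hne := norm_ne ha
  have h1 : 2 * B a (rfl' a x) / B a a = -(2 * B a x / B a a) := by
    apply Int.eq_of_mul_eq_mul_right hne
    rw [coef ha, neg_mul, hx]
    unfold rfl'
    rw [B_symm, B_sub, B_smul, B_symm x]
    linarith
  unfold rfl' at h1 ⊢
  rw [h1, neg_smul]
  abel

theorem rfl_mem : ∀ a ∈ rts, ∀ b ∈ rts, rfl' a b ∈ rts := by
  intro a ha b hb
  have h1 := Coroot.isRoot_refl csF isType.isCartan (mem_rts.2 hb) (mem_rts.2 ha)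
  rw [cpr_eq hb ha, B_symm b a] at h1
  exact mem_rts.1 h1

theorem rfl_orth {a x : Fin 4 → ℤ} (h : B a x = 0) : rfl' a x = x := by
  unfold rfl'
  rw [h, mul_zero, Int.zero_ediv, zero_smul, sub_zero]

variable {F : Type*} [Field F] {G : Type*} [Group G] {E : (Fin 4 → ℤ) → F → G} {T : (Fin 4 → Fˣ) →* G}

/-- `k` acts on the root elements as the isometry `w`. -/
structure WeyE (E : (Fin 4 → ℤ) → F → G) (w : (Fin 4 → ℤ) → (Fin 4 → ℤ)) (k : G) : Prop where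
  mem : ∀ a ∈ rts, w a ∈ rts
  surj : ∀ b ∈ rts, ∃ a ∈ rts, w a = b
  iso : ∀ a ∈ rts, ∀ b ∈ rts, B (w a) (w b) = B a b
  add : ∀ x y, w (x + y) = w x + w y
  act : ∀ a ∈ rts, ∀ u, k * E a u * k⁻¹ = E (w a) u

theorem WeyE.one : WeyE E (fun x => x) 1 where
  mem _ h := h
  surj b hb := ⟨b, hb, rfl⟩
  iso _ _ _ _ := rfl
  add _ _ := rfl
  act a _ u := by rw [one_mul, inv_one, mul_one]

theorem WeyE.mul {w w' : (Fin 4 → ℤ) → (Fin 4 → ℤ)} {k k' : G} (h : WeyE E w k) (h' : WeyE E w' k') :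
    WeyE E (fun x => w (w' x)) (k * k') where
  mem a ha := h.mem _ (h'.mem a ha)
  surj b hb := by
    obtain ⟨c, hc, rfl⟩ := h.surj b hb
    obtain ⟨a, ha, rfl⟩ := h'.surj c hc
    exact ⟨a, ha, rfl⟩
  iso a ha b hb := by
    rw [h.iso _ (h'.mem a ha) _ (h'.mem b hb), h'.iso a ha b hb]
  add x y := by rw [h'.add, h.add]
  act a ha u := by
    have e : k * k' * E a u * (k * k')⁻¹ = k * (k' * E a u * k'⁻¹) * k⁻¹ := by group
    rw [e, h'.act a ha, h.act _ (h'.mem a ha)]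

/-- the standard basis consists of roots -/
theorem single_mem : ∀ i : Fin 4, Pi.single i 1 ∈ rts := by decide +kernel

theorem WeyE.inv {w : (Fin 4 → ℤ) → (Fin 4 → ℤ)} {k : G} (h : WeyE E w k) :
    ∃ w', WeyE E w' k⁻¹ ∧ (∀ x, w' (w x) = x) ∧ ∀ x, w (w' x) = x := by
  obtain ⟨φ, hφ⟩ : ∃ φ : (Fin 4 → ℤ) →ₗ[ℤ] (Fin 4 → ℤ), ∀ x, φ x = w x :=
    ⟨(AddMonoidHom.mk' w h.add).toIntLinearMap, fun _ => rfl⟩
  have hsurj : Function.Surjective φ := by
    intro x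
    choose c hc hc' using fun i => h.surj _ (single_mem i)
    refine ⟨∑ i, x i • c i, ?_⟩
    rw [map_sum]
    conv_rhs => rw [← Finset.univ_sum_single x]
    refine Finset.sum_congr rfl fun i _ => ?_
    rw [map_smul, hφ, hc']
    ext j
    rw [Pi.smul_apply, smul_eq_mul, Pi.single_apply, Pi.single_apply]
    split_ifs <;> simp
  have hinj : Function.Injective φ := IsNoetherian.injective_of_surjective_endomorphism φ hsurj
  obtain ⟨w', hw'⟩ : ∃ w' : (Fin 4 → ℤ) → (Fin 4 → ℤ), ∀ x, w (w' x) = x := by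
    choose w' hw' using hsurj
    exact ⟨w', fun x => by rw [← hφ, hw']⟩
  have hinj' : ∀ x y, w x = w y → x = y := fun x y hxy => hinj (by rw [hφ, hφ, hxy])
  have hw'' : ∀ x, w' (w x) = x := fun x => hinj' _ _ (hw' _)
  refine ⟨w', ⟨?_, ?_, ?_, ?_, ?_⟩, hw'', hw'⟩
  · intro b hb
    obtain ⟨a, ha, rfl⟩ := h.surj b hb
    rwa [hw'']
  · intro a ha
    exact ⟨w a, h.mem a ha, hw'' a⟩
  · intro b hb c hc
    obtain ⟨a, ha, rfl⟩ := h.surj b hb
    obtain ⟨a', ha', rfl⟩ := h.surj c hc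
    rw [hw'', hw'', h.iso a ha a' ha']
  · intro x y
    apply hinj'
    rw [h.add, hw', hw', hw']
  · intro b hb u
    obtain ⟨a, ha, rfl⟩ := h.surj b hb
    rw [hw'', ← h.act a ha]
    group

theorem WeyE.of_nE (C : Chart E T) {a : Fin 4 → ℤ} (ha : a ∈ rts) : WeyE E (rfl' a) (nE E a) where
  mem b hb := rfl_mem a ha b hb
  surj b hb := ⟨rfl' a b, rfl_mem a ha b hb, rfl_rfl ha b⟩
  iso x _ y _ := B_rfl ha x y
  add := rfl_add ha
  act b hb u := C.nrf a ha b hb u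

/-! ### Transitivity -/

theorem k_t1 : ∀ s ∈ rts, B s s = 2 → ∃ a ∈ rts, rfl' a s0 = s ∨ rfl' a (rfl' s s0) = s := by decide +kernel

theorem k_t2 : ∀ s ∈ rts, B s s = 2 → B s0 s = 1 → ∃ i : Sp, s = rz i := by decide +kernel

theorem k_t2' : ∀ (i : Sp) (k : Fin 3), rfl' (rc (k, true)) (rz i) = rz (fl i k) := by decide +kernel

theorem k_t2'' : ∀ k : Fin 3, B (rc (k, true)) s0 = 0 := by decide +kernel

theorem k_t3 : ∀ s ∈ rts, B s s = 2 → B s0 s = 0 → ∃ a ∈ rts, B a s0 = 0 ∧ rfl' a (rc (0, true)) = s := by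
  decide +kernel

theorem fl_ind {A : Sp → Prop} (h0 : A (fun _ => true)) (h : ∀ i k, A i → A (fl i k)) (i : Sp) : A i := by
  have h1 : ∀ b : Bool, ∀ j : Sp, A j → A (if b then j else fl j 0) := by
    intro b j hj
    cases b
    · exact h _ _ hj
    · exact hj
  have h2 : ∀ b : Bool, ∀ j : Sp, A j → A (if b then j else fl j 1) := by
    intro b j hj
    cases b
    · exact h _ _ hj
    · exact hj
  have h3 : ∀ b : Bool, ∀ j : Sp, A j → A (if b then j else fl j 2) := by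
    intro b j hj
    cases b
    · exact h _ _ hj
    · exact hj
  have h4 := h3 (i 2) _ (h2 (i 1) _ (h1 (i 0) _ h0))
  have key : ∀ i : Sp, (if i 2 then (if i 1 then (if i 0 then (fun _ => true : Sp) else fl (fun _ => true) 0) else
      fl (if i 0 then (fun _ => true : Sp) else fl (fun _ => true) 0) 1) else
      fl (if i 1 then (if i 0 then (fun _ => true : Sp) else fl (fun _ => true) 0) else
        fl (if i 0 then (fun _ => true : Sp) else fl (fun _ => true) 0) 1) 2) = i := by decide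
  rw [key i] at h4
  exact h4

/-- the group generated by the root elements -/
def EG (E : (Fin 4 → ℤ) → F → G) : Subgroup G := Subgroup.closure {g | ∃ a ∈ rts, ∃ u, g = E a u}

theorem nE_mem {a : Fin 4 → ℤ} (ha : a ∈ rts) :
    nE E a ∈ Subgroup.closure {g | ∃ a ∈ rts, ∃ u, g = E a u} := by
  have h1 : ∀ a ∈ rts, ∀ u, E a u ∈ Subgroup.closure {g | ∃ a ∈ rts, ∃ u, g = E a u} := fun a ha u =>
    Subgroup.subset_closure ⟨a, ha, u, rfl⟩
  have h2 := (k_neg a ha).1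
  exact mul_mem (mul_mem (h1 a ha 1) (h1 _ h2 1)) (h1 a ha 1)

/-- **Transitivity on the short roots.** -/
theorem exists_wey (C : Chart E T) : ∀ s ∈ rts, B s s = 2 → ∃ w k, WeyE E w k ∧ w s0 = s ∧
    k ∈ Subgroup.closure {g | ∃ a ∈ rts, ∃ u, g = E a u} := by
  intro s hs h2
  obtain ⟨a, ha, e | e⟩ := k_t1 s hs h2
  · exact ⟨_, _, WeyE.of_nE C ha, e, nE_mem ha⟩
  · exact ⟨_, _, (WeyE.of_nE C ha).mul (WeyE.of_nE C hs), e, mul_mem (nE_mem ha) (nE_mem hs)⟩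

/-- **Transitivity on the pairs of short roots at 60°.** -/
theorem exists_wey60 (C : Chart E T) : ∀ s ∈ rts, ∀ s' ∈ rts, B s s = 2 → B s' s' = 2 → B s s' = 1 →
    ∃ w k, WeyE E w k ∧ w s0 = s ∧ w (rz fun _ => true) = s' ∧
      k ∈ Subgroup.closure {g | ∃ a ∈ rts, ∃ u, g = E a u} := by
  intro s hs s' hs' h2 h2' h1
  obtain ⟨w, k, hw, e, hk⟩ := exists_wey C s hs h2
  obtain ⟨w', hw', e1, e2⟩ := hw.inv
  have h3 : B s0 (w' s') = 1 := by
    rw [← e1 s0, hw'.iso _ (hw.mem _ s0_mem) _ hs', e, h1]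
  have h4 : B (w' s') (w' s') = 2 := by rw [hw'.iso _ hs' _ hs', h2']
  obtain ⟨i, hi⟩ := k_t2 _ (hw'.mem _ hs') h4 h3
  have h5 : ∃ w k, WeyE E w k ∧ w s0 = s0 ∧ w (rz fun _ => true) = rz i ∧
      k ∈ Subgroup.closure {g | ∃ a ∈ rts, ∃ u, g = E a u} := by
    clear hi
    induction i using fl_ind with
    | h0 => exact ⟨_, _, WeyE.one, rfl, rfl, one_mem _⟩
    | h i j ih =>
      obtain ⟨v, m, hv, v1, v2, hm⟩ := ih
      refine ⟨_, _, (WeyE.of_nE C (rc_mem (j, true))).mul hv, ?_, ?_, mul_mem (nE_mem (rc_mem (j, true))) hm⟩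
      · show rfl' _ (v s0) = s0
        rw [v1, rfl_orth (k_t2'' j)]
      · show rfl' _ (v _) = _
        rw [v2, k_t2']
  obtain ⟨v, m, hv, v1, v2, hm⟩ := h5
  refine ⟨_, _, hw.mul hv, ?_, ?_, mul_mem hk hm⟩
  · show w (v s0) = s
    rw [v1, e]
  · show w (v (rz fun _ => true)) = s'
    rw [v2, ← hi, e2]

/-- **Transitivity on the orthogonal pairs of short roots.** -/
theorem exists_wey90 (C : Chart E T) : ∀ s ∈ rts, ∀ s' ∈ rts, B s s = 2 → B s' s' = 2 → B s s' = 0 →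
    ∃ w k, WeyE E w k ∧ w s0 = s ∧ w (rc (0, true)) = s' ∧
      k ∈ Subgroup.closure {g | ∃ a ∈ rts, ∃ u, g = E a u} := by
  intro s hs s' hs' h2 h2' h1
  obtain ⟨w, k, hw, e, hk⟩ := exists_wey C s hs h2
  obtain ⟨w', hw', e1, e2⟩ := hw.inv
  have h3 : B s0 (w' s') = 0 := by
    rw [← e1 s0, hw'.iso _ (hw.mem _ s0_mem) _ hs', e, h1]
  have h4 : B (w' s') (w' s') = 2 := by rw [hw'.iso _ hs' _ hs', h2']
  obtain ⟨a, ha, ha', e3⟩ := k_t3 _ (hw'.mem _ hs') h4 h3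
  refine ⟨_, _, hw.mul (WeyE.of_nE C ha), ?_, ?_, mul_mem hk (nE_mem ha)⟩
  · show w (rfl' a s0) = s
    rw [rfl_orth ha', e]
  · show w (rfl' a (rc (0, true))) = s'
    rw [e3, e2]

/-! ### The torus -/

theorem dualH_surj {rt : F ≃+* F} (hrt : ∀ u, rt u ^ 2 = u) : Function.Surjective (dualH (F := F) rt) := by
  intro y
  have hr : ∀ z : Fˣ, Units.map (rt : F →* F) (z * z) = z := by
    intro z
    apply Units.ext
    have := rt_sq rt hrt (z : F)
    rw [pow_two] at this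
    exact this
  refine ⟨![y 0 * y 1, y 0 * (y 1)⁻¹, y 2 * y 3, y 2 * (y 3)⁻¹], ?_⟩
  funext i
  fin_cases i
  · show Units.map (rt : F →* F) (y 0 * y 1 * (y 0 * (y 1)⁻¹)) = y 0
    rw [mul_mul_mul_comm, mul_inv_cancel, mul_one, hr]
  · show Units.map (rt : F →* F) (y 0 * y 1 * (y 0 * (y 1)⁻¹)⁻¹) = y 1
    rw [mul_inv, inv_inv, mul_mul_mul_comm, mul_inv_cancel, one_mul, hr]
  · show Units.map (rt : F →* F) (y 2 * y 3 * (y 2 * (y 3)⁻¹)) = y 2
    rw [mul_mul_mul_comm, mul_inv_cancel, mul_one, hr]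
  · show Units.map (rt : F →* F) (y 2 * y 3 * (y 2 * (y 3)⁻¹)⁻¹) = y 3
    rw [mul_inv, inv_inv, mul_mul_mul_comm, mul_inv_cancel, one_mul, hr]

theorem unit_sqrt [Finite F] [CharP F 2] (a : Fˣ) : ∃ b : Fˣ, b ^ 2 = a := by
  have hinj : Function.Injective (fun b : Fˣ => b ^ 2) := by
    intro b c hbc
    apply Units.ext
    have h4 : (b : F) ^ 2 = (c : F) ^ 2 := by
      have := congrArg (Units.val) hbc
      simpa using this
    have h3 : ((b : F) + c) ^ 2 = 0 := by rw [CharTwo.add_sq, h4, CharTwo.add_self_eq_zero]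
    exact CharTwo.add_eq_zero.1 (pow_eq_zero_iff two_ne_zero |>.1 h3)
  exact Finite.surjective_of_injective hinj a

/-- every character of the lattice comes from the torus -/
theorem exists_nu [Finite F] [CharP F 2] (χ : (Fin 4 → ℤ) →+ Additive Fˣ) :
    ∃ ν : Fin 4 → Fˣ, ∀ x, χ x = Additive.ofMul (chd ν x) := by
  obtain ⟨c, hc⟩ : ∃ c : Fin 4 → Fˣ, ∀ i, χ (Pi.single i 1) = Additive.ofMul (c i) :=
    ⟨fun i => (χ (Pi.single i 1)).toMul, fun _ => rfl⟩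
  obtain ⟨n3, h3⟩ := unit_sqrt (c 1)
  obtain ⟨n2, h2⟩ := unit_sqrt (c 2 * c 1)
  obtain ⟨n1, h1⟩ := unit_sqrt (c 3 * c 2 * c 1)
  obtain ⟨ν, hν⟩ : ∃ ν : Fin 4 → Fˣ, ν = ![c 0 * n1 * n2 * n3, n1, n2, n3] := ⟨_, rfl⟩
  refine ⟨ν, fun x => ?_⟩
  have key : χ = chH ν := by
    apply AddMonoidHom.functions_ext
    intro i m
    have e : (Pi.single i m : Fin 4 → ℤ) = m • Pi.single i 1 := by
      ext j
      rw [Pi.smul_apply, smul_eq_mul, Pi.single_apply, Pi.single_apply]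
      split_ifs <;> simp
    rw [e, map_zsmul, map_zsmul, hc]
    congr 1
    show Additive.ofMul (c i) = Additive.ofMul (chd ν (Pi.single i 1))
    congr 1
    have k0 : ∀ a b c d : Fˣ, a * b * c * d * b⁻¹ * c⁻¹ * d⁻¹ = a := by
      intro a b c d
      rw [mul_right_comm _ d b⁻¹, mul_right_comm _ c b⁻¹, mul_inv_cancel_right, mul_right_comm _ d c⁻¹,
        mul_inv_cancel_right, mul_inv_cancel_right]
    rw [chd_eq, hν]
    fin_cases i
    · simp [dd]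
      rw [k0]
    · simp [dd]
      rw [h3]
    · simp [dd]
      rw [h2, h3, mul_inv_cancel_right]
    · simp [dd]
      rw [h1, h2, mul_assoc (c 3), mul_inv_cancel_right]
  rw [key]
  rfl

section Tor

variable {F : Type u} [Field F] [Finite F] [CharP F 2]

theorem range_TH : (TH (F := F)).range = TF F := by
  apply le_antisymm
  · rintro _ ⟨ν, rfl⟩
    exact tH_mem ν
  · intro t ht
    obtain ⟨χ, hχ⟩ := (sysF (K := F) csF).chi t ht
    obtain ⟨ν, hν⟩ := exists_nu χ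
    refine ⟨ν, eq_of_conj csF fun x hx u => ?_⟩
    rw [hχ x hx u, hν, TH_conj ν (mem_rts.1 hx)]
    rfl

theorem range_TH_dual {rt : F ≃+* F} (hrt : ∀ u, rt u ^ 2 = u) : (TH.comp (dualH (F := F) rt)).range = TF F := by
  rw [← range_TH]
  apply le_antisymm
  · rintro _ ⟨ν, rfl⟩
    exact ⟨_, rfl⟩
  · rintro _ ⟨ν, rfl⟩
    obtain ⟨ν', rfl⟩ := dualH_surj hrt ν
    exact ⟨ν', rfl⟩

theorem TH_norm (hq : ∃ μ : Fˣ, μ ≠ 1) {a : Fin 4 → ℤ} (ha : a ∈ rts) (ν : Fin 4 → Fˣ) :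
    ∃ ν', nE (eF F) a * TH ν * (nE (eF F) a)⁻¹ = TH ν' := by
  have hw := WeyE.of_nE (chartY hq) ha
  obtain ⟨ν', hν'⟩ := exists_nu ((chH ν).comp (AddMonoidHom.mk' (rfl' a) (rfl_add ha)))
  refine ⟨ν', eq_of_conj csF fun x hx u => ?_⟩
  have hx' := mem_rts.1 hx
  have h1 : (nE (eF F) a)⁻¹ * eF F x u * nE (eF F) a = eF F (rfl' a x) u := by
    rw [← rfl_rfl ha x, ← hw.act _ (hw.mem x hx'), rfl_rfl ha]
    group
  have h2 : chd ν' x = chd ν (rfl' a x) := (hν' x).symm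
  rw [TH_conj ν' hx', h2]
  calc nE (eF F) a * TH ν * (nE (eF F) a)⁻¹ * eF F x u * (nE (eF F) a * TH ν * (nE (eF F) a)⁻¹)⁻¹ =
      nE (eF F) a * (TH ν * ((nE (eF F) a)⁻¹ * eF F x u * nE (eF F) a) * (TH ν)⁻¹) * (nE (eF F) a)⁻¹ := by group
    _ = _ := by rw [h1, TH_conj ν (hw.mem x hx'), hw.act _ (hw.mem x hx'), rfl_rfl ha]

theorem TH_norm_dual (hq : ∃ μ : Fˣ, μ ≠ 1) {rt : F ≃+* F} (hrt : ∀ u, rt u ^ 2 = u) {a : Fin 4 → ℤ} (ha : a ∈ rts)
    (ν : Fin 4 → Fˣ) : ∃ ν', nE (dualE rt (eF F)) a * (TH.comp (dualH rt)) ν * (nE (dualE rt (eF F)) a)⁻¹ =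
      (TH.comp (dualH rt)) ν' := by
  rw [nE_dual rt ha]
  obtain ⟨ν', h1⟩ := TH_norm hq (dual_mem a ha) (dualH rt ν)
  obtain ⟨ν'', rfl⟩ := dualH_surj hrt ν'
  exact ⟨ν'', h1⟩

end Tor

end Cfsg.Agent.OddHalf.D7F4Ex
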