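import Cfsg.Agent.OddHalf.D7F4Ex.GDataF
import Cfsg.Agent.OddHalf.D7F4Ex.Wey
import Cfsg.Agent.OddHalf.D7F4.Fusion
import Cfsg.Agent.OddHalf.D7F4.XG

/-!
# Existence of the doubled root groups of all short roots of a chart

`dbl_le` : uniqueness of the doubled root group; `exists_dbs` : `Dbs` from `GData` at `s0` and `Moved t X_{s0}`;
`exists_dbs_frame` : for a frame `f : F₄(q) → C_G(t)` and a chart with its K-facts.
-/

set_option autoImplicit false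
set_option linter.unusedSectionVars false
set_option linter.style.haveILetI false

namespace Cfsg.Agent.OddHalf.D7F4Ex

open Subgroup Cfsg.Lie Cfsg.Agent.OddHalf.D7F4 Cfsg.Agent.OddHalf.D7F4.Model

section Uniq

variable {G : Type*} [Group G] {t : G} {X P W W' : Subgroup G}

/-- **Uniqueness of the doubled root group.** -/
theorem dbl_le (tt : t * t = 1) (XP : X ≤ P) (tP : ∀ p ∈ P, t * p = p * t)
    (cP : ∀ c, t * c = c * t → (∀ p ∈ P, c * p = p * c) → c ∈ X ∨ t * c ∈ X)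
    (hW : D7Ex.IsDbl t X P W) (hW' : D7Ex.IsDbl t X P W') {h : G} (ht : t * h = h * t)
    (hX : ∀ x ∈ X, h * x * h⁻¹ ∈ X) (hs : ∀ x ∈ X, ∃ y ∈ X, h * y * h⁻¹ * y⁻¹ = x)
    (hn : ∀ w ∈ W, h * w * h⁻¹ ∈ W) (hn' : ∀ w ∈ W', h * w * h⁻¹ ∈ W') : W ≤ W' := by
  have ti : t⁻¹ = t := inv_eq_of_mul_eq_one_left tt
  have hit : h⁻¹ * t = t * h⁻¹ := by
    rw [inv_mul_eq_iff_eq_mul, ← mul_assoc, ← ht, mul_inv_cancel_right]
  intro w hw
  obtain ⟨x, hx⟩ : ∃ x, x = w⁻¹ * (t * w * t) := ⟨_, rfl⟩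
  have hxX : x ∈ X := hx ▸ hW.brk w hw
  obtain ⟨y, hy, hyx⟩ := hs x hxX
  obtain ⟨a, ha, hay⟩ := hW.surj y hy
  obtain ⟨b, hb, hby⟩ := hW'.surj y hy
  have ew : t * w * t = w * x := by rw [hx]; group
  have ea : t * a * t = a * y := by rw [← hay]; group
  have eb : t * b * t = b * y := by rw [← hby]; group
  have inv_t : ∀ {g g' : G}, t * g * t = g' → t * g⁻¹ * t = g'⁻¹ := by
    intro g g' hg
    rw [← hg, mul_inv_rev, mul_inv_rev, ti]; group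
  have mul_t : ∀ {g g' k k' : G}, t * g * t = g' → t * k * t = k' → t * (g * k) * t = g' * k' := by
    intro g g' k k' hg hk
    rw [← hg, ← hk]
    calc t * (g * k) * t = t * g * 1 * k * t := by group
      _ = t * g * (t * t) * k * t := by rw [tt]
      _ = _ := by group
  have comm_of : ∀ {g : G}, t * g * t = g → t * g = g * t := by
    intro g hg
    calc t * g = t * g * (t * t) := by rw [tt, mul_one]
      _ = t * g * t * t := by group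
      _ = g * t := by rw [hg]
  -- `b a⁻¹`
  obtain ⟨c, hc⟩ : ∃ c, c = b * a⁻¹ := ⟨_, rfl⟩
  have hct : t * c = c * t := by
    apply comm_of
    rw [hc, mul_t eb (inv_t ea), mul_inv_rev]; group
  have hcP : ∀ p ∈ P, c * p = p * c := by
    intro p hp
    have h1 := hW'.WP b hb p hp
    have h2 := hW.WP a ha p hp
    have h3 : a⁻¹ * p = p * a⁻¹ := by rw [inv_mul_eq_iff_eq_mul, ← mul_assoc, h2, mul_inv_cancel_right]
    rw [hc, mul_assoc, h3, ← mul_assoc, h1, mul_assoc]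
  obtain ⟨d, hd⟩ : ∃ d, d = h * a * h⁻¹ * a⁻¹ := ⟨_, rfl⟩
  have hdW : d ∈ W := hd ▸ mul_mem (hn a ha) (inv_mem ha)
  -- `d ^ t = d x`
  have hha : t * (h * a * h⁻¹) * t = h * a * h⁻¹ * (h * y * h⁻¹) := by
    calc t * (h * a * h⁻¹) * t = (t * h) * a * (h⁻¹ * t) := by group
      _ = h * (t * a * t) * h⁻¹ := by rw [ht, hit]; group
      _ = _ := by rw [ea]; group
  have ed : t * d * t = d * x := by
    rw [hd, mul_t hha (inv_t ea), mul_inv_rev]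
    have h1 := hW.WP a ha x (XP hxX)
    have h2 : x * a⁻¹ = a⁻¹ * x := by rw [eq_inv_mul_iff_mul_eq, ← mul_assoc, h1, mul_inv_cancel_right]
    calc h * a * h⁻¹ * (h * y * h⁻¹) * (y⁻¹ * a⁻¹) = h * a * h⁻¹ * (h * y * h⁻¹ * y⁻¹) * a⁻¹ := by group
      _ = h * a * h⁻¹ * (x * a⁻¹) := by rw [hyx]; group
      _ = _ := by rw [h2]; group
  have hbW : h * b * h⁻¹ * b⁻¹ ∈ W' := mul_mem (hn' b hb) (inv_mem hb)
  have hb' : b = c * a := by rw [hc]; group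
  have hdW' : d ∈ W' := by
    rcases cP c hct hcP with hcX | hcX
    · have e1 : d = (h * c * h⁻¹)⁻¹ * (h * b * h⁻¹ * b⁻¹) * c := by rw [hd, hb']; group
      rw [e1]
      exact mul_mem (mul_mem (inv_mem (hW'.XW (hX c hcX))) hbW) (hW'.XW hcX)
    · obtain ⟨x1, hx1⟩ : ∃ x1, x1 = t * c := ⟨_, rfl⟩
      rw [← hx1] at hcX
      have hc1 : c = t * x1 := by rw [hx1, ← mul_assoc, tt, one_mul]
      have htx := tP x1 (XP hcX)
      have hthx := tP _ (XP (hX x1 hcX))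
      have e0 : h * b * h⁻¹ * b⁻¹ = (h * x1 * h⁻¹) * (d * x) * x1⁻¹ := by
        have e1 : h * b * h⁻¹ = t * (h * x1 * h⁻¹) * (h * a * h⁻¹) := by
          rw [hb', hc1]
          calc h * (t * x1 * a) * h⁻¹ = (h * t) * x1 * a * h⁻¹ := by group
            _ = t * (h * x1 * h⁻¹) * (h * a * h⁻¹) := by rw [← ht]; group
        have e2 : b⁻¹ = a⁻¹ * x1⁻¹ * t := by rw [hb', hc1, mul_inv_rev, mul_inv_rev, ti]; group
        have e3 : x1⁻¹ * t = t * x1⁻¹ := by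
          rw [inv_mul_eq_iff_eq_mul, ← mul_assoc, ← htx, mul_inv_cancel_right]
        rw [e1, e2]
        calc t * (h * x1 * h⁻¹) * (h * a * h⁻¹) * (a⁻¹ * x1⁻¹ * t)
            = (t * (h * x1 * h⁻¹)) * (h * a * h⁻¹ * a⁻¹) * (x1⁻¹ * t) := by group
          _ = (h * x1 * h⁻¹) * (t * d * t) * x1⁻¹ := by rw [hthx, ← hd, e3]; group
          _ = _ := by rw [ed]
      have e1 : d = (h * x1 * h⁻¹)⁻¹ * (h * b * h⁻¹ * b⁻¹) * x1 * x⁻¹ := by rw [e0]; group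
      rw [e1]
      exact mul_mem (mul_mem (mul_mem (inv_mem (hW'.XW (hX x1 hcX))) hbW) (hW'.XW hcX)) (inv_mem (hW'.XW hxX))
  have hwd : w * d⁻¹ ∈ X := by
    apply hW.cent _ (mul_mem hw (inv_mem hdW))
    apply comm_of
    rw [mul_t ew (inv_t ed), mul_inv_rev]; group
  have e2 : w = w * d⁻¹ * d := by group
  rw [e2]
  exact mul_mem (hW'.XW hwd) hdW'

/-- transport -/
theorem isDbl_conj (hW : D7Ex.IsDbl t X P W) {k : G} (hk : k * t = t * k) {X' P' : Subgroup G}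
    (hX : ∀ x ∈ X, k * x * k⁻¹ ∈ X') (hX' : ∀ x ∈ X', k⁻¹ * x * k ∈ X) (hP : ∀ p ∈ P', k⁻¹ * p * k ∈ P) :
    D7Ex.IsDbl t X' P' (W.map (MulAut.conj k).toMonoidHom) := by
  have hki : k⁻¹ * t = t * k⁻¹ := by
    rw [inv_mul_eq_iff_eq_mul, ← mul_assoc, hk, mul_inv_cancel_right]
  have key : ∀ w : G, (k * w * k⁻¹)⁻¹ * (t * (k * w * k⁻¹) * t) = k * (w⁻¹ * (t * w * t)) * k⁻¹ := by
    intro w
    calc (k * w * k⁻¹)⁻¹ * (t * (k * w * k⁻¹) * t) = k * w⁻¹ * k⁻¹ * (t * k) * w * (k⁻¹ * t) := by group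
      _ = k * w⁻¹ * k⁻¹ * (k * t) * w * (t * k⁻¹) := by rw [hk, hki]
      _ = _ := by group
  refine ⟨?_, ?_, ?_, ?_, ?_⟩
  · intro x hx
    refine ⟨k⁻¹ * x * k, hW.XW (hX' x hx), ?_⟩
    show k * (k⁻¹ * x * k) * k⁻¹ = x
    group
  · rintro _ ⟨w, hw, rfl⟩ p hp
    show k * w * k⁻¹ * p = p * (k * w * k⁻¹)
    have h1 := hW.WP w hw _ (hP p hp)
    calc k * w * k⁻¹ * p = k * (w * (k⁻¹ * p * k)) * k⁻¹ := by group
      _ = k * ((k⁻¹ * p * k) * w) * k⁻¹ := by rw [h1]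
      _ = _ := by group
  · rintro _ ⟨w, hw, rfl⟩
    show (k * w * k⁻¹)⁻¹ * (t * (k * w * k⁻¹) * t) ∈ X'
    rw [key]
    exact hX _ (hW.brk w hw)
  · rintro _ ⟨w, hw, rfl⟩ h1
    have h1' : t * (k * w * k⁻¹) = k * w * k⁻¹ * t := h1
    refine hX _ (hW.cent w hw ?_)
    calc t * w = k⁻¹ * (k * t) * w := by group
      _ = k⁻¹ * (t * (k * w * k⁻¹)) * k := by rw [hk]; group
      _ = w * (k⁻¹ * t) * k := by rw [h1']; group
      _ = w * t := by rw [hki]; group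
  · intro x hx
    obtain ⟨w, hw, h1⟩ := hW.surj _ (hX' x hx)
    refine ⟨_, ⟨w, hw, rfl⟩, ?_⟩
    show (k * w * k⁻¹)⁻¹ * (t * (k * w * k⁻¹) * t) = x
    rw [key, h1]; group

end Uniq

variable {F : Type*} [Field F] {G : Type*} [Group G] {t : G} {E : (Fin 4 → ℤ) → F → G} {T : (Fin 4 → Fˣ) →* G}

/-- `k ∈ C(t)` acts on the chart as `w` -/
structure WK (t : G) (E : (Fin 4 → ℤ) → F → G) (T : (Fin 4 → Fˣ) →* G) (w : (Fin 4 → ℤ) → (Fin 4 → ℤ)) (k : G) :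
    Prop where
  wey : WeyE E w k
  kt : k * t = t * k
  tor : ∀ ν, ∃ ν', k * T ν * k⁻¹ = T ν'
  torI : ∀ ν, ∃ ν', k⁻¹ * T ν * k = T ν'

theorem Chart.eq_of (C : Chart E T) {a : Fin 4 → ℤ} (ha : a ∈ rts) {u v : F} (h : E a u = E a v) : u = v := by
  have h1 : E a (u + v) = 1 := by rw [C.add a ha, h, C.sq ha]
  have h2 := C.inj a ha _ h1
  calc u = (u + v) + v := by rw [add_assoc, C.two, add_zero]
    _ = v := by rw [h2, zero_add]

/-- `n_a ^ 2 = 1` -/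
theorem Chart.nE_sq (C : Chart E T) {a : Fin 4 → ℤ} (ha : a ∈ rts) : nE E a * nE E a = 1 := by
  have hn : -a ∈ rts := (k_neg a ha).1
  have h0 : rfl' a a = -a := by
    unfold rfl'
    have : 2 * B a a / B a a = 2 := by
      rcases Model.norm a ha with h | h <;> rw [h] <;> norm_num
    rw [this, two_smul]; abel
  have h0' : rfl' a (-a) = a := by rw [← h0, rfl_rfl ha]
  have h1 := C.nrf a ha a ha 1
  have h2 := C.nrf a ha (-a) hn 1
  rw [h0] at h1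
  rw [h0'] at h2
  have h3 : nE E a = E (-a) 1 * E a 1 * E (-a) 1 := by
    calc nE E a = nE E a * nE E a * (nE E a)⁻¹ := by group
      _ = nE E a * (E a 1 * E (-a) 1 * E a 1) * (nE E a)⁻¹ := rfl
      _ = (nE E a * E a 1 * (nE E a)⁻¹) * (nE E a * E (-a) 1 * (nE E a)⁻¹) * (nE E a * E a 1 * (nE E a)⁻¹) := by group
      _ = _ := by rw [h1, h2]
  have h4 := C.sq ha 1
  have h5 := C.sq hn 1
  calc nE E a * nE E a = (E a 1 * E (-a) 1 * E a 1) * nE E a := rfl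
    _ = E a 1 * E (-a) 1 * E a 1 * (E (-a) 1 * E a 1 * E (-a) 1) := by rw [h3]
    _ = E a 1 * E (-a) 1 * (E a 1 * E (-a) 1 * E a 1) * E (-a) 1 := by group
    _ = E a 1 * E (-a) 1 * nE E a * E (-a) 1 := rfl
    _ = E a 1 * E (-a) 1 * (E (-a) 1 * E a 1 * E (-a) 1) * E (-a) 1 := by rw [h3]
    _ = E a 1 * (E (-a) 1 * E (-a) 1) * E a 1 * (E (-a) 1 * E (-a) 1) := by group
    _ = 1 := by rw [h5, mul_one, mul_one, h4]

theorem WK.mul {w w' : (Fin 4 → ℤ) → (Fin 4 → ℤ)} {k k' : G} (h : WK t E T w k) (h' : WK t E T w' k') :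
    WK t E T (fun x => w (w' x)) (k * k') where
  wey := h.wey.mul h'.wey
  kt := by rw [mul_assoc, h'.kt, ← mul_assoc, h.kt, mul_assoc]
  tor := by
    intro ν
    obtain ⟨ν1, h1⟩ := h'.tor ν
    obtain ⟨ν2, h2⟩ := h.tor ν1
    refine ⟨ν2, ?_⟩
    rw [← h2, ← h1]; group
  torI := by
    intro ν
    obtain ⟨ν1, h1⟩ := h.torI ν
    obtain ⟨ν2, h2⟩ := h'.torI ν1
    refine ⟨ν2, ?_⟩
    rw [← h2, ← h1]; group

theorem WK.inv {w : (Fin 4 → ℤ) → (Fin 4 → ℤ)} {k : G} (h : WK t E T w k) :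
    ∃ w', WK t E T w' k⁻¹ ∧ (∀ x, w' (w x) = x) ∧ ∀ x, w (w' x) = x := by
  obtain ⟨w', h1, h2, h3⟩ := h.wey.inv
  refine ⟨w', ⟨h1, ?_, ?_, ?_⟩, h2, h3⟩
  · rw [inv_mul_eq_iff_eq_mul, ← mul_assoc, h.kt, mul_inv_cancel_right]
  · intro ν
    obtain ⟨ν', e⟩ := h.torI ν
    exact ⟨ν', by rw [inv_inv]; exact e⟩
  · intro ν
    obtain ⟨ν', e⟩ := h.tor ν
    exact ⟨ν', by rw [inv_inv]; exact e⟩

theorem WK.of_nE (C : Chart E T) (tE : ∀ a ∈ rts, ∀ u, t * E a u = E a u * t)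
    (torN : ∀ a ∈ rts, ∀ ν, ∃ ν', nE E a * T ν * (nE E a)⁻¹ = T ν') {a : Fin 4 → ℤ} (ha : a ∈ rts) :
    WK t E T (rfl' a) (nE E a) where
  wey := WeyE.of_nE C ha
  kt := by
    have h1 := tE a ha 1
    have h2 := tE (-a) (k_neg a ha).1 1
    unfold nE
    calc E a 1 * E (-a) 1 * E a 1 * t = E a 1 * E (-a) 1 * (E a 1 * t) := by group
      _ = E a 1 * (E (-a) 1 * t) * E a 1 := by rw [← h1]; group
      _ = (E a 1 * t) * E (-a) 1 * E a 1 := by rw [← h2]; group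
      _ = _ := by rw [← h1]; group
  tor := torN a ha
  torI := by
    intro ν
    obtain ⟨ν', h⟩ := torN a ha ν
    have e : (nE E a)⁻¹ = nE E a := inv_eq_of_mul_eq_one_left (C.nE_sq ha)
    refine ⟨ν', ?_⟩
    rw [← h, e]

theorem WK.chd (C : Chart E T) {w : (Fin 4 → ℤ) → (Fin 4 → ℤ)} {k : G} (h : WK t E T w k) {a : Fin 4 → ℤ} (ha : a ∈ rts)
    {ν ν' : Fin 4 → Fˣ} (hν : k * T ν * k⁻¹ = T ν') : D7F4Ex.chd ν' (w a) = D7F4Ex.chd ν a := by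
  apply Units.ext
  apply C.eq_of (h.wey.mem a ha)
  have h1 := C.tor _ (h.wey.mem a ha) ν' 1
  have h2 := C.tor a ha ν 1
  rw [mul_one] at h1 h2
  rw [← h1, ← hν, ← h.wey.act a ha, ← h.wey.act a ha, ← h2]
  group

theorem WK.XE (C : Chart E T) {w : (Fin 4 → ℤ) → (Fin 4 → ℤ)} {k : G} (h : WK t E T w k) {a : Fin 4 → ℤ} (ha : a ∈ rts)
    {x : G} (hx : x ∈ XE E a) : k * x * k⁻¹ ∈ D7F4Ex.XE E (w a) := by
  obtain ⟨u, rfl⟩ := (C.mem_XE ha).1 hx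
  rw [h.wey.act a ha]
  exact mem_XE' _ _ _

theorem WK.PT (C : Chart E T) {w : (Fin 4 → ℤ) → (Fin 4 → ℤ)} {k : G} (h : WK t E T w k) {s : Fin 4 → ℤ} (hs : s ∈ rts)
    {x : G} (hx : x ∈ PT E T s) : k * x * k⁻¹ ∈ D7F4Ex.PT E T (w s) := by
  have hle : D7F4Ex.PT E T s ≤ (D7F4Ex.PT E T (w s)).comap (MulAut.conj k).toMonoidHom := by
    rw [D7F4Ex.PT, closure_le]
    rintro g (⟨a, ha, hc, u, rfl⟩ | ⟨ν, hν, rfl⟩)
    · show k * E a u * k⁻¹ ∈ D7F4Ex.PT E T (w s)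
      rw [h.wey.act a ha]
      refine subset_closure (Or.inl ⟨w a, h.wey.mem a ha, ?_, u, rfl⟩)
      unfold Cs at hc ⊢
      rw [h.wey.iso a ha a ha, h.wey.iso a ha s hs]
      exact hc
    · show k * T ν * k⁻¹ ∈ D7F4Ex.PT E T (w s)
      obtain ⟨ν', hν'⟩ := h.tor ν
      rw [hν']
      exact subset_closure (Or.inr ⟨ν', by rw [h.chd C hs hν', hν], rfl⟩)
  exact hle hx

/-! ### The centraliser of `P~_s` -/

theorem k_c : ∀ d ∈ rts, B d d = 2 → B d s0 = 0 → ∃ j, d = rc j := by decide +kernel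
theorem k_rs : ∀ a ∈ rts, ∀ s ∈ rts, B (rfl' a s) (rfl' a s) = B s s := fun _ ha s _ => B_rfl ha s s

/-- the data of the transport -/
structure Base (t : G) (E : (Fin 4 → ℤ) → F → G) (T : (Fin 4 → Fˣ) →* G) : Prop where
  chart : Chart E T
  tt : t * t = 1
  tE : ∀ a ∈ rts, ∀ u, t * E a u = E a u * t
  tT : ∀ ν, t * T ν = T ν * t
  torN : ∀ a ∈ rts, ∀ ν, ∃ ν', nE E a * T ν * (nE E a)⁻¹ = T ν'
  cP : ∀ g, t * g = g * t → (∀ p ∈ PT E T s0, g * p = p * g) → g ∈ XE E s0 ∨ t * g ∈ XE E s0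

namespace Base

variable (H : Base t E T)

include H

theorem exists_wk {s : Fin 4 → ℤ} (hs : s ∈ rts) (h2 : B s s = 2) : ∃ w k, WK t E T w k ∧ w s0 = s := by
  obtain ⟨a, ha, e | e⟩ := k_t1 s hs h2
  · exact ⟨_, _, WK.of_nE H.chart H.tE H.torN ha, e⟩
  · exact ⟨_, _, (WK.of_nE H.chart H.tE H.torN ha).mul (WK.of_nE H.chart H.tE H.torN hs), e⟩

theorem cPs {s : Fin 4 → ℤ} (hs : s ∈ rts) (h2 : B s s = 2) {g : G} (hg : t * g = g * t)
    (hp : ∀ p ∈ PT E T s, g * p = p * g) : g ∈ XE E s ∨ t * g ∈ XE E s := by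
  obtain ⟨w, k, hk, hws⟩ := H.exists_wk hs h2
  have hki : k⁻¹ * t = t * k⁻¹ := by rw [inv_mul_eq_iff_eq_mul, ← mul_assoc, hk.kt, mul_inv_cancel_right]
  have h1 : t * (k⁻¹ * g * k) = k⁻¹ * g * k * t := by
    calc t * (k⁻¹ * g * k) = (t * k⁻¹) * g * k := by group
      _ = k⁻¹ * (t * g) * k := by rw [← hki]; group
      _ = k⁻¹ * g * (t * k) := by rw [hg]; group
      _ = _ := by rw [← hk.kt]; group
  have back : ∀ {x : G}, x ∈ XE E s0 → k * x * k⁻¹ ∈ XE E s := fun hx => hws ▸ hk.XE H.chart s0_mem hx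
  rcases H.cP _ h1 (fun p hp' => by
    have h3 := hk.PT H.chart s0_mem hp'
    rw [hws] at h3
    have h4 := hp _ h3
    calc k⁻¹ * g * k * p = k⁻¹ * (g * (k * p * k⁻¹)) * k := by group
      _ = k⁻¹ * ((k * p * k⁻¹) * g) * k := by rw [h4]
      _ = _ := by group) with h3 | h3
  · left
    have := back h3
    rwa [show k * (k⁻¹ * g * k) * k⁻¹ = g by group] at this
  · right
    have := back h3
    rwa [show k * (t * (k⁻¹ * g * k)) * k⁻¹ = k * t * k⁻¹ * g by group, hk.kt, mul_inv_cancel_right] at this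

theorem XP {s : Fin 4 → ℤ} (hs : s ∈ rts) (h2 : B s s = 2) : XE E s ≤ PT E T s := by
  rw [XE, closure_le]
  rintro _ ⟨u, rfl⟩
  exact subset_closure (Or.inl ⟨s, hs, Or.inr ⟨h2, by rw [h2]; norm_num⟩, u, rfl⟩)

theorem tP {s : Fin 4 → ℤ} {p : G} (hp : p ∈ PT E T s) : t * p = p * t := by
  have hle : PT E T s ≤ centralizer {t} := by
    rw [PT, closure_le]
    intro g hg
    rw [SetLike.mem_coe, mem_centralizer_singleton_iff]
    rcases hg with ⟨a, ha, -, u, rfl⟩ | ⟨ν, -, rfl⟩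
    · exact (H.tE a ha u).symm
    · exact (H.tT ν).symm
  exact (mem_centralizer_singleton_iff.1 (hle hp)).symm

theorem tor_X {s : Fin 4 → ℤ} (hs : s ∈ rts) (ν : Fin 4 → Fˣ) {x : G} (hx : x ∈ XE E s) : T ν * x * (T ν)⁻¹ ∈ XE E s := by
  obtain ⟨u, rfl⟩ := (H.chart.mem_XE hs).1 hx
  rw [H.chart.tor s hs]
  exact mem_XE' _ _ _

/-- `T ν` acts without fixed points on `X_s`. -/
theorem tor_surj {s : Fin 4 → ℤ} (hs : s ∈ rts) {ν : Fin 4 → Fˣ} (hν : chd ν s ≠ 1) :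
    ∀ x ∈ XE E s, ∃ y ∈ XE E s, T ν * y * (T ν)⁻¹ * y⁻¹ = x := by
  intro x hx
  obtain ⟨u, rfl⟩ := (H.chart.mem_XE hs).1 hx
  have h0 : ((chd ν s : Fˣ) : F) + 1 ≠ 0 := by
    intro h
    apply hν
    apply Units.ext
    rw [Units.val_one]
    have h2 := H.chart.two (1 : F)
    calc ((chd ν s : Fˣ) : F) = (((chd ν s : Fˣ) : F) + 1) + 1 := by rw [add_assoc, h2, add_zero]
      _ = 1 := by rw [h, zero_add]
  refine ⟨E s ((((chd ν s : Fˣ) : F) + 1)⁻¹ * u), mem_XE' _ _ _, ?_⟩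
  rw [H.chart.tor s hs, H.chart.inv hs, ← H.chart.add s hs]
  congr 1
  field_simp

theorem exists_nu {s : Fin 4 → ℤ} (hs : s ∈ rts) (h2 : B s s = 2) : ∃ ν : Fin 4 → Fˣ, chd ν s ≠ 1 := by
  obtain ⟨μ, hμ⟩ := H.chart.big
  obtain ⟨w, k, hk, hws⟩ := H.exists_wk hs h2
  obtain ⟨ν', hν'⟩ := hk.tor (oneH μ)
  refine ⟨ν', ?_⟩
  have h3 := hk.chd H.chart s0_mem hν'
  rw [hws, chd_oneH, d_s0] at h3
  rw [h3]
  show μ ^ (2 : ℤ) ≠ 1
  intro h4
  have h5 : (μ : F) ^ 2 = 1 := by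
    have := congrArg (fun u : Fˣ => (u : F)) h4
    simpa using this
  apply hμ
  apply Units.ext
  rw [Units.val_one]
  have h6 : ((μ : F) + 1) * ((μ : F) + 1) = 0 := by
    calc _ = (μ : F) ^ 2 + ((μ : F) + (μ : F)) + 1 := by ring
      _ = 0 := by rw [h5, H.chart.two, add_zero, H.chart.two]
  have h7 := mul_self_eq_zero.1 h6
  calc (μ : F) = ((μ : F) + 1) + 1 := by rw [add_assoc, H.chart.two, add_zero]
    _ = 1 := by rw [h7, zero_add]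

/-- **Transport of doubled root groups, by uniqueness.** -/
theorem map_le {W : (Fin 4 → ℤ) → Subgroup G}
    (dbl : ∀ s ∈ rts, B s s = 2 → D7Ex.IsDbl t (XE E s) (PT E T s) (W s))
    (torW : ∀ s ∈ rts, B s s = 2 → ∀ ν, ∀ w ∈ W s, T ν * w * (T ν)⁻¹ ∈ W s) {s s' : Fin 4 → ℤ} (hs : s ∈ rts)
    (h2 : B s s = 2) (hs' : s' ∈ rts) (h2' : B s' s' = 2) {k : G} (hk : k * t = t * k)
    (tor : ∀ ν, ∃ ν', k * T ν * k⁻¹ = T ν') (hX : ∀ x, x ∈ XE E s ↔ k * x * k⁻¹ ∈ XE E s')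
    (hP : ∀ x, x ∈ PT E T s ↔ k * x * k⁻¹ ∈ PT E T s') : ∀ w ∈ W s, k * w * k⁻¹ ∈ W s' := by
  have hX' : ∀ x ∈ XE E s', k⁻¹ * x * k ∈ XE E s := fun x hx => (hX _).2 (by
    rwa [show k * (k⁻¹ * x * k) * k⁻¹ = x by group])
  have hP' : ∀ x ∈ PT E T s', k⁻¹ * x * k ∈ PT E T s := fun x hx => (hP _).2 (by
    rwa [show k * (k⁻¹ * x * k) * k⁻¹ = x by group])
  obtain ⟨ν, hν⟩ := H.exists_nu hs h2
  obtain ⟨ν', hν'⟩ := tor ν
  have hne : chd ν' s' ≠ 1 := by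
    intro h
    apply hν
    apply Units.ext
    apply H.chart.eq_of hs
    have h3 := H.chart.tor s hs ν 1
    rw [mul_one] at h3
    rw [← h3, Units.val_one]
    obtain ⟨v, hv⟩ := (H.chart.mem_XE hs').1 ((hX _).1 (mem_XE' E s (1 : F)))
    have h4 := H.chart.tor_comm hs' h v
    have h5 : T ν = k⁻¹ * T ν' * k := by rw [← hν']; group
    have h6 : E s 1 = k⁻¹ * E s' v * k := by rw [hv]; group
    rw [h5, h6]
    calc k⁻¹ * T ν' * k * (k⁻¹ * E s' v * k) * (k⁻¹ * T ν' * k)⁻¹ = k⁻¹ * (T ν' * E s' v) * (T ν')⁻¹ * k := by group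
      _ = _ := by rw [h4]; group
  have hd := isDbl_conj (dbl s hs h2) hk (fun x hx => (hX x).1 hx) hX' hP'
  have key := dbl_le H.tt (H.XP hs' h2') (fun p hp => H.tP hp) (fun c h1 h3 => H.cPs hs' h2' h1 h3) hd
    (dbl s' hs' h2') (h := T ν') (H.tT ν') (fun x hx => H.tor_X hs' ν' hx) (H.tor_surj hs' hne) ?_
    (torW s' hs' h2' ν')
  · intro w hw
    exact key ⟨w, hw, rfl⟩
  · rintro _ ⟨w, hw, rfl⟩
    refine ⟨T ν * w * (T ν)⁻¹, torW s hs h2 ν w hw, ?_⟩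
    show k * (T ν * w * (T ν)⁻¹) * k⁻¹ = T ν' * (k * w * k⁻¹) * (T ν')⁻¹
    rw [← hν']; group

/-- **All doubled root groups from one.** -/
theorem exists_dbs {W0 : Subgroup G} {κ c0 : F}
    (dbl : D7Ex.IsDbl t (XE E s0) (PT E T s0) W0) (comm : ∀ w ∈ W0, ∀ w' ∈ W0, w * w' = w' * w)
    (sq : ∀ w ∈ W0, ∀ a, w⁻¹ * (t * w * t) = E s0 a → w * w = E s0 (c0 * a))
    (typ : ∀ w ∈ W0, ∀ a, w⁻¹ * (t * w * t) = E s0 a → ∀ k u, w * E (rc k) u * w⁻¹ =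
      E (rv k) (κ * a * u) * E (rc k) u)
    (tor : ∀ ν, ∀ w ∈ W0, T ν * w * (T ν)⁻¹ ∈ W0) (tX : ∀ a ∈ rts, ∀ u, t ≠ E a u) :
    ∃ W, Dbs t E T W κ c0 := by
  classical
  have hex : ∀ s, ∃ w k, s ∈ rts → B s s = 2 → WK t E T w k ∧ w s0 = s := by
    intro s
    by_cases h : s ∈ rts ∧ B s s = 2
    · obtain ⟨w, k, h1, h2⟩ := H.exists_wk h.1 h.2
      exact ⟨w, k, fun _ _ => ⟨h1, h2⟩⟩
    · exact ⟨id, 1, fun h1 h2 => absurd ⟨h1, h2⟩ h⟩
  choose w k hwk using hex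
  obtain ⟨W, hW⟩ : ∃ W : (Fin 4 → ℤ) → Subgroup G, ∀ s, W s = W0.map (MulAut.conj (k s)).toMonoidHom := ⟨_, fun _ => rfl⟩
  have mem : ∀ {s : Fin 4 → ℤ} {g : G}, g ∈ W s ↔ ∃ w0 ∈ W0, k s * w0 * (k s)⁻¹ = g := by
    intro s g
    rw [hW]
    rfl
  -- `D` under conjugation
  have keyD : ∀ {s : Fin 4 → ℤ}, s ∈ rts → B s s = 2 → ∀ {w0 : G} {a : F},
      (k s * w0 * (k s)⁻¹)⁻¹ * (t * (k s * w0 * (k s)⁻¹) * t) = E s a → w0⁻¹ * (t * w0 * t) = E s0 a := by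
    intro s hs h2 w0 a h
    obtain ⟨h3, h4⟩ := hwk s hs h2
    have hki : (k s)⁻¹ * t = t * (k s)⁻¹ := by
      rw [inv_mul_eq_iff_eq_mul, ← mul_assoc, h3.kt, mul_inv_cancel_right]
    have h5 := h3.wey.act s0 s0_mem a
    rw [h4, ← h] at h5
    have h6 : (k s * w0 * (k s)⁻¹)⁻¹ * (t * (k s * w0 * (k s)⁻¹) * t) = k s * (w0⁻¹ * (t * w0 * t)) * (k s)⁻¹ := by
      calc (k s * w0 * (k s)⁻¹)⁻¹ * (t * (k s * w0 * (k s)⁻¹) * t)
          = k s * w0⁻¹ * (k s)⁻¹ * (t * k s) * w0 * ((k s)⁻¹ * t) := by group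
        _ = k s * w0⁻¹ * (k s)⁻¹ * (k s * t) * w0 * (t * (k s)⁻¹) := by rw [h3.kt, hki]
        _ = _ := by group
    rw [h6] at h5
    exact (mul_left_cancel (mul_right_cancel h5)).symm
  have hdbl : ∀ s ∈ rts, B s s = 2 → D7Ex.IsDbl t (XE E s) (PT E T s) (W s) := by
    intro s hs h2
    obtain ⟨h3, h4⟩ := hwk s hs h2
    obtain ⟨w', h5, h6, h7⟩ := h3.inv
    have h8 : w' s = s0 := by rw [← h6 s0, h4]
    rw [hW]
    refine isDbl_conj dbl h3.kt (fun x hx => ?_) (fun x hx => ?_) (fun x hx => ?_)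
    · have := h3.XE H.chart s0_mem hx
      rwa [h4] at this
    · have := h5.XE H.chart hs hx
      rwa [h8, inv_inv] at this
    · have := h5.PT H.chart hs hx
      rwa [h8, inv_inv] at this
  have htor : ∀ s ∈ rts, B s s = 2 → ∀ ν, ∀ g ∈ W s, T ν * g * (T ν)⁻¹ ∈ W s := by
    intro s hs h2 ν g hg
    obtain ⟨w0, hw0, rfl⟩ := mem.1 hg
    obtain ⟨h3, h4⟩ := hwk s hs h2
    obtain ⟨ν', hν'⟩ := h3.torI ν
    refine mem.2 ⟨T ν' * w0 * (T ν')⁻¹, tor ν' w0 hw0, ?_⟩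
    rw [← hν']; group
  have heqv : ∀ s ∈ rts, B s s = 2 → ∀ s' ∈ rts, B s' s' = 2 → ∀ k, k * t = t * k → (∀ ν, ∃ ν', k * T ν * k⁻¹ = T ν') →
    (∀ x, x ∈ XE E s ↔ k * x * k⁻¹ ∈ XE E s') → (∀ x, x ∈ PT E T s ↔ k * x * k⁻¹ ∈ PT E T s') →
    ∀ w ∈ W s, k * w * k⁻¹ ∈ W s' := fun s hs h2 s' hs' h2' k hk h3 h4 h5 =>
    H.map_le hdbl htor hs h2 hs' h2' hk h3 h4 h5
  refine ⟨W, ⟨H.chart, H.tt, tX, H.tE, H.tT, hdbl, ?_, ?_, ?_, htor, ?_, heqv⟩⟩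
  · intro s hs h2 g hg g' hg'
    obtain ⟨w0, hw0, rfl⟩ := mem.1 hg
    obtain ⟨w1, hw1, rfl⟩ := mem.1 hg'
    have := comm w0 hw0 w1 hw1
    calc k s * w0 * (k s)⁻¹ * (k s * w1 * (k s)⁻¹) = k s * (w0 * w1) * (k s)⁻¹ := by group
      _ = k s * (w1 * w0) * (k s)⁻¹ := by rw [this]
      _ = _ := by group
  · intro s hs h2 g hg a ha
    obtain ⟨w0, hw0, rfl⟩ := mem.1 hg
    have h1 := sq w0 hw0 a (keyD hs h2 ha)
    obtain ⟨h3, h4⟩ := hwk s hs h2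
    have h5 := h3.wey.act s0 s0_mem (c0 * a)
    rw [h4] at h5
    rw [← h5, ← h1]; group
  · intro s hs h2 g hg a ha d hd hd2 hds u
    obtain ⟨w0, hw0, rfl⟩ := mem.1 hg
    obtain ⟨h3, h4⟩ := hwk s hs h2
    obtain ⟨d0, hd0, rfl⟩ := h3.wey.surj d hd
    rw [h3.wey.iso d0 hd0 d0 hd0] at hd2
    have hds' : B (w s d0) (w s s0) = 0 := by rw [h4]; exact hds
    rw [h3.wey.iso d0 hd0 s0 s0_mem] at hds'
    obtain ⟨j, rfl⟩ := k_c d0 hd0 hd2 hds'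
    have h1 := typ w0 hw0 a (keyD hs h2 ha) j u
    have h5 := h3.wey.act (rv j) (rv_mem j) (κ * a * u)
    have h6 : w s (rv j) = s + w s (rc j) := by
      show w s (s0 + rc j) = _
      rw [h3.wey.add, h4]
    have h7 := h3.wey.act (rc j) (rc_mem j) u
    rw [h6] at h5
    calc k s * w0 * (k s)⁻¹ * E (w s (rc j)) u * (k s * w0 * (k s)⁻¹)⁻¹
        = k s * w0 * (k s)⁻¹ * (k s * E (rc j) u * (k s)⁻¹) * (k s * w0 * (k s)⁻¹)⁻¹ := by rw [h7]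
      _ = k s * (w0 * E (rc j) u * w0⁻¹) * (k s)⁻¹ := by group
      _ = (k s * E (rv j) (κ * a * u) * (k s)⁻¹) * (k s * E (rc j) u * (k s)⁻¹) := by rw [h1]; group
      _ = _ := by rw [h5, h7]
  · intro s hs h2 a ha g hg
    have h3 := WK.of_nE H.chart H.tE H.torN ha
    obtain ⟨w', h5, h6, h7⟩ := h3.inv
    have hs' := h3.wey.mem s hs
    have h2' : B (rfl' a s) (rfl' a s) = 2 := by rw [k_rs a ha s hs, h2]
    refine heqv s hs h2 _ hs' h2' _ h3.kt h3.tor (fun x => ⟨fun hx => h3.XE H.chart hs hx, fun hx => ?_⟩)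
      (fun x => ⟨fun hx => h3.PT H.chart hs hx, fun hx => ?_⟩) g hg
    · have := h5.XE H.chart hs' hx
      rw [h6, inv_inv] at this
      rwa [show (nE E a)⁻¹ * (nE E a * x * (nE E a)⁻¹) * nE E a = x by group] at this
    · have := h5.PT H.chart hs' hx
      rw [h6, inv_inv] at this
      rwa [show (nE E a)⁻¹ * (nE E a * x * (nE E a)⁻¹) * nE E a = x by group] at this

end Base

/-! ### Frames -/

section Frame

universe u

variable {F : Type u} [Field F] [Finite F] {G : Type*} [Group G] [Finite G] {E : (Fin 4 → ℤ) → F → ↥(chevF4.group F)}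
  {T : (Fin 4 → Fˣ) →* ↥(chevF4.group F)} {t : G} {f : ↥(chevF4.group F) →* G}

theorem base_of (C : KC E T) (R : Frame t f)
    (torN : ∀ a ∈ rts, ∀ ν, ∃ ν', nE E a * T ν * (nE E a)⁻¹ = T ν') : Base t (fun a u => f (E a u)) (f.comp T) := by
  have C' := C.chart.map f R.inj
  have D := gdata C R
  have hPT : Loc.Pt (fun u => f (E s0 u)) (fun j u => f (E (rv j) u)) (fun i u => f (E (rz i) u))
      (fun j k u => f (E (rl j k) u)) (f.comp (T.comp consH)) = PT (fun a u => f (E a u)) (f.comp T) s0 := by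
    rw [← T_eq C']
    rfl
  refine ⟨C', R.tt, fun a ha u => (R.ft _).symm, fun ν => (R.ft _).symm, ?_, ?_⟩
  · intro a ha ν
    obtain ⟨ν', h⟩ := torN a ha ν
    refine ⟨ν', ?_⟩
    have h1 : nE (fun a u => f (E a u)) a = f (nE E a) := by
      unfold nE
      rw [map_mul, map_mul]
    rw [h1]
    show f (nE E a) * f (T ν) * (f (nE E a))⁻¹ = f (T ν')
    rw [← h, map_mul, map_mul, map_inv]
  · intro g hg hp
    rw [← hPT] at hp
    exact D.cP g hg hp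

theorem Base.tor_PT {G : Type*} [Group G] {E : (Fin 4 → ℤ) → F → G} {T : (Fin 4 → Fˣ) →* G} {t : G}
    (H : Base t E T) (s : Fin 4 → ℤ) (ν : Fin 4 → Fˣ) {p : G} (hp : p ∈ PT E T s) : T ν * p * (T ν)⁻¹ ∈ PT E T s := by
  have hle : PT E T s ≤ (PT E T s).comap (MulAut.conj (T ν)).toMonoidHom := by
    rw [PT, closure_le]
    rintro g (⟨a, ha, hc, u, rfl⟩ | ⟨ν', hν', rfl⟩)
    · show T ν * E a u * (T ν)⁻¹ ∈ PT E T s
      rw [H.chart.tor a ha]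
      exact subset_closure (Or.inl ⟨a, ha, hc, _, rfl⟩)
    · show T ν * T ν' * (T ν)⁻¹ ∈ PT E T s
      rw [← map_mul, mul_comm, map_mul, mul_inv_cancel_right]
      exact subset_closure (Or.inr ⟨ν', hν', rfl⟩)
  exact hle hp

theorem Base.nice {G : Type*} [Group G] {E : (Fin 4 → ℤ) → F → G} {T : (Fin 4 → Fˣ) →* G} {t : G}
    (H : Base t E T) (ν : Fin 4 → Fˣ) (μ : Fˣ) : D7Ex.Nice t (XE E s0) (PT E T s0) (T (oneH μ)) (T ν) := by
  refine ⟨(H.tT ν).symm, fun x => ⟨fun hx => H.tor_X s0_mem ν hx, fun hx => ?_⟩,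
    fun p => ⟨fun hp => H.tor_PT s0 ν hp, fun hp => ?_⟩, ?_⟩
  · have := H.tor_X s0_mem ν⁻¹ hx
    rw [map_inv, inv_inv] at this
    rwa [show (T ν)⁻¹ * (T ν * x * (T ν)⁻¹) * T ν = x by group] at this
  · have := H.tor_PT s0 ν⁻¹ hp
    rw [map_inv, inv_inv] at this
    rwa [show (T ν)⁻¹ * (T ν * p * (T ν)⁻¹) * T ν = p by group] at this
  · rw [← map_mul, mul_comm ν, map_mul, mul_inv_cancel_right, mul_inv_cancel]
    exact one_mem _

/-- **The doubled root groups of a frame.** -/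
theorem exists_dbs_frame (C : KC E T) (R : Frame t f)
    (torN : ∀ a ∈ rts, ∀ ν, ∃ ν', nE E a * T ν * (nE E a)⁻¹ = T ν')
    (hM : Fusion.Moved t (XE (fun a u => f (E a u)) s0)) :
    ∃ W κ c0, Dbs t (fun a u => f (E a u)) (f.comp T) W κ c0 := by
  have C' := C.chart.map f R.inj
  have L' : Loc (fun u => f (E s0 u)) (fun j u => f (E (rv j) u)) (fun i u => f (E (rz i) u))
    (fun j u => f (E (rc j) u)) (fun j k u => f (E (rl j k) u)) (f.comp (T.comp consH)) := C'.loc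
  have hPT : Loc.Pt (fun u => f (E s0 u)) (fun j u => f (E (rv j) u)) (fun i u => f (E (rz i) u))
      (fun j k u => f (E (rl j k) u)) (f.comp (T.comp consH)) = PT (fun a u => f (E a u)) (f.comp T) s0 := by
    rw [← T_eq C']
    rfl
  have H := base_of C R torN
  obtain ⟨n, hn1, hn2, hn3, hn4⟩ := hM
  obtain ⟨μ, W0, κ, c0, hW, hN⟩ := L'.exists_W (gdata C R) (n := n) hn1 hn2 hn3 hn4
  obtain ⟨dbl, comm, sq, typ, -⟩ := hW
  rw [hPT] at dbl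
  have hN' : ∀ ν, ∀ w ∈ W0, (f.comp T) ν * w * ((f.comp T) ν)⁻¹ ∈ W0 := by
    intro ν w hw
    refine hN _ ?_ w hw
    rw [hPT]
    exact H.nice ν μ
  obtain ⟨W, hD⟩ := H.exists_dbs (W0 := W0) (κ := κ) (c0 := c0) dbl comm sq typ hN'
    (fun a _ u h => R.not_mem_range C.cen _ h.symm)
  exact ⟨W, κ, c0, hD⟩

theorem dual_s0 : dual s0 = ![2, 4, 3, 2] := by decide +kernel

open Cfsg.Agent.KFacts.F4Pair (eF)

variable [CharP F 2]

theorem XE_eq_XG {δ : (Fin 4 → ℤ) → (Fin 4 → ℤ)} (h : Tw δ E) (C : Chart E T) (R : Frame t f) {a : Fin 4 → ℤ} (ha : a ∈ rts) :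
    XE (fun a u => f (E a u)) a = XG f (δ a) := by
  ext x
  rw [(C.map f R.inj).mem_XE ha]
  constructor
  · rintro ⟨u, rfl⟩
    exact ⟨E a u, (h.X a ha _).2 ⟨u, rfl⟩, rfl⟩
  · rintro ⟨y, hy, rfl⟩
    obtain ⟨u, rfl⟩ := (h.X a ha y).1 hy
    exact ⟨u, rfl⟩

/-- **The short root groups.** -/
theorem dbs_short (hq : ∃ μ : Fˣ, μ ≠ 1) (R : Frame t f) (hM : Fusion.Moved t (XG f s0)) :
    ∃ W κ c0, Dbs t (fun a u => f (eF F a u)) (f.comp TH) W κ c0 := by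
  refine exists_dbs_frame (kc_short hq) R (fun a ha ν => TH_norm hq ha ν) ?_
  rw [XE_eq_XG tw_id (chartY hq) R s0_mem]
  exact hM

/-- **The long root groups.** -/
theorem dbs_long (hq : ∃ μ : Fˣ, μ ≠ 1) {rt : F ≃+* F} (hrt : ∀ u, rt u ^ 2 = u) (R : Frame t f)
    (hM : Fusion.Moved t (XG f (dual s0))) :
    ∃ W κ c0, Dbs t (fun a u => f (dualE rt (eF F) a u)) (f.comp (TH.comp (dualH rt))) W κ c0 := by
  refine exists_dbs_frame (kc_long hq rt hrt) R (fun a ha ν => TH_norm_dual hq hrt ha ν) ?_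
  rw [XE_eq_XG (tw_dual rt) (Chart.dual rt hrt (chartY hq)) R s0_mem]
  exact hM

end Frame

end Cfsg.Agent.OddHalf.D7F4Ex
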