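import Cfsg.Agent.OddHalf.D7F4Ex.DbsTy
import Cfsg.Agent.OddHalf.D7F4.Dual

/-!
# The doubled root groups of a chart in the form of `D7F4.Dual`, `D7F4.TypeCModel` (S1765, node D7; F4)

* `Dbs.ws`, `Dbs.wl` : `Dbs` with `c0 = 0` gives `WS`, `WL`;
* `ws_XG`, `wl_XG` : the same for the root groups `XG f`.
-/

set_option autoImplicit false

namespace Cfsg.Agent.OddHalf.D7F4Ex

open Cfsg.Agent.OddHalf.D7F4 Cfsg.Agent.OddHalf.D7F4.Model Cfsg.Agent.OddHalf.D7F4.TypeCModel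

variable {F : Type*} [Field F] {G : Type*} [Group G]

section

variable {t : G} {E : (Fin 4 → ℤ) → F → G} {T : (Fin 4 → Fˣ) →* G} {W X : (Fin 4 → ℤ) → Subgroup G} {κ c0 : F}

namespace Dbs

/-- the commutator with `t` -/
theorem exists_D (D : Dbs t E T W κ c0) {s : Fin 4 → ℤ} (hs : s ∈ rts) (h2 : B s s = 2) {w : G} (hw : w ∈ W s) :
    ∃ a, w⁻¹ * (t * w * t) = E s a := by
  obtain ⟨a, ha⟩ := (D.chart.mem_XE hs).1 ((D.dbl s hs h2).brk w hw)
  exact ⟨a, ha.symm⟩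

/-- `W s` commutes with the root elements of `P~_s`. -/
theorem comm_E (D : Dbs t E T W κ c0) {s : Fin 4 → ℤ} (hs : s ∈ rts) (h2 : B s s = 2) {w : G} (hw : w ∈ W s)
    {a : Fin 4 → ℤ} (ha : a ∈ rts) (h : Cs s a) (u : F) : w * E a u = E a u * w :=
  (D.dbl s hs h2).WP w hw _ (Subgroup.subset_closure (Or.inl ⟨a, ha, h, u, rfl⟩))

theorem comm_T (D : Dbs t E T W κ c0) {s : Fin 4 → ℤ} (hs : s ∈ rts) (h2 : B s s = 2) {w : G} (hw : w ∈ W s)
    {ν : Fin 4 → Fˣ} (h : chd ν s = 1) : w * T ν = T ν * w :=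
  (D.dbl s hs h2).WP w hw _ (Subgroup.subset_closure (Or.inr ⟨ν, h, rfl⟩))

/-- the commutator with a short root element at 90 degrees -/
theorem typ' (D : Dbs t E T W κ c0) {s : Fin 4 → ℤ} (hs : s ∈ rts) (h2 : B s s = 2) {w : G} (hw : w ∈ W s) {a' : F}
    (ha' : w⁻¹ * (t * w * t) = E s a') {d : Fin 4 → ℤ} (hd : d ∈ rts) (h2' : B d d = 2) (h0 : B d s = 0) (u : F) :
    w * E d u * w⁻¹ * (E d u)⁻¹ = E (s + d) (κ * a' * u) := by
  rw [D.typ s hs h2 w hw a' ha' d hd h2' h0 u, mul_inv_cancel_right]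

theorem sq_zero (D : Dbs t E T W κ 0) {s : Fin 4 → ℤ} (hs : s ∈ rts) (h2 : B s s = 2) {w : G} (hw : w ∈ W s) :
    w * w = 1 := by
  obtain ⟨a, ha⟩ := D.exists_D hs h2 hw
  rw [D.sq s hs h2 w hw a ha, zero_mul]
  have h := D.chart.add s hs 0 0
  rw [add_zero] at h
  exact (mul_eq_left.1 h.symm)

/-- `w` outside `X_s` has a nontrivial commutator with `t`. -/
theorem D_ne (D : Dbs t E T W κ c0) {s : Fin 4 → ℤ} (hs : s ∈ rts) (h2 : B s s = 2) {w : G} (hw : w ∈ W s)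
    {a : F} (ha : w⁻¹ * (t * w * t) = E s a) (hn : w ∉ XE E s) : a ≠ 0 := by
  rintro rfl
  apply hn
  refine (D.dbl s hs h2).cent w hw ?_
  have h0 : E s 0 = 1 := by
    have h := D.chart.add s hs 0 0
    rw [add_zero] at h
    exact (mul_eq_left.1 h.symm)
  rw [h0, inv_mul_eq_one] at ha
  calc t * w = t * w * (t * t) := by rw [D.tt, mul_one]
    _ = t * w * t * t := by group
    _ = w * t := by rw [← ha]

/-- **The short root groups.** -/
theorem ws (D : Dbs t E T W κ 0) (hX : XOf (fun a => a) E X) : WS t X W := by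
  have hE : ∀ s ∈ rts, ∀ g, g ∈ XE E s ↔ g ∈ X s := fun s hs g => by
    rw [D.chart.mem_XE hs]; exact (hX s hs g).symm
  refine ⟨fun s hs h2 x hx => (D.dbl s hs h2).XW ((hE s hs x).2 hx), fun s hs h2 w hw => D.sq_zero hs h2 hw,
    fun s hs h2 w hw => (hE s hs _).1 ((D.dbl s hs h2).brk w hw),
    fun s hs h2 w hw h => (hE s hs _).1 ((D.dbl s hs h2).cent w hw h),
    fun s hs h2 x hx => (D.dbl s hs h2).surj x ((hE s hs x).2 hx), ?_, ?_⟩
  · intro s hs h2 a ha h w hw x hx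
    obtain ⟨u, rfl⟩ := (hX a ha x).1 hx
    exact D.comm_E hs h2 hw ha h u
  · intro s hs h2 a ha h2' h0 w hw x hx
    obtain ⟨u, rfl⟩ := (hX a ha x).1 hx
    obtain ⟨a', ha'⟩ := D.exists_D hs h2 hw
    rw [D.typ' hs h2 hw ha' ha h2' h0 u]
    exact (hX (s + a) (add0 s hs a ha h2 h2' (by rw [B_symm]; exact h0)) _).2 ⟨_, rfl⟩

/-- **The long root groups.** -/
theorem wl (D : Dbs t E T W κ 0) (hX : XOf dual E X) : WL t X (fun a => W (dual a)) := by
  have hX' : ∀ s ∈ rts, ∀ g, g ∈ X s ↔ ∃ u, E (dual s) u = g := fun s hs g => by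
    have h := hX (dual s) (dual_mem s hs) g
    rwa [dual_dual s hs] at h
  have hE : ∀ s ∈ rts, ∀ g, g ∈ XE E (dual s) ↔ g ∈ X s := fun s hs g => by
    rw [D.chart.mem_XE (dual_mem s hs)]; exact (hX' s hs g).symm
  refine ⟨fun s hs h2 x hx => (D.dbl _ (dual_mem s hs) (dn4 s hs h2)).XW ((hE s hs x).2 hx),
    fun s hs h2 w hw => D.sq_zero (dual_mem s hs) (dn4 s hs h2) hw,
    fun s hs h2 w hw => (hE s hs _).1 ((D.dbl _ (dual_mem s hs) (dn4 s hs h2)).brk w hw),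
    fun s hs h2 w hw h => (hE s hs _).1 ((D.dbl _ (dual_mem s hs) (dn4 s hs h2)).cent w hw h),
    fun s hs h2 x hx => (D.dbl _ (dual_mem s hs) (dn4 s hs h2)).surj x ((hE s hs x).2 hx), ?_, ?_⟩
  · intro s hs h2 a ha h w hw x hx
    obtain ⟨u, rfl⟩ := (hX' a ha x).1 hx
    refine D.comm_E (dual_mem s hs) (dn4 s hs h2) hw (dual_mem a ha) ?_ u
    obtain ⟨h3, h4, -, -⟩ := dS a ha (dual s) (dual_mem s hs) (dn4 s hs h2)
    rw [dual_dual s hs] at h3 h4
    rcases h with h | h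
    · exact Or.inl (h3 h)
    · exact Or.inr (h4 h)
  · intro s hs h2 a ha h2' h0 m hm hmm w hw x hx
    obtain ⟨u, rfl⟩ := (hX' a ha x).1 hx
    obtain ⟨a', ha'⟩ := D.exists_D (dual_mem s hs) (dn4 s hs h2) hw
    have h5 : B (dual s) (dual a) = 0 := by
      have := dual_ll s hs a ha h2 h2'
      rw [B_symm a s] at h0
      omega
    rw [D.typ' (dual_mem s hs) (dn4 s hs h2) hw ha' (dual_mem a ha) (dn4 a ha h2') (by rw [B_symm]; exact h5) u]
    have h6 : m = dual (dual s + dual a) := dmid _ (dual_mem s hs) _ (dual_mem a ha) (dn4 s hs h2) (dn4 a ha h2') h5 m hm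
      (by rw [dual_dual s hs, dual_dual a ha]; exact hmm)
    rw [h6]
    exact (hX _ (add0 _ (dual_mem s hs) _ (dual_mem a ha) (dn4 s hs h2) (dn4 a ha h2') h5) _).2 ⟨_, rfl⟩

end Dbs

end

/-! ### The root groups of `K` -/

section XG

open Cfsg.Lie Cfsg.Agent.KFacts.F4Pair

universe u

variable {F : Type u} [Field F] [Finite F] [CharP F 2] {G : Type*} [Group G] {t : G} {f : ↥(chevF4.group F) →* G}
  {W : (Fin 4 → ℤ) → Subgroup G} {κ : F}

/-- **The short root groups of `K`.** -/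
theorem ws_XG (D : Dbs t (fun a u => f (eF F a u)) (f.comp TH) W κ 0) : WS t (XG f) W := D.ws (xof_short f)

/-- **The long root groups of `K`.** -/
theorem wl_XG {rt : F ≃+* F} (D : Dbs t (fun a u => f (dualE rt (eF F) a u)) (f.comp (TH.comp (dualH rt))) W κ 0) :
    WL t (XG f) (fun a => W (dual a)) := D.wl (xof_long rt f)

end XG

end Cfsg.Agent.OddHalf.D7F4Ex
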