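import Cfsg.Agent.OddHalf.D7F4.Model

/-!
# Root groups of a chart after a relabelling
-/

set_option autoImplicit false

namespace Cfsg.Agent.OddHalf.D7F4Ex

open Cfsg.Agent.OddHalf.D7F4.Model

/-- `X (d a) = {E a u}` -/
def XOf {F : Type*} {G : Type*} [Group G] (d : (Fin 4 → ℤ) → (Fin 4 → ℤ)) (E : (Fin 4 → ℤ) → F → G)
    (X : (Fin 4 → ℤ) → Subgroup G) : Prop :=
  ∀ a ∈ rts, ∀ g, g ∈ X (d a) ↔ ∃ u, E a u = g

end Cfsg.Agent.OddHalf.D7F4Ex
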