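import Cfsg.Agent.OddHalf.D7F4Ex.DbsEx
import Cfsg.Agent.OddHalf.D7F4Ex.XOf
import Cfsg.Agent.OddHalf.D7F4.TypeCModel

/-!
# Types and torus of the doubled root groups, both charts
-/

set_option autoImplicit false
set_option linter.unusedSectionVars false

namespace Cfsg.Agent.OddHalf.D7F4Ex

open Subgroup Cfsg.Lie Cfsg.Agent.OddHalf.D7F4 Cfsg.Agent.OddHalf.D7F4.Model Cfsg.Agent.OddHalf.D7F4.TypeCModel

variable {F : Type*} [Field F] {G : Type*} [Group G] {t : G} {E : (Fin 4 → ℤ) → F → G} {T : (Fin 4 → Fˣ) →* G}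
  {W X : (Fin 4 → ℤ) → Subgroup G} {κ c0 : F}

namespace Dbs

variable (D : Dbs t E T W κ c0)

include D

theorem exists_a {s : Fin 4 → ℤ} (hs : s ∈ rts) (h2 : B s s = 2) {w : G} (hw : w ∈ W s) :
    ∃ a, w⁻¹ * (t * w * t) = E s a := by
  obtain ⟨a, ha⟩ := (D.chart.mem_XE hs).1 ((D.dbl s hs h2).brk w hw)
  exact ⟨a, ha.symm⟩

theorem mem_of_zero {s : Fin 4 → ℤ} (hs : s ∈ rts) (h2 : B s s = 2) {w : G} (hw : w ∈ W s)
    (h : w⁻¹ * (t * w * t) = E s 0) : ∃ u, E s u = w := by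
  refine (D.chart.mem_XE hs).1 ((D.dbl s hs h2).cent w hw ?_)
  rw [D.chart.zero hs, inv_mul_eq_one] at h
  have ht : t⁻¹ = t := inv_eq_of_mul_eq_one_left D.tt
  calc t * w = t * w * t * t⁻¹ := by group
    _ = w * t := by rw [← h, ht]

/-- type C -/
theorem commC (h0 : κ = 0) {s d : Fin 4 → ℤ} (hs : s ∈ rts) (hd : d ∈ rts) (h2 : B s s = 2) (h2' : B d d = 2)
    (h3 : B s d = 0) (hsd : s + d ∈ rts) {w : G} (hw : w ∈ W s) (u : F) : w * E d u = E d u * w := by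
  obtain ⟨a, ha⟩ := D.exists_a hs h2 hw
  have h4 := D.typ s hs h2 w hw a ha d hd h2' (by rw [B_symm]; exact h3) u
  rw [h0, zero_mul, zero_mul, D.chart.zero hsd, one_mul] at h4
  exact mul_inv_eq_iff_eq_mul.1 h4

/-- type O -/
theorem commO (h0 : κ ≠ 0) {s d : Fin 4 → ℤ} (hs : s ∈ rts) (hd : d ∈ rts) (h2 : B s s = 2) (h2' : B d d = 2)
    (h3 : B s d = 0) (hsd : s + d ∈ rts) {w : G} (hw : w ∈ W s) (hwx : ¬ ∃ u, E s u = w) {u : F} (hu : u ≠ 0) :
    w * E d u ≠ E d u * w := by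
  obtain ⟨a, ha⟩ := D.exists_a hs h2 hw
  have h4 := D.typ s hs h2 w hw a ha d hd h2' (by rw [B_symm]; exact h3) u
  intro h
  rw [h, mul_inv_cancel_right] at h4
  have h5 : E (s + d) (κ * a * u) = 1 := (mul_eq_right.1 h4.symm)
  have h6 := D.chart.inj _ hsd _ h5
  rcases mul_eq_zero.1 h6 with h7 | h7
  · rcases mul_eq_zero.1 h7 with h8 | h8
    · exact h0 h8
    · exact hwx (D.mem_of_zero hs h2 hw (h8 ▸ ha))
  · exact hu h7

/-- `T ν` centralising `X_s` centralises `W_s`. -/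
theorem torHX {s : Fin 4 → ℤ} (hs : s ∈ rts) (h2 : B s s = 2) {ν : Fin 4 → Fˣ}
    (h : ∀ u, T ν * E s u = E s u * T ν) {w : G} (hw : w ∈ W s) : T ν * w = w * T ν := by
  have h1 : chd ν s = 1 := by
    apply Units.ext
    apply D.chart.eq_of hs
    have h3 := D.chart.tor s hs ν 1
    rw [h 1, mul_inv_cancel_right, mul_one] at h3
    rw [← h3, Units.val_one]
  exact ((D.dbl s hs h2).WP w hw _ (subset_closure (Or.inr ⟨ν, h1, rfl⟩))).symm

end Dbs

theorem k_sum : ∀ s ∈ rts, ∀ d ∈ rts, B s s = 2 → B d d = 2 → B s d = 0 → s + d ∈ rts := by decide +kernel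
theorem k_dual0 : ∀ s ∈ rts, ∀ d ∈ rts, B s s = 4 → B d d = 4 → B s d = 0 → B (dual s) (dual d) = 0 := by
  decide +kernel

/-- **The type of the short root groups.** -/
theorem Dbs.ty_short (D : Dbs t E T W κ c0) (hX : XOf (fun a => a) E X) : TyC X W 2 ∨ TyO X W 2 := by
  by_cases h0 : κ = 0
  · left
    intro a ha d hd h2 h2' h3 w hw x hx
    obtain ⟨u, rfl⟩ := (hX d hd x).1 hx
    exact D.commC h0 ha hd h2 h2' h3 (k_sum a ha d hd h2 h2' h3) hw u
  · right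
    intro a ha d hd h2 h2' h3 w hw hwx x hx hx1
    obtain ⟨u, rfl⟩ := (hX d hd x).1 hx
    refine D.commO h0 ha hd h2 h2' h3 (k_sum a ha d hd h2 h2' h3) hw (fun h => hwx ((hX a ha w).2 h)) ?_
    rintro rfl
    exact hx1 (D.chart.zero hd)

theorem XOf.dual (hX : XOf Model.dual E X) {a : Fin 4 → ℤ} (ha : a ∈ rts) (g : G) :
    g ∈ X a ↔ ∃ u, E (Model.dual a) u = g := by
  have h := hX (Model.dual a) (dual_mem a ha) g
  rwa [dual_dual a ha] at h

/-- **The type of the long root groups.** -/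
theorem Dbs.ty_long (D : Dbs t E T W κ c0) (hX : XOf Model.dual E X) :
    TyC X (fun a => W (Model.dual a)) 4 ∨ TyO X (fun a => W (Model.dual a)) 4 := by
  by_cases h0 : κ = 0
  · left
    intro a ha d hd h2 h2' h3 w hw x hx
    obtain ⟨u, rfl⟩ := (hX.dual hd x).1 hx
    exact D.commC h0 (dual_mem a ha) (dual_mem d hd) (dn4 a ha h2) (dn4 d hd h2') (k_dual0 a ha d hd h2 h2' h3)
      (k_sum _ (dual_mem a ha) _ (dual_mem d hd) (dn4 a ha h2) (dn4 d hd h2') (k_dual0 a ha d hd h2 h2' h3)) hw u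
  · right
    intro a ha d hd h2 h2' h3 w hw hwx x hx hx1
    obtain ⟨u, rfl⟩ := (hX.dual hd x).1 hx
    refine D.commO h0 (dual_mem a ha) (dual_mem d hd) (dn4 a ha h2) (dn4 d hd h2') (k_dual0 a ha d hd h2 h2' h3)
      (k_sum _ (dual_mem a ha) _ (dual_mem d hd) (dn4 a ha h2) (dn4 d hd h2') (k_dual0 a ha d hd h2 h2' h3)) hw
      (fun h => hwx ((hX.dual ha w).2 h)) ?_
    rintro rfl
    exact hx1 (D.chart.zero (dual_mem d hd))

/-- **The torus on the short root groups.** -/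
theorem Dbs.torN_short (D : Dbs t E T W κ c0) (hX : XOf (fun a => a) E X) : TorN X W T.range 2 where
  HW := by
    rintro _ ⟨ν, rfl⟩ a ha h2 w hw
    exact D.torW a ha h2 ν w hw
  HX := by
    rintro _ ⟨ν, rfl⟩ a ha h2 h w hw
    exact D.torHX ha h2 (fun u => h _ ((hX a ha _).2 ⟨u, rfl⟩)) hw

/-- **The torus on the long root groups.** -/
theorem Dbs.torN_long (D : Dbs t E T W κ c0) (hX : XOf Model.dual E X) :
    TorN X (fun a => W (Model.dual a)) T.range 4 where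
  HW := by
    rintro _ ⟨ν, rfl⟩ a ha h2 w hw
    exact D.torW _ (dual_mem a ha) (dn4 a ha h2) ν w hw
  HX := by
    rintro _ ⟨ν, rfl⟩ a ha h2 h w hw
    exact D.torHX (dual_mem a ha) (dn4 a ha h2) (fun u => h _ ((hX.dual ha _).2 ⟨u, rfl⟩)) hw

/-! ### Frames -/

section Frame

open Cfsg.Agent.KFacts.F4Pair (eF) 
open Cfsg.Agent.KFacts.F4Torus (TF)

universe u

variable {F : Type u} [Field F] [Finite F] [CharP F 2] {G : Type*} [Group G] {f : ↥(chevF4.group F) →* G}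

theorem xof_short (f : ↥(chevF4.group F) →* G) : XOf (fun a => a) (fun a u => f (eF F a u)) (XG f) := by
  intro a ha g
  constructor
  · rintro ⟨y, hy, rfl⟩
    obtain ⟨u, rfl⟩ := (tw_id.X a ha y).1 hy
    exact ⟨u, rfl⟩
  · rintro ⟨u, rfl⟩
    exact ⟨_, (tw_id.X a ha _).2 ⟨u, rfl⟩, rfl⟩

theorem xof_long (rt : F ≃+* F) (f : ↥(chevF4.group F) →* G) :
    XOf Model.dual (fun a u => f (dualE rt (eF F) a u)) (XG f) := by
  intro a ha g
  constructor
  · rintro ⟨y, hy, rfl⟩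
    obtain ⟨u, rfl⟩ := ((tw_dual rt).X a ha y).1 hy
    exact ⟨u, rfl⟩
  · rintro ⟨u, rfl⟩
    exact ⟨_, ((tw_dual rt).X a ha _).2 ⟨u, rfl⟩, rfl⟩

theorem range_short (f : ↥(chevF4.group F) →* G) : (f.comp (TH (F := F))).range = (TF F).map f := by
  rw [MonoidHom.range_comp, range_TH]

theorem range_long {rt : F ≃+* F} (hrt : ∀ u, rt u ^ 2 = u) (f : ↥(chevF4.group F) →* G) :
    (f.comp (TH.comp (dualH (F := F) rt))).range = (TF F).map f := by
  rw [MonoidHom.range_comp, range_TH_dual hrt]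

end Frame

end Cfsg.Agent.OddHalf.D7F4Ex
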