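import Cfsg.Agent.OddHalf.D7F4Ex.ChartDual
import Cfsg.Agent.KFacts.F4Perf

/-!
# The chart of `F₄(q)`, `q ≥ 4` even

`mem_rts` : the roots are the vectors of `rts`; `cpr_eq` : Cartan integers; `TH` : the torus; `chartY` : `Chart` for
`chevF4.group F`.
-/

set_option autoImplicit false
set_option linter.unusedSectionVars false

namespace Cfsg.Agent.OddHalf.D7F4Ex

open CoxeterSystem Cfsg.Agent.ChevalleyStructure.CoxeterGeom Cfsg.Agent.Tits.Roots Cfsg.Agent.Tits.Core
open Cfsg.Lie Cfsg.Agent.ChevalleyStructure Cfsg.Agent.ChevalleyStructure.Elts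
  Cfsg.Agent.ChevalleyStructure.RootVec Cfsg.Agent.ChevalleyStructure.CoxeterGeomTypes
open Cfsg.Agent.Nodes Cfsg.Agent.Nodes.Reps Cfsg.Agent.Nodes.BNOf Cfsg.Agent.Nodes.RGDChev Cfsg.Agent.Nodes.Coroot
  Cfsg.Agent.Nodes.KindF Cfsg.Agent.Nodes.Bruhat Cfsg.Agent.KFacts.ChevTwo Cfsg.Agent.KFacts.ChevTwoTab
  Cfsg.Agent.KFacts.ChevTwoInst Cfsg.Agent.KFacts.RgdTI
  Cfsg.Agent.KFacts.F4Star Cfsg.Agent.KFacts.F4Cent Cfsg.Agent.KFacts.F4Pair Cfsg.Agent.KFacts.F4Torus
  Cfsg.Agent.KFacts.F4Perf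
open Cfsg.Agent.OddHalf.D7F4.Model
open scoped commutatorElement

universe u

/-- the standard Coxeter system -/
abbrev csF : CoxeterSystem CoxeterMatrix.F₄ CoxeterMatrix.F₄.Group := CoxeterMatrix.F₄.toCoxeterSystem

instance finW : Finite CoxeterMatrix.F₄.Group := finite_W isType csF

theorem tab1 : ((List.range 48).all fun r => decide (v r ∈ rts)) = true := by decide +kernel
theorem tab2 : ∀ a ∈ rts, ∃ r ∈ List.range 48, v r = a := by decide +kernel
theorem tab3 : ((List.range 48).all fun r => (List.range 48).all fun s =>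
    decide (carB chevF4 r s = 2 * B (v s) (v r) / B (v r) (v r))) = true := by decide +kernel

theorem mem_rts {x : Fin 4 → ℤ} : IsRoot csF isType.isCartan x ↔ x ∈ rts := by
  constructor
  · intro h
    obtain ⟨r, hr, rfl⟩ := exists_v csF h
    exact of_decide_eq_true (List.all_eq_true.1 tab1 r (List.mem_range.2 hr))
  · intro h
    obtain ⟨r, hr, rfl⟩ := tab2 x h
    exact isRoot_v csF (List.mem_range.1 hr)

theorem cpr_eq {a b : Fin 4 → ℤ} (ha : a ∈ rts) (hb : b ∈ rts) :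
    cpr csF isType.isCartan a b = 2 * B a b / B b b := by
  obtain ⟨s, hs, rfl⟩ := tab2 a ha
  obtain ⟨r, hr, rfl⟩ := tab2 b hb
  rw [cpr_v csF (List.mem_range.1 hr) (List.mem_range.1 hs)]
  exact of_decide_eq_true (List.all_eq_true.1 (List.all_eq_true.1 tab3 r hr) s hs)

theorem k_cpr1 : ∀ a ∈ rts, ∀ b ∈ rts, B a a = B b b → B a b < 0 → a ≠ -b → 2 * B a b / B b b = -1 := by
  decide +kernel
theorem k_cpr0 : ∀ a ∈ rts, ∀ b ∈ rts, 0 ≤ B a b → 0 ≤ 2 * B a b / B b b := by decide +kernel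
theorem k_sep : ∀ a ∈ rts, ∀ b ∈ rts, a ≠ b → ∃ c ∈ rts, B c c = B b b ∧ 0 ≤ B c a ∧ B c b < 0 ∧ c ≠ -b ∧
    c + b ∈ rts := by decide +kernel

/-! ### The torus -/

section Torus

variable {F : Type u} [Field F]

/-- the characters in doubled coordinates -/
def chH (ν : Fin 4 → Fˣ) : (Fin 4 → ℤ) →+ Additive Fˣ where
  toFun a := Additive.ofMul (chd ν a)
  map_zero' := by
    have h1 := chd_add ν 0 0
    rw [add_zero] at h1
    have h2 : chd ν 0 = 1 := (mul_eq_left.1 h1.symm)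
    rw [h2]; rfl
  map_add' a b := by rw [chd_add]; rfl

theorem chd_mul (ν ν' : Fin 4 → Fˣ) (a : Fin 4 → ℤ) : chd (ν * ν') a = chd ν a * chd ν' a := by
  unfold chd
  rw [← Finset.prod_mul_distrib]
  refine Finset.prod_congr rfl fun i _ => ?_
  rw [Pi.mul_apply, mul_zpow]

theorem chd_one (a : Fin 4 → ℤ) : chd (1 : Fin 4 → Fˣ) a = 1 := by
  unfold chd
  refine Finset.prod_eq_one fun i _ => ?_
  rw [Pi.one_apply, one_zpow]

variable [Finite F] [CharP F 2]

/-- the torus element of a character -/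
noncomputable def tH (ν : Fin 4 → Fˣ) : ↥(chevF4.group F) := (exists_torus csF (chH ν)).choose

theorem tH_mem (ν : Fin 4 → Fˣ) : tH ν ∈ TF F := (exists_torus csF (chH ν)).choose_spec.1

theorem tH_conj (ν : Fin 4 → Fˣ) {a : Fin 4 → ℤ} (ha : a ∈ rts) (u : F) :
    tH ν * eF F a u * (tH ν)⁻¹ = eF F a ((chd ν a : F) * u) :=
  (exists_torus csF (chH ν)).choose_spec.2 a (mem_rts.2 ha) u

theorem tH_unique {g : ↥(chevF4.group F)} {ν : Fin 4 → Fˣ}
    (hg : ∀ a ∈ rts, ∀ u, g * eF F a u * g⁻¹ = eF F a ((chd ν a : F) * u)) : g = tH ν :=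
  eq_of_conj csF fun x hx u => by rw [hg x (mem_rts.1 hx), tH_conj ν (mem_rts.1 hx)]

/-- **The torus in doubled coordinates.** -/
noncomputable def TH : (Fin 4 → Fˣ) →* ↥(chevF4.group F) where
  toFun := tH
  map_one' := by
    symm
    refine tH_unique fun a ha u => ?_
    rw [chd_one, Units.val_one, one_mul, one_mul, inv_one, mul_one]
  map_mul' a b := by
    symm
    refine tH_unique fun x hx u => ?_
    have e : tH a * tH b * eF F x u * (tH a * tH b)⁻¹ = tH a * (tH b * eF F x u * (tH b)⁻¹) * (tH a)⁻¹ := by group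
    rw [e, tH_conj b hx, tH_conj a hx, chd_mul, Units.val_mul, mul_assoc]

theorem TH_conj (ν : Fin 4 → Fˣ) {a : Fin 4 → ℤ} (ha : a ∈ rts) (u : F) :
    TH ν * eF F a u * (TH ν)⁻¹ = eF F a ((chd ν a : F) * u) := tH_conj ν ha u

theorem dataF : Data csF isType.isCartan (eF F) := (sysF (K := F) csF).data

/-- **The chart of `F₄(q)`, `q ≥ 4` even.** -/
theorem chartY (hq : ∃ μ : Fˣ, μ ≠ 1) : Chart (eF F) (TH (F := F)) where
  two := CharTwo.add_self_eq_zero
  big := hq
  add := fun a ha => dataF.add a (mem_rts.2 ha)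
  inj := fun a ha => dataF.inj a (mem_rts.2 ha)
  sep := by
    intro a ha b hb hab u v h
    obtain ⟨c, hc, h1, h2, h3, h4, h5⟩ := k_sep a ha b hb hab
    have h6 : cpr csF isType.isCartan c b = -1 := by rw [cpr_eq hc hb, k_cpr1 c hc b hb h1 h3 h4]
    have h7 : cpr csF isType.isCartan b c = -1 := by
      rw [cpr_eq hb hc, B_symm, h1, k_cpr1 c hc b hb h1 h3 h4]
    have h8 := dataF.comm1 c b (mem_rts.2 hc) (mem_rts.2 hb) h6 h7 (1 : F) v
    have h9 := dataF.comm_of_nonneg (mem_rts.2 hc) (mem_rts.2 ha) (by rw [cpr_eq hc ha]; exact k_cpr0 c hc a ha h2)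
      (1 : F) u
    rw [← h, one_mul, commutatorElement_def, h9, mul_inv_cancel_right, mul_inv_cancel] at h8
    exact dataF.inj _ (mem_rts.2 h5) v h8.symm
  c0 := fun a ha b hb h u v =>
    dataF.comm_of_nonneg (mem_rts.2 ha) (mem_rts.2 hb) (by rw [cpr_eq ha hb]; exact k_cpr0 a ha b hb h) u v
  c1 := fun a ha b hb h1 h2 h3 u v => by
    have h6 : cpr csF isType.isCartan a b = -1 := by rw [cpr_eq ha hb, k_cpr1 a ha b hb h1 h2 h3]
    have h7 : cpr csF isType.isCartan b a = -1 := by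
      rw [cpr_eq hb ha, B_symm, h1, k_cpr1 a ha b hb h1 h2 h3]
    rw [← dataF.comm1 a b (mem_rts.2 ha) (mem_rts.2 hb) h6 h7, commutatorElement_def]
  c2 := fun a ha b hb h1 h2 h3 u v => by
    have h6 : cpr csF isType.isCartan a b = -2 := by rw [cpr_eq ha hb, h3, h2]; norm_num
    have h7 : cpr csF isType.isCartan b a = -1 := by rw [cpr_eq hb ha, B_symm, h3, h1]; norm_num
    have h8 := dataF.comm2 a b (mem_rts.2 ha) (mem_rts.2 hb) h6 h7 u v
    rw [two_smul, ← add_assoc, commutatorElement_def] at h8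
    exact h8
  tor := fun a ha ν u => TH_conj ν ha u
  nrf := fun a ha b hb u => by
    have h1 := dataF.nel_conj (mem_rts.2 hb) (mem_rts.2 ha) u
    rw [nel_def, cpr_eq hb ha, B_symm b a] at h1
    exact h1

end Torus

/-! ### Transport by an injective homomorphism -/

theorem Chart.map {F : Type*} [Field F] {G G' : Type*} [Group G] [Group G'] {E : (Fin 4 → ℤ) → F → G}
    {T : (Fin 4 → Fˣ) →* G} (C : Chart E T) (f : G →* G') (hf : Function.Injective f) :
    Chart (fun a u => f (E a u)) (f.comp T) where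
  two := C.two
  big := C.big
  add := fun a ha u v => by rw [C.add a ha, map_mul]
  inj := fun a ha u h => C.inj a ha u (hf (by rw [h, map_one]))
  sep := fun a ha b hb hab u v h => C.sep a ha b hb hab u v (hf h)
  c0 := fun a ha b hb h u v => by rw [← map_mul, C.c0 a ha b hb h, map_mul]
  c1 := fun a ha b hb h1 h2 h3 u v => by rw [← C.c1 a ha b hb h1 h2 h3, map_mul, map_mul, map_mul, map_inv, map_inv]
  c2 := fun a ha b hb h1 h2 h3 u v => by
    rw [← map_mul f (E (a + b) (u * v)), ← C.c2 a ha b hb h1 h2 h3, map_mul, map_mul, map_mul, map_inv, map_inv]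
  tor := fun a ha ν u => by
    rw [← C.tor a ha, map_mul, map_mul, map_inv]; rfl
  nrf := fun a ha b hb u => by
    rw [← C.nrf a ha b hb]
    unfold nE
    rw [map_mul, map_mul, map_inv, map_mul, map_mul]

end Cfsg.Agent.OddHalf.D7F4Ex
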