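import Mathlib

/-!
# Existence of the doubled root groups of `F₄(q)`, `q ≥ 4` (ODD D7, text helper763 #8532 (2)): the chain `X ≤ V ≤ Q ≤ P`

`t` an involution, `X` a root group of `K ≤ C_G(t)`, `P = O^{2'}(C_K(X))`, `Q = O_2(P)`, `V = Z(Q)`, `H` a torus, `A ≤ P` a
subgroup of odd order.  If some `n` normalising `X` and `tX` moves `t`, then for every `x ∈ X` there is `b` with
`b t b⁻¹ = t x`, centralising `Q` and `A`, and with `[b, P] ≤ V`.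
-/

set_option autoImplicit false
set_option linter.style.haveILetI false

namespace Cfsg.Agent.OddHalf.D7F4Ex

open Subgroup
open scoped commutatorElement

variable {G : Type*} [Group G]

/-- A 2-element acting on `A / B` elementary abelian, `A ≠ B`, has a non-trivial fixed point. -/
theorem exists_fixed_two {A B : Subgroup G} (hBA : B ≤ A) (hsq : ∀ a ∈ A, a * a ∈ B)
    (hcm : ∀ a ∈ A, ∀ b ∈ A, a * b * a⁻¹ * b⁻¹ ∈ B) (k : ℕ) :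
    ∀ n : G, n ^ 2 ^ k = 1 → (∀ a ∈ A, n * a * n⁻¹ ∈ A) → (∀ b ∈ B, n * b * n⁻¹ ∈ B) → ∀ a ∈ A, a ∉ B →
      ∃ c ∈ A, c ∉ B ∧ n * c * n⁻¹ * c⁻¹ ∈ B := by
  induction k with
  | zero =>
    intro n hn _ _ a ha hab
    rw [pow_zero, pow_one] at hn
    exact ⟨a, ha, hab, by rw [hn, one_mul, inv_one, mul_one, mul_inv_cancel]; exact one_mem _⟩
  | succ k ih =>
    intro n hn hA hB a ha hab
    have h1 : (n * n) ^ 2 ^ k = 1 := by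
      rw [← pow_two, ← pow_mul, ← pow_succ']
      exact hn
    obtain ⟨c, hc, hcb, h2⟩ := ih (n * n) h1
      (fun x hx => by
        have := hA _ (hA x hx)
        have e : n * n * x * (n * n)⁻¹ = n * (n * x * n⁻¹) * n⁻¹ := by group
        rwa [e])
      (fun x hx => by
        have := hB _ (hB x hx)
        have e : n * n * x * (n * n)⁻¹ = n * (n * x * n⁻¹) * n⁻¹ := by group
        rwa [e]) a ha hab
    by_cases h3 : n * c * n⁻¹ * c⁻¹ ∈ B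
    · exact ⟨c, hc, hcb, h3⟩
    · refine ⟨n * c * n⁻¹ * c⁻¹, mul_mem (hA c hc) (inv_mem hc), h3, ?_⟩
      have hBn : ∀ b ∈ B, ∀ x ∈ A, x * b * x⁻¹ ∈ B := by
        intro b hb x hx
        have := mul_mem (hcm x hx b (hBA hb)) hb
        have e : x * b * x⁻¹ * b⁻¹ * b = x * b * x⁻¹ := by group
        rwa [e] at this
      -- `u = n c n⁻¹`, `w = n u n⁻¹`
      set u := n * c * n⁻¹ with hu
      have huA : u ∈ A := hA c hc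
      have hwA : n * u * n⁻¹ ∈ A := hA u huA
      set w := n * u * n⁻¹ with hw
      have h4 : w * c⁻¹ ∈ B := by
        have e : n * n * c * (n * n)⁻¹ * c⁻¹ = w * c⁻¹ := by rw [hw, hu]; group
        rwa [e] at h2
      -- the element is `w u⁻¹ c u⁻¹`
      have e : n * (u * c⁻¹) * n⁻¹ * (u * c⁻¹)⁻¹ = w * u⁻¹ * c * u⁻¹ := by
        rw [hw]
        have : n * (u * c⁻¹) * n⁻¹ = n * u * n⁻¹ * (n * c * n⁻¹)⁻¹ := by group
        rw [this, ← hu]; group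
      rw [e]
      -- `w u⁻¹ c u⁻¹ = (w c⁻¹) (c u⁻¹ c u⁻¹)`
      have h5 : (c * u⁻¹) * (c * u⁻¹) ∈ B := hsq _ (mul_mem hc (inv_mem huA))
      have h6 := mul_mem h4 h5
      have e2 : w * c⁻¹ * (c * u⁻¹ * (c * u⁻¹)) = w * u⁻¹ * c * u⁻¹ := by group
      rwa [e2] at h6

/-- The local hypotheses. -/
structure Chain (t : G) (X V Q P H : Subgroup G) : Prop where
  tt : t * t = 1
  tX : t ∉ X
  X2 : ∀ x ∈ X, x * x = 1
  XV : X ≤ V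
  VQ : V ≤ Q
  QP : Q ≤ P
  V2 : ∀ v ∈ V, v * v = 1
  Q2 : ∀ q ∈ Q, q * q ∈ V
  tP : ∀ p ∈ P, t * p = p * t
  XP : ∀ x ∈ X, ∀ p ∈ P, x * p = p * x
  VQc : ∀ v ∈ V, ∀ q ∈ Q, v * q = q * v
  PQ : ∀ p ∈ P, ∀ q ∈ Q, p * q * p⁻¹ ∈ Q
  PV : ∀ p ∈ P, ∀ v ∈ V, p * v * p⁻¹ ∈ V
  tH : ∀ h ∈ H, t * h = h * t
  HX : ∀ h ∈ H, ∀ x ∈ X, h * x * h⁻¹ ∈ X
  /-- an element normalising `X` and `t X` normalises `P`, `Q`, `V` -/
  nP : ∀ n : G, (∀ x ∈ X, n * x * n⁻¹ ∈ X) → t * (n * t * n⁻¹) ∈ X →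
    (∀ p ∈ P, n * p * n⁻¹ ∈ P) ∧ (∀ q ∈ Q, n * q * n⁻¹ ∈ Q) ∧ (∀ v ∈ V, n * v * n⁻¹ ∈ V)
  XQQ : X ≤ ⁅Q, Q⁆
  QQ : ∀ v ∈ Q, ∀ w ∈ Q, v * w * v⁻¹ * w⁻¹ ∈ X
  ZQ : ∀ q ∈ Q, (∀ v ∈ Q, q * v = v * q) → q ∈ V
  /-- `P` is irreducible on `Q / V` and on `V / X` -/
  irrQ : ∀ R : Subgroup G, V ≤ R → R ≤ Q → (∀ p ∈ P, ∀ r ∈ R, p * r * p⁻¹ ∈ R) → R = V ∨ R = Q
  irrV : ∀ R : Subgroup G, X ≤ R → R ≤ V → (∀ p ∈ P, ∀ r ∈ R, p * r * p⁻¹ ∈ R) → R = X ∨ R = V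
  neQ : ∃ q ∈ Q, q ∉ V
  neV : ∃ v ∈ V, v ∉ X
  /-- `Hom_P(Q/V, V/X) = 0` (for actions of elements of `G`) -/
  hQ : ∀ d : G, (∀ p ∈ P, d * p * d⁻¹ * p⁻¹ ∈ Q) → (∀ q ∈ Q, d * q * d⁻¹ * q⁻¹ ∈ V) →
    (∀ v ∈ V, d * v * d⁻¹ * v⁻¹ ∈ X) → ∃ q ∈ Q, q ∉ V ∧ d * q * d⁻¹ * q⁻¹ ∈ X
  /-- `Hom_P(V/X, X) = 0` -/
  hV : ∀ d : G, (∀ p ∈ P, d * p * d⁻¹ * p⁻¹ ∈ Q) → (∀ v ∈ V, d * v * d⁻¹ * v⁻¹ ∈ X) →
    (∀ x ∈ X, d * x = x * d) → ∃ v ∈ V, v ∉ X ∧ d * v = v * d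
  /-- `H^0(P, Hom(Q/V, X) / Inn Q) = 0` -/
  E2 : ∀ f : G → G, (∀ v ∈ Q, f v ∈ X) → (∀ v ∈ Q, ∀ w ∈ Q, f (v * w) = f v * f w) → (∀ x ∈ V, f x = 1) →
    (∀ p ∈ P, ∃ q ∈ Q, ∀ v ∈ Q, f (p * v * p⁻¹) = f v * (q * v * q⁻¹ * v⁻¹)) →
    ∃ q ∈ Q, ∀ v ∈ Q, f v = q * v * q⁻¹ * v⁻¹

namespace Chain

variable {t : G} {X V Q P H : Subgroup G}

theorem t_inv (S : Chain t X V Q P H) : t⁻¹ = t := inv_eq_of_mul_eq_one_left S.tt

theorem XQ (S : Chain t X V Q P H) : X ≤ Q := S.XV.trans S.VQ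

theorem tx (S : Chain t X V Q P H) {x : G} (hx : x ∈ X) : t * x = x * t := S.tP x (S.QP (S.XQ hx))

theorem inv_X (S : Chain t X V Q P H) {x : G} (hx : x ∈ X) : x⁻¹ = x := inv_eq_of_mul_eq_one_left (S.X2 x hx)

/-- The normaliser of `X` and of `t X`. -/
def N (S : Chain t X V Q P H) : Subgroup G where
  carrier := {n | (∀ x ∈ X, n * x * n⁻¹ ∈ X) ∧ (∀ x ∈ X, n⁻¹ * x * n ∈ X) ∧ t * (n * t * n⁻¹) ∈ X}
  one_mem' := ⟨fun x hx => by simpa using hx, fun x hx => by simpa using hx, by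
    rw [one_mul, inv_one, mul_one, S.tt]; exact one_mem _⟩
  mul_mem' := by
    rintro a b ⟨ha1, ha2, ha3⟩ ⟨hb1, hb2, hb3⟩
    refine ⟨fun x hx => ?_, fun x hx => ?_, ?_⟩
    · have := ha1 _ (hb1 x hx)
      have e : a * b * x * (a * b)⁻¹ = a * (b * x * b⁻¹) * a⁻¹ := by group
      rwa [e]
    · have := hb2 _ (ha2 x hx)
      have e : (a * b)⁻¹ * x * (a * b) = b⁻¹ * (a⁻¹ * x * a) * b := by group
      rwa [e]
    · have h1 := mul_mem ha3 (ha1 _ hb3)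
      have e : t * (a * b * t * (a * b)⁻¹) = t * (a * t * a⁻¹) * (a * (t * (b * t * b⁻¹)) * a⁻¹) := by
        calc t * (a * b * t * (a * b)⁻¹) = t * a * 1 * b * t * b⁻¹ * a⁻¹ := by group
          _ = t * a * (t * t) * b * t * b⁻¹ * a⁻¹ := by rw [S.tt]
          _ = _ := by group
      rwa [e]
  inv_mem' := by
    rintro a ⟨ha1, ha2, ha3⟩
    refine ⟨fun x hx => by simpa using ha2 x hx, fun x hx => by simpa using ha1 x hx, ?_⟩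
    have h1 := inv_mem (ha2 _ ha3)
    have e : t * (a⁻¹ * t * a⁻¹⁻¹) = (a⁻¹ * (t * (a * t * a⁻¹)) * a)⁻¹ := by
      calc t * (a⁻¹ * t * a⁻¹⁻¹) = t⁻¹ * (a⁻¹ * t⁻¹ * a) := by rw [S.t_inv, inv_inv]
        _ = _ := by group
    rwa [e]

theorem mem_N (S : Chain t X V Q P H) {n : G} :
    n ∈ S.N ↔ (∀ x ∈ X, n * x * n⁻¹ ∈ X) ∧ (∀ x ∈ X, n⁻¹ * x * n ∈ X) ∧ t * (n * t * n⁻¹) ∈ X := Iff.rfl

theorem N_P (S : Chain t X V Q P H) {n : G} (hn : n ∈ S.N) {p : G} (hp : p ∈ P) : n * p * n⁻¹ ∈ P :=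
  (S.nP n hn.1 hn.2.2).1 p hp

theorem N_Q (S : Chain t X V Q P H) {n : G} (hn : n ∈ S.N) {q : G} (hq : q ∈ Q) : n * q * n⁻¹ ∈ Q :=
  (S.nP n hn.1 hn.2.2).2.1 q hq

theorem N_V (S : Chain t X V Q P H) {n : G} (hn : n ∈ S.N) {q : G} (hq : q ∈ V) : n * q * n⁻¹ ∈ V :=
  (S.nP n hn.1 hn.2.2).2.2 q hq

/-- The elements of `N` trivial on `P/Q`. -/
def C4 (S : Chain t X V Q P H) : Subgroup G where
  carrier := {n | n ∈ S.N ∧ ∀ p ∈ P, n * p * n⁻¹ * p⁻¹ ∈ Q}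
  one_mem' := ⟨one_mem _, fun p _ => by
    rw [one_mul, inv_one, mul_one, mul_inv_cancel]; exact one_mem _⟩
  mul_mem' := by
    rintro a b ⟨ha, ha2⟩ ⟨hb, hb2⟩
    refine ⟨mul_mem ha hb, fun p hp => ?_⟩
    have h1 := mul_mem (S.N_Q ha (hb2 p hp)) (ha2 p hp)
    have e : a * b * p * (a * b)⁻¹ * p⁻¹ = a * (b * p * b⁻¹ * p⁻¹) * a⁻¹ * (a * p * a⁻¹ * p⁻¹) := by group
    rwa [e]
  inv_mem' := by
    rintro a ⟨ha, ha2⟩
    refine ⟨inv_mem ha, fun p hp => ?_⟩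
    have h1 := inv_mem (S.N_Q (inv_mem ha) (ha2 p hp))
    have e : a⁻¹ * p * a⁻¹⁻¹ * p⁻¹ = (a⁻¹ * (a * p * a⁻¹ * p⁻¹) * a⁻¹⁻¹)⁻¹ := by group
    rwa [e]

theorem C4_le (S : Chain t X V Q P H) : S.C4 ≤ S.N := fun _ h => h.1

/-- `C4` is normal in `N`. -/
theorem conj_C4 (S : Chain t X V Q P H) {n c : G} (hn : n ∈ S.N) (hc : c ∈ S.C4) : n * c * n⁻¹ ∈ S.C4 := by
  refine ⟨mul_mem (mul_mem hn hc.1) (inv_mem hn), fun p hp => ?_⟩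
  have h1 := S.N_Q hn (hc.2 _ (S.N_P (inv_mem hn) hp))
  have e : n * c * n⁻¹ * p * (n * c * n⁻¹)⁻¹ * p⁻¹ =
    n * (c * (n⁻¹ * p * n⁻¹⁻¹) * c⁻¹ * (n⁻¹ * p * n⁻¹⁻¹)⁻¹) * n⁻¹ := by group
  rwa [e]

/-- The elements of `N` trivial on `P/Q`, `Q/V` and on `V/X`. -/
def D (S : Chain t X V Q P H) : Subgroup G where
  carrier := {n | n ∈ S.C4 ∧ (∀ q ∈ Q, n * q * n⁻¹ * q⁻¹ ∈ V) ∧ ∀ v ∈ V, n * v * n⁻¹ * v⁻¹ ∈ X}
  one_mem' := ⟨one_mem _, fun p _ => by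
    rw [one_mul, inv_one, mul_one, mul_inv_cancel]; exact one_mem _, fun p _ => by
    rw [one_mul, inv_one, mul_one, mul_inv_cancel]; exact one_mem _⟩
  mul_mem' := by
    rintro a b ⟨ha, ha2, ha3⟩ ⟨hb, hb2, hb3⟩
    refine ⟨mul_mem ha hb, fun p hp => ?_, fun p hp => ?_⟩
    · have h1 := mul_mem (S.N_V ha.1 (hb2 p hp)) (ha2 p hp)
      have e : a * b * p * (a * b)⁻¹ * p⁻¹ = a * (b * p * b⁻¹ * p⁻¹) * a⁻¹ * (a * p * a⁻¹ * p⁻¹) := by group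
      rwa [e]
    · have h1 := mul_mem (ha.1.1 _ (hb3 p hp)) (ha3 p hp)
      have e : a * b * p * (a * b)⁻¹ * p⁻¹ = a * (b * p * b⁻¹ * p⁻¹) * a⁻¹ * (a * p * a⁻¹ * p⁻¹) := by group
      rwa [e]
  inv_mem' := by
    rintro a ⟨ha, ha2, ha3⟩
    refine ⟨inv_mem ha, fun p hp => ?_, fun p hp => ?_⟩
    · have h1 := inv_mem (S.N_V (inv_mem ha.1) (ha2 p hp))
      have e : a⁻¹ * p * a⁻¹⁻¹ * p⁻¹ = (a⁻¹ * (a * p * a⁻¹ * p⁻¹) * a⁻¹⁻¹)⁻¹ := by group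
      rwa [e]
    · have h1 := inv_mem (ha.1.2.1 _ (ha3 p hp))
      have e : a⁻¹ * p * a⁻¹⁻¹ * p⁻¹ = (a⁻¹ * (a * p * a⁻¹ * p⁻¹) * a)⁻¹ := by group
      rwa [e]

theorem D_le (S : Chain t X V Q P H) : S.D ≤ S.C4 := fun _ h => h.1

theorem conj_D (S : Chain t X V Q P H) {n c : G} (hn : n ∈ S.N) (hc : c ∈ S.D) : n * c * n⁻¹ ∈ S.D := by
  refine ⟨S.conj_C4 hn hc.1, fun q hq => ?_, fun q hq => ?_⟩
  · have h1 := S.N_V hn (hc.2.1 _ (S.N_Q (inv_mem hn) hq))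
    have e : n * c * n⁻¹ * q * (n * c * n⁻¹)⁻¹ * q⁻¹ =
      n * (c * (n⁻¹ * q * n⁻¹⁻¹) * c⁻¹ * (n⁻¹ * q * n⁻¹⁻¹)⁻¹) * n⁻¹ := by group
    rwa [e]
  · have h1 := hn.1 _ (hc.2.2 _ (S.N_V (inv_mem hn) hq))
    have e : n * c * n⁻¹ * q * (n * c * n⁻¹)⁻¹ * q⁻¹ =
      n * (c * (n⁻¹ * q * n⁻¹⁻¹) * c⁻¹ * (n⁻¹ * q * n⁻¹⁻¹)⁻¹) * n⁻¹ := by group
    rwa [e]

theorem QV (S : Chain t X V Q P H) {a b : G} (ha : a ∈ Q) (hb : b ∈ Q) : a * b * a⁻¹ * b⁻¹ ∈ V :=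
  S.XV (S.QQ a ha b hb)

/-- The conjugate of a commutator by an element which is trivial on `P/Q`. -/
theorem comm_conj {d p q q1 r : G} (h1 : d * p * d⁻¹ * p⁻¹ = q1) (h2 : d * q * d⁻¹ * q⁻¹ = r) :
    d * (p * q * p⁻¹) * d⁻¹ * (p * q * p⁻¹)⁻¹ =
      q1 * (p * r * p⁻¹) * q1⁻¹ * (q1 * (p * q * p⁻¹) * q1⁻¹ * (p * q * p⁻¹)⁻¹) := by
  have e1 : d * p = q1 * p * d := by rw [← h1]; group
  have e2 : d * q = r * q * d := by rw [← h2]; group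
  calc d * (p * q * p⁻¹) * d⁻¹ * (p * q * p⁻¹)⁻¹ = (d * p) * q * (d * p)⁻¹ * (p * q * p⁻¹)⁻¹ := by group
    _ = q1 * p * (d * q) * d⁻¹ * p⁻¹ * q1⁻¹ * (p * q * p⁻¹)⁻¹ := by rw [e1]; group
    _ = _ := by rw [e2]; group

/-- A 2-element of `C4` lies in `D`. -/
theorem mem_D_of_two (S : Chain t X V Q P H) {n : G} (hn : n ∈ S.C4) {k : ℕ} (h2 : n ^ 2 ^ k = 1) : n ∈ S.D := by
  have hnN := hn.1
  refine ⟨hn, ?_, ?_⟩
  · -- the fixed points on `Q / V`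
    let R : Subgroup G :=
      { carrier := {q | q ∈ Q ∧ n * q * n⁻¹ * q⁻¹ ∈ V}
        one_mem' := ⟨one_mem _, by rw [mul_one, mul_inv_cancel, inv_one, mul_one]; exact one_mem _⟩
        mul_mem' := by
          rintro a b ⟨ha, ha2⟩ ⟨hb, hb2⟩
          refine ⟨mul_mem ha hb, ?_⟩
          have h3 := S.VQc _ hb2 a⁻¹ (inv_mem ha)
          have e : n * (a * b) * n⁻¹ * (a * b)⁻¹ = (n * a * n⁻¹) * ((n * b * n⁻¹ * b⁻¹) * a⁻¹) := by group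
          rw [e, h3]
          have h4 := mul_mem ha2 hb2
          have e2 : n * a * n⁻¹ * (a⁻¹ * (n * b * n⁻¹ * b⁻¹)) = n * a * n⁻¹ * a⁻¹ * (n * b * n⁻¹ * b⁻¹) := by group
          rwa [e2]
        inv_mem' := by
          rintro a ⟨ha, ha2⟩
          refine ⟨inv_mem ha, ?_⟩
          have h3 := inv_mem ha2
          have h4 := S.VQc _ h3 a ha
          have e : n * a⁻¹ * n⁻¹ * a⁻¹⁻¹ = a⁻¹ * ((n * a * n⁻¹ * a⁻¹)⁻¹ * a) := by group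
          rw [e, h4]
          have e2 : a⁻¹ * (a * (n * a * n⁻¹ * a⁻¹)⁻¹) = (n * a * n⁻¹ * a⁻¹)⁻¹ := by group
          rwa [e2] }
    have hR : R = V ∨ R = Q := by
      refine S.irrQ R (fun v hv => ⟨S.VQ hv, mul_mem (S.N_V hnN hv) (inv_mem hv)⟩) (fun _ h => h.1) ?_
      rintro p hp q ⟨hq, hq2⟩
      refine ⟨S.PQ p hp q hq, ?_⟩
      rw [comm_conj rfl rfl]
      refine mul_mem ?_ (S.QV (hn.2 p hp) (S.PQ p hp q hq))
      have h3 := S.PV p hp _ hq2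
      rw [← S.VQc _ h3 _ (hn.2 p hp), mul_inv_cancel_right]
      exact h3
    obtain ⟨q0, hq0, hq0V⟩ := S.neQ
    obtain ⟨c, hc, hcV, hcn⟩ := exists_fixed_two S.VQ S.Q2 (fun a ha b hb => S.QV ha hb) k n h2
      (fun a ha => S.N_Q hnN ha) (fun a ha => S.N_V hnN ha) q0 hq0 hq0V
    rcases hR with h | h
    · exfalso; apply hcV
      rw [← h]; exact ⟨hc, hcn⟩
    · intro q hq
      rw [← h] at hq
      exact hq.2
  · let R : Subgroup G :=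
      { carrier := {q | q ∈ V ∧ n * q * n⁻¹ * q⁻¹ ∈ X}
        one_mem' := ⟨one_mem _, by rw [mul_one, mul_inv_cancel, inv_one, mul_one]; exact one_mem _⟩
        mul_mem' := by
          rintro a b ⟨ha, ha2⟩ ⟨hb, hb2⟩
          refine ⟨mul_mem ha hb, ?_⟩
          have h3 := S.XP _ hb2 a⁻¹ (S.QP (S.VQ (inv_mem ha)))
          have e : n * (a * b) * n⁻¹ * (a * b)⁻¹ = (n * a * n⁻¹) * ((n * b * n⁻¹ * b⁻¹) * a⁻¹) := by group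
          rw [e, h3]
          have h4 := mul_mem ha2 hb2
          have e2 : n * a * n⁻¹ * (a⁻¹ * (n * b * n⁻¹ * b⁻¹)) = n * a * n⁻¹ * a⁻¹ * (n * b * n⁻¹ * b⁻¹) := by group
          rwa [e2]
        inv_mem' := by
          rintro a ⟨ha, ha2⟩
          refine ⟨inv_mem ha, ?_⟩
          have h3 := inv_mem ha2
          have h4 := S.XP _ h3 a (S.QP (S.VQ ha))
          have e : n * a⁻¹ * n⁻¹ * a⁻¹⁻¹ = a⁻¹ * ((n * a * n⁻¹ * a⁻¹)⁻¹ * a) := by group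
          rw [e, h4]
          have e2 : a⁻¹ * (a * (n * a * n⁻¹ * a⁻¹)⁻¹) = (n * a * n⁻¹ * a⁻¹)⁻¹ := by group
          rwa [e2] }
    have hR : R = X ∨ R = V := by
      refine S.irrV R (fun v hv => ⟨S.XV hv, mul_mem (hnN.1 v hv) (inv_mem hv)⟩) (fun _ h => h.1) ?_
      rintro p hp q ⟨hq, hq2⟩
      refine ⟨S.PV p hp q hq, ?_⟩
      rw [comm_conj rfl rfl]
      refine mul_mem ?_ ?_
      · have h3 : p * (n * q * n⁻¹ * q⁻¹) * p⁻¹ = n * q * n⁻¹ * q⁻¹ := by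
          rw [← S.XP _ hq2 p hp, mul_inv_cancel_right]
        rw [h3, ← S.XP _ hq2 _ (S.QP (hn.2 p hp)), mul_inv_cancel_right]
        exact hq2
      · rw [← S.VQc _ (S.PV p hp q hq) _ (hn.2 p hp)]
        have : p * q * p⁻¹ * (n * p * n⁻¹ * p⁻¹) * (n * p * n⁻¹ * p⁻¹)⁻¹ * (p * q * p⁻¹)⁻¹ = 1 := by group
        rw [this]; exact one_mem _
    obtain ⟨q0, hq0, hq0V⟩ := S.neV
    obtain ⟨c, hc, hcV, hcn⟩ := exists_fixed_two S.XV (fun v hv => by rw [S.V2 v hv]; exact one_mem _)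
      (fun a ha b hb => by
        rw [S.VQc a ha b (S.VQ hb)]
        have : b * a * a⁻¹ * b⁻¹ = 1 := by group
        rw [this]; exact one_mem _) k n h2
      (fun a ha => S.N_V hnN ha) (fun a ha => hnN.1 a ha) q0 hq0 hq0V
    rcases hR with h | h
    · exfalso; apply hcV
      rw [← h]; exact ⟨hc, hcn⟩
    · intro q hq
      rw [← h] at hq
      exact hq.2

/-- `D` centralises `X`. -/
theorem D_X (S : Chain t X V Q P H) {n : G} (hn : n ∈ S.D) {x : G} (hx : x ∈ X) : n * x = x * n := by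
  have hle : ⁅Q, Q⁆ ≤ centralizer ({n} : Set G) := by
    rw [commutator_le]
    intro a ha b hb
    rw [mem_centralizer_singleton_iff]
    have ha' := hn.2.1 a ha
    have hb' := hn.2.1 b hb
    set x := n * a * n⁻¹ * a⁻¹ with hx
    set y := n * b * n⁻¹ * b⁻¹ with hy
    have ea : n * a * n⁻¹ = x * a := by rw [hx]; group
    have eb : n * b * n⁻¹ = y * b := by rw [hy]; group
    have c1 : ∀ q ∈ Q, x * q = q * x := fun q hq => S.VQc x ha' q hq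
    have c2 : ∀ q ∈ Q, y * q = q * y := fun q hq => S.VQc y hb' q hq
    have e : n * ⁅a, b⁆ * n⁻¹ = ⁅a, b⁆ := by
      have e1 : n * ⁅a, b⁆ * n⁻¹ = (n * a * n⁻¹) * (n * b * n⁻¹) * (n * a * n⁻¹)⁻¹ * (n * b * n⁻¹)⁻¹ := by
        rw [commutatorElement_def]; group
      rw [e1, ea, eb, commutatorElement_def]
      calc x * a * (y * b) * (x * a)⁻¹ * (y * b)⁻¹
          = x * (a * (y * b)) * (a⁻¹ * x⁻¹) * (b⁻¹ * y⁻¹) := by group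
        _ = x * (a * (y * b) * a⁻¹) * x⁻¹ * (b⁻¹ * y⁻¹) := by group
        _ = (a * (y * b) * a⁻¹) * x * x⁻¹ * (b⁻¹ * y⁻¹) := by
          rw [c1 (a * (y * b) * a⁻¹) (mul_mem (mul_mem ha (mul_mem (S.VQ hb') hb)) (inv_mem ha))]
        _ = a * y * (b * a⁻¹ * b⁻¹) * y⁻¹ := by group
        _ = y * (a * (b * a⁻¹ * b⁻¹)) * y⁻¹ := by rw [← c2 a ha]; group
        _ = a * (b * a⁻¹ * b⁻¹) := by
          rw [c2 _ (mul_mem ha (mul_mem (mul_mem hb (inv_mem ha)) (inv_mem hb)))]; group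
        _ = a * b * a⁻¹ * b⁻¹ := by group
    calc ⁅a, b⁆ * n = n * ⁅a, b⁆ * n⁻¹ * n := by rw [e]
      _ = n * ⁅a, b⁆ := by group
  exact (mem_centralizer_singleton_iff.1 (hle (S.XQQ hx))).symm

/-- `D` acts trivially on `Q / X`. -/
theorem D_Q (S : Chain t X V Q P H) {n : G} (hn : n ∈ S.D) {q : G} (hq : q ∈ Q) : n * q * n⁻¹ * q⁻¹ ∈ X := by
  let R : Subgroup G :=
    { carrier := {q | q ∈ Q ∧ n * q * n⁻¹ * q⁻¹ ∈ X}
      one_mem' := ⟨one_mem _, by rw [mul_one, mul_inv_cancel, inv_one, mul_one]; exact one_mem _⟩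
      mul_mem' := by
        rintro a b ⟨ha, ha2⟩ ⟨hb, hb2⟩
        refine ⟨mul_mem ha hb, ?_⟩
        have h3 := S.XP _ hb2 a⁻¹ (S.QP (inv_mem ha))
        have e : n * (a * b) * n⁻¹ * (a * b)⁻¹ = (n * a * n⁻¹) * ((n * b * n⁻¹ * b⁻¹) * a⁻¹) := by group
        rw [e, h3]
        have h4 := mul_mem ha2 hb2
        have e2 : n * a * n⁻¹ * (a⁻¹ * (n * b * n⁻¹ * b⁻¹)) = n * a * n⁻¹ * a⁻¹ * (n * b * n⁻¹ * b⁻¹) := by group
        rwa [e2]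
      inv_mem' := by
        rintro a ⟨ha, ha2⟩
        refine ⟨inv_mem ha, ?_⟩
        have h3 := inv_mem ha2
        have h4 := S.XP _ h3 a (S.QP ha)
        have e : n * a⁻¹ * n⁻¹ * a⁻¹⁻¹ = a⁻¹ * ((n * a * n⁻¹ * a⁻¹)⁻¹ * a) := by group
        rw [e, h4]
        have e2 : a⁻¹ * (a * (n * a * n⁻¹ * a⁻¹)⁻¹) = (n * a * n⁻¹ * a⁻¹)⁻¹ := by group
        rwa [e2] }
  have hR : R = V ∨ R = Q := by
    refine S.irrQ R (fun v hv => ⟨S.VQ hv, hn.2.2 v hv⟩) (fun _ h => h.1) ?_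
    rintro p hp q ⟨hq, hq2⟩
    refine ⟨S.PQ p hp q hq, ?_⟩
    have hq1 := hn.1.2 p hp
    rw [comm_conj rfl rfl]
    refine mul_mem ?_ (S.QQ _ hq1 _ (S.PQ p hp q hq))
    have h3 : p * (n * q * n⁻¹ * q⁻¹) * p⁻¹ = n * q * n⁻¹ * q⁻¹ := by
      rw [← S.XP _ hq2 p hp, mul_inv_cancel_right]
    rw [h3, ← S.XP _ hq2 _ (S.QP hq1), mul_inv_cancel_right]
    exact hq2
  rcases hR with h | h
  · exfalso
    obtain ⟨c, hc, hcV, hcX⟩ := S.hQ n hn.1.2 hn.2.1 hn.2.2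
    apply hcV
    rw [← h]; exact ⟨hc, hcX⟩
  · rw [← h] at hq
    exact hq.2

/-- `D` centralises `V`. -/
theorem D_V (S : Chain t X V Q P H) {n : G} (hn : n ∈ S.D) {v : G} (hv : v ∈ V) : n * v = v * n := by
  let R : Subgroup G :=
    { carrier := {q | q ∈ V ∧ n * q = q * n}
      one_mem' := ⟨one_mem _, by rw [mul_one, one_mul]⟩
      mul_mem' := by
        rintro a b ⟨ha, ha2⟩ ⟨hb, hb2⟩
        exact ⟨mul_mem ha hb, by rw [← mul_assoc, ha2, mul_assoc, hb2, mul_assoc]⟩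
      inv_mem' := by
        rintro a ⟨ha, ha2⟩
        refine ⟨inv_mem ha, ?_⟩
        rw [mul_inv_eq_iff_eq_mul, mul_assoc, ha2, inv_mul_cancel_left] }
  have hR : R = X ∨ R = V := by
    refine S.irrV R (fun v hv => ⟨S.XV hv, S.D_X hn hv⟩) (fun _ h => h.1) ?_
    rintro p hp q ⟨hq, hq2⟩
    refine ⟨S.PV p hp q hq, ?_⟩
    have hq1 := hn.1.2 p hp
    set q1 := n * p * n⁻¹ * p⁻¹ with hq1d
    have e1 : n * p = q1 * p * n := by rw [hq1d]; group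
    have h3 := S.VQc _ (S.PV p hp q hq) q1 hq1
    calc n * (p * q * p⁻¹) = (n * p) * q * (n * p)⁻¹ * n := by group
      _ = q1 * p * (n * q) * n⁻¹ * p⁻¹ * q1⁻¹ * n := by rw [e1]; group
      _ = q1 * (p * q * p⁻¹) * q1⁻¹ * n := by rw [hq2]; group
      _ = p * q * p⁻¹ * n := by rw [← h3, mul_inv_cancel_right]
  rcases hR with h | h
  · exfalso
    obtain ⟨c, hc, hcV, hcX⟩ := S.hV n hn.1.2 hn.2.2 (fun x hx => S.D_X hn hx)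
    apply hcV
    rw [← h]; exact ⟨hc, hcX⟩
  · rw [← h] at hv
    exact hv.2

/-- **Lemma B**: an element of `D` agrees on `t` with an element centralising `Q` and `P/V`. -/
theorem exists_cent (S : Chain t X V Q P H) {n : G} (hn : n ∈ S.D) :
    ∃ b : G, (∀ q ∈ Q, b * q = q * b) ∧ (∀ p ∈ P, b * p * b⁻¹ * p⁻¹ ∈ V) ∧ b * t * b⁻¹ = n * t * n⁻¹ := by
  obtain ⟨q, hq, hf⟩ := S.E2 (fun v => n * v * n⁻¹ * v⁻¹) (fun v hv => S.D_Q hn hv)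
    (by
      intro v hv w hw
      have hx := S.D_Q hn hw
      calc n * (v * w) * n⁻¹ * (v * w)⁻¹ = (n * v * n⁻¹) * ((n * w * n⁻¹ * w⁻¹) * v⁻¹) := by group
        _ = (n * v * n⁻¹) * (v⁻¹ * (n * w * n⁻¹ * w⁻¹)) := by
          rw [S.XP _ hx v⁻¹ (S.QP (inv_mem hv))]
        _ = n * v * n⁻¹ * v⁻¹ * (n * w * n⁻¹ * w⁻¹) := by group)
    (by
      intro x hx
      show n * x * n⁻¹ * x⁻¹ = 1
      rw [S.D_V hn hx]; group)
    (by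
      intro p hp
      have hq1 := hn.1.2 p hp
      set q1 := n * p * n⁻¹ * p⁻¹ with hq1d
      have hpq : p⁻¹ * q1 * p ∈ Q := by simpa using S.PQ p⁻¹ (inv_mem hp) q1 hq1
      refine ⟨p⁻¹ * q1 * p, hpq, fun v hv => ?_⟩
      have hxv := S.D_Q hn hv
      set x := n * v * n⁻¹ * v⁻¹ with hxd
      have e1 : n * p = q1 * p * n := by rw [hq1d]; group
      have e2 : n * v = x * v * n := by rw [hxd]; group
      have c1 : ∀ p ∈ P, x * p = p * x := fun p hp => S.XP x hxv p hp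
      have hq1P := S.QP hq1
      calc n * (p * v * p⁻¹) * n⁻¹ * (p * v * p⁻¹)⁻¹
          = (n * p) * v * (n * p)⁻¹ * (p * v * p⁻¹)⁻¹ := by group
        _ = q1 * p * (n * v) * n⁻¹ * p⁻¹ * q1⁻¹ * (p * v * p⁻¹)⁻¹ := by rw [e1]; group
        _ = (q1 * p) * x * v * p⁻¹ * q1⁻¹ * (p * v * p⁻¹)⁻¹ := by rw [e2]; group
        _ = x * (q1 * p) * v * p⁻¹ * q1⁻¹ * (p * v * p⁻¹)⁻¹ := by rw [c1 _ (mul_mem hq1P hp)]
        _ = x * p * ((p⁻¹ * q1 * p) * v * (p⁻¹ * q1 * p)⁻¹ * v⁻¹) * p⁻¹ := by group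
        _ = x * (p * ((p⁻¹ * q1 * p) * v * (p⁻¹ * q1 * p)⁻¹ * v⁻¹) * p⁻¹) := by group
        _ = x * ((p⁻¹ * q1 * p) * v * (p⁻¹ * q1 * p)⁻¹ * v⁻¹) := by
          congr 1
          have h3 : (p⁻¹ * q1 * p) * v * (p⁻¹ * q1 * p)⁻¹ * v⁻¹ ∈ X := S.QQ _ hpq v hv
          rw [← S.XP _ h3 p hp]; group)
  have hqP := S.QP hq
  -- `b = q⁻¹ n` centralises `Q`
  have hbQ : ∀ v ∈ Q, (q⁻¹ * n) * v * (q⁻¹ * n)⁻¹ = v := by
    intro v hv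
    have h1 : n * v * n⁻¹ = q * v * q⁻¹ := mul_right_cancel (hf v hv)
    calc (q⁻¹ * n) * v * (q⁻¹ * n)⁻¹ = q⁻¹ * (n * v * n⁻¹) * q := by group
      _ = v := by rw [h1]; group
  refine ⟨q⁻¹ * n, fun v hv => ?_, fun p hp => ?_, ?_⟩
  · calc q⁻¹ * n * v = ((q⁻¹ * n) * v * (q⁻¹ * n)⁻¹) * (q⁻¹ * n) := by group
      _ = _ := by rw [hbQ v hv]
  · have h1 : (q⁻¹ * n) * p * (q⁻¹ * n)⁻¹ * p⁻¹ ∈ Q := by
      have h2 := hn.1.2 p hp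
      have e : (q⁻¹ * n) * p * (q⁻¹ * n)⁻¹ * p⁻¹ = q⁻¹ * (n * p * n⁻¹ * p⁻¹) * (p * q * p⁻¹) := by group
      rw [e]
      exact mul_mem (mul_mem (inv_mem hq) h2) (S.PQ p hp q hq)
    apply S.ZQ _ h1
    intro v hv
    have h2 := hbQ _ (S.PQ p⁻¹ (inv_mem hp) v hv)
    rw [inv_inv] at h2
    have h3 := hbQ v hv
    set b := q⁻¹ * n with hb
    calc b * p * b⁻¹ * p⁻¹ * v = (b * p * b⁻¹) * (p⁻¹ * v * p) * p⁻¹ := by group
      _ = (b * p * b⁻¹) * (b * (p⁻¹ * v * p) * b⁻¹) * p⁻¹ := by rw [h2]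
      _ = b * (v * p) * b⁻¹ * p⁻¹ := by group
      _ = (b * v * b⁻¹) * (b * p * b⁻¹ * p⁻¹) := by group
      _ = v * (b * p * b⁻¹ * p⁻¹) := by rw [h3]
  · have hx : t * (n * t * n⁻¹) ∈ X := hn.1.1.2.2
    have e : n * t * n⁻¹ = t * (t * (n * t * n⁻¹)) := by rw [← mul_assoc, S.tt, one_mul]
    have c1 : (t * (t * (n * t * n⁻¹))) * q = q * (t * (t * (n * t * n⁻¹))) := by
      rw [mul_assoc, S.XP _ hx q hqP, ← mul_assoc, S.tP q hqP, mul_assoc]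
    calc q⁻¹ * n * t * (q⁻¹ * n)⁻¹ = q⁻¹ * ((n * t * n⁻¹) * q) := by group
      _ = q⁻¹ * (q * (n * t * n⁻¹)) := by rw [e, c1]
      _ = n * t * n⁻¹ := by group

/-- Averaging: modulo `V` the element centralises a subgroup `A ≤ P` of odd order. -/
theorem exists_avg (S : Chain t X V Q P H) {A : Subgroup G} [Finite A] (hAP : A ≤ P) (hodd : Odd (Nat.card A))
    {b : G} (hbQ : ∀ q ∈ Q, b * q = q * b) (hbP : ∀ p ∈ P, b * p * b⁻¹ * p⁻¹ ∈ V) :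
    ∃ b' : G, (∀ q ∈ Q, b' * q = q * b') ∧ (∀ p ∈ P, b' * p * b'⁻¹ * p⁻¹ ∈ V) ∧ (∀ a ∈ A, b' * a = a * b') ∧
      b' * t * b'⁻¹ = b * t * b⁻¹ ∧ b'⁻¹ * b ∈ V := by
  classical
  haveI : Fintype A := Fintype.ofFinite A
  letI : CommGroup V := { (inferInstance : Group V) with
    mul_comm := fun x y => Subtype.ext (S.VQc x x.2 y (S.VQ y.2)) }
  let δ : A → V := fun a => ⟨b * a * b⁻¹ * (a : G)⁻¹, hbP a (hAP a.2)⟩
  let v0 : V := ∏ a : A, δ a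
  -- conjugation by `g ∈ A` as a homomorphism of `V`
  let cg : A → V →* V := fun g =>
    { toFun := fun v => ⟨g * v * (g : G)⁻¹, S.PV g (hAP g.2) v v.2⟩
      map_one' := Subtype.ext (by show (g : G) * 1 * (g : G)⁻¹ = 1; group)
      map_mul' := fun x y => Subtype.ext (by
        show (g : G) * (x * y) * (g : G)⁻¹ = g * x * (g : G)⁻¹ * (g * y * (g : G)⁻¹)
        group) }
  have hδ : ∀ g a : A, δ (g * a) = δ g * cg g (δ a) := by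
    intro g a
    apply Subtype.ext
    show b * ((g : G) * a) * b⁻¹ * ((g : G) * a)⁻¹ =
      b * g * b⁻¹ * (g : G)⁻¹ * (g * (b * a * b⁻¹ * (a : G)⁻¹) * (g : G)⁻¹)
    group
  have hsq : ∀ v : V, v ^ 2 = 1 := fun v => Subtype.ext (by
    show (v : G) ^ 2 = 1
    rw [pow_two]; exact S.V2 v v.2)
  have hv0 : ∀ g : A, v0 = δ g * cg g v0 := by
    intro g
    have h1 : v0 = ∏ a : A, δ (g * a) := (Equiv.prod_comp (Equiv.mulLeft g) δ).symm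
    have h2 : ∏ a : A, δ (g * a) = δ g ^ Fintype.card A * cg g v0 := by
      rw [map_prod, ← Finset.card_univ, ← Finset.prod_const, ← Finset.prod_mul_distrib]
      exact Finset.prod_congr rfl fun a _ => hδ g a
    have h3 : δ g ^ Fintype.card A = δ g := by
      rw [Nat.card_eq_fintype_card] at hodd
      obtain ⟨k, hk⟩ := hodd
      rw [hk, pow_succ, pow_mul, hsq, one_pow, one_mul]
    rw [h3] at h2
    exact h1.trans h2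
  have hv0V : (v0 : G) ∈ V := v0.2
  have hinvV : (v0 : G)⁻¹ = v0 := inv_eq_of_mul_eq_one_left (S.V2 _ v0.2)
  refine ⟨(v0 : G)⁻¹ * b, fun q hq => ?_, fun p hp => ?_, fun a ha => ?_, ?_, ?_⟩
  · rw [mul_assoc, hbQ q hq, ← mul_assoc, S.VQc _ (inv_mem hv0V) q hq, mul_assoc]
  · have h1 := mul_mem (mul_mem (inv_mem hv0V) (hbP p hp)) (S.PV p hp _ hv0V)
    have e : (v0 : G)⁻¹ * b * p * ((v0 : G)⁻¹ * b)⁻¹ * p⁻¹ =
      (v0 : G)⁻¹ * (b * p * b⁻¹ * p⁻¹) * (p * v0 * p⁻¹) := by group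
    rwa [e]
  · have h1 := congrArg Subtype.val (hv0 ⟨a, ha⟩)
    have h2 : (v0 : G) = b * a * b⁻¹ * a⁻¹ * (a * v0 * a⁻¹) := h1
    have h3 : b * a = (v0 : G) * a * (v0 : G)⁻¹ * b := by
      calc b * a = (b * a * b⁻¹ * a⁻¹ * (a * v0 * a⁻¹)) * (a * (v0 : G)⁻¹ * a⁻¹) * a * b := by group
        _ = v0 * (a * (v0 : G)⁻¹ * a⁻¹) * a * b := by rw [← h2]
        _ = _ := by group
    calc (v0 : G)⁻¹ * b * a = (v0 : G)⁻¹ * (b * a) := by group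
      _ = (v0 : G)⁻¹ * ((v0 : G) * a * (v0 : G)⁻¹ * b) := by rw [h3]
      _ = a * ((v0 : G)⁻¹ * b) := by group
  · -- `b t b⁻¹` commutes with `v0`: `b` commutes with `v0`, `t` too
    have h1 := hbQ _ (S.VQ (inv_mem hv0V))
    have h2 := S.tP _ (S.QP (S.VQ (inv_mem hv0V)))
    calc (v0 : G)⁻¹ * b * t * ((v0 : G)⁻¹ * b)⁻¹ = ((v0 : G)⁻¹ * b) * t * b⁻¹ * v0 := by group
      _ = b * ((v0 : G)⁻¹ * t) * b⁻¹ * v0 := by rw [← h1]; group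
      _ = b * t * ((v0 : G)⁻¹ * b⁻¹) * v0 := by rw [← h2]; group
      _ = b * t * (b⁻¹ * (v0 : G)⁻¹) * v0 := by
        congr 2
        have h3 := hbQ _ (S.VQ hv0V)
        rw [← mul_inv_rev, h3, mul_inv_rev]
      _ = b * t * b⁻¹ := by group
  · have h1 := hbQ _ (S.VQ hv0V)
    have e : ((v0 : G)⁻¹ * b)⁻¹ * b = v0 := by
      calc ((v0 : G)⁻¹ * b)⁻¹ * b = b⁻¹ * (v0 * b) := by group
        _ = v0 := by rw [← h1, inv_mul_cancel_left]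
    rw [e]; exact hv0V

end Chain

end Cfsg.Agent.OddHalf.D7F4Ex
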