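import Cfsg.Agent.OddHalf.D7F4Ex.Loc
import Cfsg.Agent.OddHalf.D7F4.Model

/-!
# Root elements of `F₄(q)` in characteristic two, self-dual form

`Chart E T` : `E a u` (`a ∈ rts`, `u ∈ F`) the root elements, `T` the torus in doubled Euclidean coordinates `dd`;
`Chart.dual` : the dual chart `E* a u = E a* u` (`a` short), `E a* √u` (`a` long);
`Chart.loc` : the coordinates `Loc` of the parabolic subgroup of the short root `e₁ = (2,3,2,1)`.
-/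

set_option autoImplicit false
set_option linter.unusedSectionVars false

namespace Cfsg.Agent.OddHalf.D7F4Ex

open Cfsg.Agent.OddHalf.D7F4.Model

/-- doubled Euclidean coordinates -/
def dd (x : Fin 4 → ℤ) : Fin 4 → ℤ :=
  ![x 0, -x 0 + 2 * x 3, -x 0 - 2 * x 3 + 2 * x 2, -x 0 - 2 * x 2 + 2 * x 1]

/-- simple root coordinates of a vector in doubled Euclidean coordinates -/
def sc (d : Fin 4 → ℤ) : Fin 4 → ℤ :=
  ![d 0, (3 * d 0 + d 1 + d 2 + d 3) / 2, (2 * d 0 + d 1 + d 2) / 2, (d 0 + d 1) / 2]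

/-- the short root `e₁` -/
def s0 : Fin 4 → ℤ := ![2, 3, 2, 1]

/-- `±2` -/
def sg (b : Bool) : ℤ := if b then 2 else -2

/-- the short roots `± e_k` orthogonal to `s0` -/
def rc (j : J) : Fin 4 → ℤ := sc ![0, if j.1 = 0 then sg j.2 else 0, if j.1 = 1 then sg j.2 else 0,
  if j.1 = 2 then sg j.2 else 0]

/-- the long roots `e₁ ± e_k` -/
def rv (j : J) : Fin 4 → ℤ := s0 + rc j

/-- the long roots orthogonal to `s0` -/
def rl (j k : J) : Fin 4 → ℤ := rc j + rc k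

/-- the short roots at 60 degrees -/
def rz (i : Sp) : Fin 4 → ℤ := sc ![1, sg (i 0) / 2, sg (i 1) / 2, sg (i 2) / 2]

theorem dd_add (x y : Fin 4 → ℤ) : dd (x + y) = dd x + dd y := by
  funext i
  fin_cases i <;> simp [dd] <;> ring

/-- the reflection in `a` -/
def rfl' (a b : Fin 4 → ℤ) : Fin 4 → ℤ := b - (2 * B a b / B a a) • a

variable {F : Type*} [Field F] {G : Type*} [Group G]

/-- the character in doubled coordinates -/
def chd (ν : Fin 4 → Fˣ) (a : Fin 4 → ℤ) : Fˣ := ∏ i, ν i ^ dd a i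

/-- `n_a` -/
def nE (E : (Fin 4 → ℤ) → F → G) (a : Fin 4 → ℤ) : G := E a 1 * E (-a) 1 * E a 1

/-- Root elements of `F₄(F)`, characteristic two. -/
structure Chart (E : (Fin 4 → ℤ) → F → G) (T : (Fin 4 → Fˣ) →* G) : Prop where
  two : ∀ u : F, u + u = 0
  big : ∃ μ : Fˣ, μ ≠ 1
  add : ∀ a ∈ rts, ∀ u v, E a (u + v) = E a u * E a v
  inj : ∀ a ∈ rts, ∀ u, E a u = 1 → u = 0
  sep : ∀ a ∈ rts, ∀ b ∈ rts, a ≠ b → ∀ u v, E a u = E b v → v = 0
  c0 : ∀ a ∈ rts, ∀ b ∈ rts, 0 ≤ B a b → ∀ u v, E a u * E b v = E b v * E a u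
  c1 : ∀ a ∈ rts, ∀ b ∈ rts, B a a = B b b → B a b < 0 → a ≠ -b → ∀ u v,
    E a u * E b v * (E a u)⁻¹ * (E b v)⁻¹ = E (a + b) (u * v)
  c2 : ∀ a ∈ rts, ∀ b ∈ rts, B a a = 4 → B b b = 2 → B a b = -2 → ∀ u v,
    E a u * E b v * (E a u)⁻¹ * (E b v)⁻¹ = E (a + b) (u * v) * E (a + b + b) (u * v ^ 2)
  tor : ∀ a ∈ rts, ∀ ν u, T ν * E a u * (T ν)⁻¹ = E a ((chd ν a : F) * u)
  nrf : ∀ a ∈ rts, ∀ b ∈ rts, ∀ u, nE E a * E b u * (nE E a)⁻¹ = E (rfl' a b) u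

/-! ### Tables -/

theorem s0_mem : s0 ∈ rts := by decide +kernel
theorem rc_mem : ∀ j, rc j ∈ rts := by decide +kernel
theorem rv_mem : ∀ j, rv j ∈ rts := by decide +kernel
theorem rz_mem : ∀ i, rz i ∈ rts := by decide +kernel
theorem rl_mem : ∀ j k : J, j.1 ≠ k.1 → rl j k ∈ rts := by decide +kernel
theorem rv_ne : ∀ j, s0 ≠ rv j := by decide +kernel
theorem t_v : ∀ j, 0 ≤ B s0 (rv j) := by decide +kernel
theorem t_z : ∀ j, 0 ≤ B s0 (rz j) := by decide +kernel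
theorem t_c : ∀ j, 0 ≤ B s0 (rc j) := by decide +kernel
theorem t_l : ∀ j k : J, j.1 ≠ k.1 → 0 ≤ B s0 (rl j k) := by decide +kernel
theorem t_vv : ∀ j k, 0 ≤ B (rv j) (rv k) := by decide +kernel
theorem t_vz : ∀ j i, 0 ≤ B (rv j) (rz i) := by decide +kernel
theorem t_zz : ∀ i j, j ≠ op i → 0 ≤ B (rz i) (rz j) := by decide +kernel
theorem t_zop : ∀ i, B (rz i) (rz i) = B (rz (op i)) (rz (op i)) ∧ B (rz i) (rz (op i)) < 0 ∧ rz i ≠ -rz (op i) ∧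
    rz i + rz (op i) = s0 := by decide +kernel
theorem t_cv : ∀ k, B (rv (ng k)) (rv (ng k)) = 4 ∧ B (rc k) (rc k) = 2 ∧ B (rv (ng k)) (rc k) = -2 ∧
    rv (ng k) + rc k = s0 ∧ rv (ng k) + rc k + rc k = rv k := by decide +kernel
theorem t_cv' : ∀ k j, j ≠ ng k → 0 ≤ B (rc k) (rv j) := by decide +kernel
theorem t_cz : ∀ (k : J) i, i k.1 ≠ k.2 → B (rc k) (rc k) = B (rz i) (rz i) ∧ B (rc k) (rz i) < 0 ∧ rc k ≠ -rz i ∧
    rc k + rz i = rz (fl i k.1) := by decide +kernel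
theorem t_cz' : ∀ (k : J) i, i k.1 = k.2 → 0 ≤ B (rc k) (rz i) := by decide +kernel
theorem t_lv : ∀ a b : J, a.1 ≠ b.1 → B (rl a b) (rl a b) = B (rv (ng a)) (rv (ng a)) ∧ B (rl a b) (rv (ng a)) < 0 ∧
    rl a b ≠ -rv (ng a) ∧ rl a b + rv (ng a) = rv b := by decide +kernel
theorem t_lv' : ∀ a b j : J, a.1 ≠ b.1 → j ≠ ng a → j ≠ ng b → 0 ≤ B (rl a b) (rv j) := by decide +kernel
theorem t_lz : ∀ (a b : J) i, a.1 ≠ b.1 → i a.1 ≠ a.2 → i b.1 ≠ b.2 → B (rl a b) (rl a b) = 4 ∧ B (rz i) (rz i) = 2 ∧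
    B (rl a b) (rz i) = -2 ∧ rl a b + rz i = rz (fl (fl i a.1) b.1) ∧
    rl a b + rz i + rz i = rv (thd a.1 b.1, i (thd a.1 b.1)) := by decide +kernel
theorem t_lz' : ∀ (a b : J) i, a.1 ≠ b.1 → (i a.1 = a.2 ∨ i b.1 = b.2) → 0 ≤ B (rl a b) (rz i) := by decide +kernel
theorem t_lc : ∀ a b : J, a.1 ≠ b.1 → B (rl a b) (rl a b) = 4 ∧ B (rc (ng a)) (rc (ng a)) = 2 ∧
    B (rl a b) (rc (ng a)) = -2 ∧ rl a b + rc (ng a) = rc b ∧ rl a b + rc (ng a) + rc (ng a) = rl b (ng a) := by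
  decide +kernel

theorem d_s0 : dd s0 = ![2, 0, 0, 0] := by decide +kernel
theorem d_rc : ∀ j, dd (rc j) = ![0, if j.1 = 0 then sg j.2 else 0, if j.1 = 1 then sg j.2 else 0,
  if j.1 = 2 then sg j.2 else 0] := by decide +kernel
theorem d_rz : ∀ i, dd (rz i) = ![1, sg (i 0) / 2, sg (i 1) / 2, sg (i 2) / 2] := by decide +kernel


/-! ### The torus -/

/-- `ν ↦ (μ, ν)` -/
def consH : (Fin 3 → Fˣ) →* (Fin 4 → Fˣ) where
  toFun ν := ![1, ν 0, ν 1, ν 2]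
  map_one' := by funext i; fin_cases i <;> rfl
  map_mul' a b := by
    funext i
    fin_cases i
    · exact (mul_one 1).symm
    all_goals rfl

/-- `μ ↦ (μ, 1, 1, 1)` -/
def oneH : Fˣ →* (Fin 4 → Fˣ) where
  toFun μ := ![μ, 1, 1, 1]
  map_one' := by funext i; fin_cases i <;> rfl
  map_mul' a b := by
    funext i
    fin_cases i
    · rfl
    all_goals exact (mul_one 1).symm

theorem chd_eq (ν : Fin 4 → Fˣ) (a : Fin 4 → ℤ) :
    chd ν a = ν 0 ^ dd a 0 * ν 1 ^ dd a 1 * ν 2 ^ dd a 2 * ν 3 ^ dd a 3 := by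
  unfold chd
  rw [Fin.prod_univ_four]

theorem chd_consH (ν : Fin 3 → Fˣ) (a : Fin 4 → ℤ) :
    chd (consH ν) a = ν 0 ^ dd a 1 * ν 1 ^ dd a 2 * ν 2 ^ dd a 3 := by
  rw [chd_eq]
  show (1 : Fˣ) ^ dd a 0 * ν 0 ^ dd a 1 * ν 1 ^ dd a 2 * ν 2 ^ dd a 3 = _
  rw [one_zpow, one_mul]

theorem chd_oneH (μ : Fˣ) (a : Fin 4 → ℤ) : chd (oneH μ) a = μ ^ dd a 0 := by
  rw [chd_eq]
  show μ ^ dd a 0 * 1 ^ dd a 1 * 1 ^ dd a 2 * 1 ^ dd a 3 = _
  rw [one_zpow, one_zpow, one_zpow, mul_one, mul_one, mul_one]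

theorem wt_eq (ν : Fin 3 → Fˣ) (j : J) : ν 0 ^ dd (rc j) 1 * ν 1 ^ dd (rc j) 2 * ν 2 ^ dd (rc j) 3 = wt ν j := by
  rw [d_rc]
  rcases j with ⟨k, s⟩
  fin_cases k <;> cases s <;> simp [wt, sg] <;> rfl

theorem ws_eq (ν : Fin 3 → Fˣ) (i : Sp) : ν 0 ^ dd (rz i) 1 * ν 1 ^ dd (rz i) 2 * ν 2 ^ dd (rz i) 3 = ws ν i := by
  rw [d_rz]
  unfold ws
  rw [Fin.prod_univ_three]
  have key : ∀ (b : Bool) (μ : Fˣ), μ ^ (sg b / 2) = if b then μ else μ⁻¹ := by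
    intro b μ
    cases b
    · show μ ^ (-1 : ℤ) = _
      rw [zpow_neg_one]; rfl
    · show μ ^ (1 : ℤ) = _
      rw [zpow_one]; rfl
  rw [← key (i 0), ← key (i 1), ← key (i 2)]
  rfl

theorem chd_add (ν : Fin 4 → Fˣ) (a b : Fin 4 → ℤ) : chd ν (a + b) = chd ν a * chd ν b := by
  unfold chd
  rw [← Finset.prod_mul_distrib]
  refine Finset.prod_congr rfl fun i _ => ?_
  rw [dd_add, Pi.add_apply, zpow_add]

namespace Chart

variable {E : (Fin 4 → ℤ) → F → G} {T : (Fin 4 → Fˣ) →* G} (C : Chart E T)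

include C

theorem zero {a : Fin 4 → ℤ} (ha : a ∈ rts) : E a 0 = 1 := by
  have h1 := C.add a ha 0 0
  rw [add_zero] at h1
  exact (mul_eq_left.1 h1.symm)

theorem sq {a : Fin 4 → ℤ} (ha : a ∈ rts) (u : F) : E a u * E a u = 1 := by
  rw [← C.add a ha, C.two, C.zero ha]

theorem inv {a : Fin 4 → ℤ} (ha : a ∈ rts) (u : F) : (E a u)⁻¹ = E a u := inv_eq_of_mul_eq_one_left (C.sq ha u)

/-- conjugation, same length -/
theorem conj1 {a b : Fin 4 → ℤ} (ha : a ∈ rts) (hb : b ∈ rts) (h1 : B a a = B b b) (h2 : B a b < 0) (h3 : a ≠ -b)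
    (u v : F) : E a u * E b v * (E a u)⁻¹ = E (a + b) (u * v) * E b v := by
  rw [← C.c1 a ha b hb h1 h2 h3]; group

/-- conjugation of a short root element by a long one -/
theorem conj2 {a b : Fin 4 → ℤ} (ha : a ∈ rts) (hb : b ∈ rts) (h1 : B a a = 4) (h2 : B b b = 2) (h3 : B a b = -2)
    (u v : F) : E a u * E b v * (E a u)⁻¹ = E (a + b) (u * v) * E (a + b + b) (u * v ^ 2) * E b v := by
  rw [← C.c2 a ha b hb h1 h2 h3]; group

theorem add2_mem {a b : Fin 4 → ℤ} (ha : a ∈ rts) (hb : b ∈ rts) (h1 : B a a = 4) (h2 : B b b = 2) (h3 : B a b = -2) :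
    a + b ∈ rts ∧ a + b + b ∈ rts ∧ 0 ≤ B (a + b) (a + b + b) := by
  obtain ⟨m1, m2, m3, m4, -⟩ := roots.add_ls ha hb h1 h2 h3
  exact ⟨m1, m4, by rw [roots.add_right, m2, m3]; norm_num⟩

/-- conjugation of a long root element by a short one -/
theorem conj2' {a b : Fin 4 → ℤ} (ha : a ∈ rts) (hb : b ∈ rts) (h1 : B a a = 4) (h2 : B b b = 2) (h3 : B a b = -2)
    (u v : F) : E b v * E a u * (E b v)⁻¹ = E (a + b) (v * u) * E (a + b + b) (v ^ 2 * u) * E a u := by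
  obtain ⟨h4, h5, h6⟩ := C.add2_mem ha hb h1 h2 h3
  have e1 : E b v * E a u * (E b v)⁻¹ = (E a u * E b v * (E a u)⁻¹ * (E b v)⁻¹)⁻¹ * E a u := by group
  rw [e1, C.c2 a ha b hb h1 h2 h3, mul_inv_rev, C.inv h4, C.inv h5, ← C.c0 _ h4 _ h5 h6, mul_comm u v,
    mul_comm u (v ^ 2)]

theorem tor_comm {a : Fin 4 → ℤ} (ha : a ∈ rts) {ν : Fin 4 → Fˣ} (h : chd ν a = 1) (u : F) :
    T ν * E a u = E a u * T ν := by
  have h1 := C.tor a ha ν u
  rw [h, Units.val_one, one_mul] at h1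
  calc T ν * E a u = (T ν * E a u * (T ν)⁻¹) * T ν := by group
    _ = _ := by rw [h1]

/-- **The parabolic subgroup of `s0`.** -/
theorem loc : Loc (E s0) (fun j => E (rv j)) (fun i => E (rz i)) (fun j => E (rc j)) (fun j k => E (rl j k))
    (T.comp consH) where
  two := C.two
  big := C.big
  x0_add := C.add _ s0_mem
  v_add := fun j => C.add _ (rv_mem j)
  z_add := fun i => C.add _ (rz_mem i)
  c_add := fun j => C.add _ (rc_mem j)
  l_add := fun j k a b h => C.add _ (rl_mem j k h) a b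
  l_symm := fun j k a => by unfold rl; rw [add_comm]
  x0_inj := C.inj _ s0_mem
  xv := fun a j b h => C.sep _ s0_mem _ (rv_mem j) (rv_ne j) a b h
  x0_v := fun a j b => C.c0 _ s0_mem _ (rv_mem j) (t_v j) a b
  x0_z := fun a j b => C.c0 _ s0_mem _ (rz_mem j) (t_z j) a b
  x0_c := fun a j b => C.c0 _ s0_mem _ (rc_mem j) (t_c j) a b
  x0_l := fun a j k b h => C.c0 _ s0_mem _ (rl_mem j k h) (t_l j k h) a b
  v_v := fun j a k b => C.c0 _ (rv_mem j) _ (rv_mem k) (t_vv j k) a b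
  v_z := fun j a i b => C.c0 _ (rv_mem j) _ (rz_mem i) (t_vz j i) a b
  z_z := fun i a j b h => C.c0 _ (rz_mem i) _ (rz_mem j) (t_zz i j h) a b
  z_op := fun i a b => by
    obtain ⟨h1, h2, h3, h4⟩ := t_zop i
    have := C.conj1 (rz_mem i) (rz_mem (op i)) h1 h2 h3 a b
    rwa [h4] at this
  c_v := fun k a b => by
    obtain ⟨h1, h2, h3, h4, h5⟩ := t_cv k
    have := C.conj2' (rv_mem (ng k)) (rc_mem k) h1 h2 h3 b a
    rwa [h5, h4] at this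
  c_v' := fun k a j b h => C.c0 _ (rc_mem k) _ (rv_mem j) (t_cv' k j h) a b
  c_z := fun k a i b h => by
    obtain ⟨h1, h2, h3, h4⟩ := t_cz k i h
    have := C.conj1 (rc_mem k) (rz_mem i) h1 h2 h3 a b
    rwa [h4] at this
  c_z' := fun k a i b h => C.c0 _ (rc_mem k) _ (rz_mem i) (t_cz' k i h) a b
  l_v := fun a b s u h => by
    obtain ⟨h1, h2, h3, h4⟩ := t_lv a b h
    have := C.conj1 (rl_mem a b h) (rv_mem (ng a)) h1 h2 h3 s u
    rwa [h4] at this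
  l_v' := fun a b s j u h h1 h2 => C.c0 _ (rl_mem a b h) _ (rv_mem j) (t_lv' a b j h h1 h2) s u
  l_z := fun a b s i u h h1 h2 => by
    obtain ⟨h3, h4, h5, h6, h7⟩ := t_lz a b i h h1 h2
    have := C.conj2 (rl_mem a b h) (rz_mem i) h3 h4 h5 s u
    rwa [h7, h6] at this
  l_z' := fun a b s i u h h1 => C.c0 _ (rl_mem a b h) _ (rz_mem i) (t_lz' a b i h h1) s u
  l_c := fun a b s u h => by
    obtain ⟨h3, h4, h5, h6, h7⟩ := t_lc a b h
    have := C.conj2 (rl_mem a b h) (rc_mem (ng a)) h3 h4 h5 s u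
    rwa [h7, h6] at this
  th_x0 := fun ν a => C.tor_comm s0_mem (by
    rw [chd_consH, d_s0]
    show ν 0 ^ (0 : ℤ) * ν 1 ^ (0 : ℤ) * ν 2 ^ (0 : ℤ) = 1
    rw [zpow_zero, zpow_zero, zpow_zero, mul_one, mul_one]) a
  th_v := fun ν j a => by
    show T (consH ν) * E (rv j) a * (T (consH ν))⁻¹ = _
    rw [C.tor _ (rv_mem j), rv, chd_add, chd_consH, chd_consH, wt_eq, d_s0]
    show E _ (((ν 0 ^ (0 : ℤ) * ν 1 ^ (0 : ℤ) * ν 2 ^ (0 : ℤ) * wt ν j : Fˣ) : F) * a) = _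
    rw [zpow_zero, zpow_zero, zpow_zero, mul_one, mul_one, one_mul]
  th_z := fun ν i a => by
    show T (consH ν) * E (rz i) a * (T (consH ν))⁻¹ = _
    rw [C.tor _ (rz_mem i), chd_consH, ws_eq]
  th_c := fun ν j a => by
    show T (consH ν) * E (rc j) a * (T (consH ν))⁻¹ = _
    rw [C.tor _ (rc_mem j), chd_consH, wt_eq]
  th_l := fun ν j k a h => by
    show T (consH ν) * E (rl j k) a * (T (consH ν))⁻¹ = _
    rw [C.tor _ (rl_mem j k h), rl, chd_add, chd_consH, chd_consH, wt_eq, wt_eq, Units.val_mul]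

end Chart

end Cfsg.Agent.OddHalf.D7F4Ex
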