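import Cfsg.Agent.OddHalf.D7F4Ex.KC
import Cfsg.Agent.OddHalf.D7F4.Frame

/-!
# `GData` at `s0` for a frame `f : F₄(q) → C_G(t)`, `q ≥ 4` even, in both charts
-/

set_option autoImplicit false
set_option linter.unusedSectionVars false
set_option linter.style.haveILetI false

namespace Cfsg.Agent.OddHalf.D7F4Ex

open Subgroup Cfsg.Lie Cfsg.Agent.OddHalf.D7F4 Cfsg.Agent.OddHalf.D7F4.Model Loc

/-! ### Tables -/

theorem k_P : ∀ a ∈ rts, 0 ≤ B a s0 → a = s0 ∨ (∃ j, a = rv j) ∨ (∃ i, a = rz i) ∨ (∃ j, a = rc j) ∨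
    ∃ j k : J, j.1 ≠ k.1 ∧ a = rl j k := by decide +kernel
theorem k_Q : ∀ a ∈ rts, 0 < B a s0 → a = s0 ∨ (∃ j, a = rv j) ∨ (∃ i, a = rz i) := by decide +kernel
theorem k_T : ∀ a ∈ rts, Cs s0 a → a = s0 ∨ (∃ j, a = rv j) ∨ (∃ i, a = rz i) ∨
    ∃ j k : J, j.1 ≠ k.1 ∧ a = rl j k := by unfold Cs; decide +kernel
theorem p_s0 : 0 < B s0 s0 := by decide +kernel
theorem n_s0 : B s0 s0 = 2 := by decide +kernel
theorem p_rv : ∀ j, 0 < B (rv j) s0 ∧ B (rv j) (rv j) = 4 := by decide +kernel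
theorem p_rz : ∀ i, 0 < B (rz i) s0 ∧ B (rz i) (rz i) = 2 := by decide +kernel
theorem p_rc : ∀ j, B (rc j) s0 = 0 ∧ B (rc j) (rc j) = 2 := by decide +kernel
theorem p_rl : ∀ j k : J, j.1 ≠ k.1 → B (rl j k) s0 = 0 ∧ B (rl j k) (rl j k) = 4 := by decide +kernel
theorem e_rv : ∀ j, dd (rv j) 0 = 2 := by decide +kernel
theorem e_rz : ∀ i, dd (rz i) 0 = 1 := by decide +kernel
theorem e_rc : ∀ j, dd (rc j) 0 = 0 := by decide +kernel
theorem e_rl : ∀ j k : J, dd (rl j k) 0 = 0 := by decide +kernel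

section Gen

variable {F : Type*} [Field F] {Y G : Type*} [Group Y] [Group G]

theorem chd_consH_s0 (ν : Fin 3 → Fˣ) : chd (consH ν) s0 = 1 := by
  rw [chd_consH, d_s0]
  show ν 0 ^ (0 : ℤ) * ν 1 ^ (0 : ℤ) * ν 2 ^ (0 : ℤ) = 1
  rw [zpow_zero, zpow_zero, zpow_zero, mul_one, mul_one]

theorem consH_of_chd (h2 : ∀ a : F, a + a = 0) {ν : Fin 4 → Fˣ} (h : chd ν s0 = 1) :
    ν = consH (fun i => ν i.succ) := by
  rw [chd_eq, d_s0] at h
  have h1 : ν 0 ^ (2 : ℤ) = 1 := by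
    have h' : ν 0 ^ (2 : ℤ) * ν 1 ^ (0 : ℤ) * ν 2 ^ (0 : ℤ) * ν 3 ^ (0 : ℤ) = 1 := h
    rwa [zpow_zero, zpow_zero, zpow_zero, mul_one, mul_one, mul_one] at h'
  have h3 : ν 0 = 1 := by
    apply Units.ext
    have h4 : ((ν 0 : Fˣ) : F) ^ 2 = 1 := by
      have := congrArg (fun u : Fˣ => (u : F)) h1
      simpa using this
    have h5 : (((ν 0 : Fˣ) : F) + 1) * (((ν 0 : Fˣ) : F) + 1) = 0 := by
      calc _ = ((ν 0 : Fˣ) : F) ^ 2 + (((ν 0 : Fˣ) : F) + ((ν 0 : Fˣ) : F)) + 1 := by ring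
        _ = 0 := by rw [h4, h2, add_zero, h2]
    have h6 := mul_self_eq_zero.1 h5
    have h7 : ((ν 0 : Fˣ) : F) = (((ν 0 : Fˣ) : F) + 1) + 1 := by rw [add_assoc, h2, add_zero]
    rw [h7, h6, zero_add, Units.val_one]
  funext i
  fin_cases i
  · exact h3
  all_goals rfl

variable {E : (Fin 4 → ℤ) → F → Y} {T : (Fin 4 → Fˣ) →* Y}

theorem Q_eq : Qs (E s0) (fun j => E (rv j)) (fun i => E (rz i)) = QE E s0 := by
  apply le_antisymm
  · rw [Qs, closure_le]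
    rintro g ((⟨a, rfl⟩ | ⟨j, a, rfl⟩) | ⟨i, a, rfl⟩)
    · exact mem_QE s0_mem p_s0 a
    · exact mem_QE (rv_mem j) (p_rv j).1 a
    · exact mem_QE (rz_mem i) (p_rz i).1 a
  · rw [QE, closure_le]
    rintro g ⟨a, ha, h, u, rfl⟩
    rcases k_Q a ha h with rfl | ⟨j, rfl⟩ | ⟨i, rfl⟩
    · exact V_le_Q (X_le_V (subset_closure ⟨u, rfl⟩))
    · exact V_le_Q (v_mem (x0 := E s0) (v := fun j => E (rv j)) j u)
    · exact z_mem (x0 := E s0) (v := fun j => E (rv j)) (z := fun i => E (rz i)) i u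

theorem T_eq (C : Chart E T) : Pt (E s0) (fun j => E (rv j)) (fun i => E (rz i)) (fun j k => E (rl j k))
    (T.comp consH) = PT E T s0 := by
  apply le_antisymm
  · rw [Pt, closure_le]
    rintro g ((⟨a, rfl⟩ | ⟨j, a, rfl⟩) | ⟨i, a, rfl⟩ | ⟨j, k, a, h, rfl⟩ | ⟨ν, rfl⟩)
    · exact subset_closure (Or.inl ⟨s0, s0_mem, Or.inr ⟨n_s0, p_s0⟩, a, rfl⟩)
    · exact subset_closure (Or.inl ⟨rv j, rv_mem j, Or.inl ⟨(p_rv j).2, (p_rv j).1.le⟩, a, rfl⟩)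
    · exact subset_closure (Or.inl ⟨rz i, rz_mem i, Or.inr ⟨(p_rz i).2, (p_rz i).1⟩, a, rfl⟩)
    · exact subset_closure (Or.inl ⟨rl j k, rl_mem j k h, Or.inl ⟨(p_rl j k h).2, (p_rl j k h).1.ge⟩, a, rfl⟩)
    · exact subset_closure (Or.inr ⟨consH ν, chd_consH_s0 ν, rfl⟩)
  · rw [PT, closure_le]
    rintro g (⟨a, ha, h, u, rfl⟩ | ⟨ν, h, rfl⟩)
    · rcases k_T a ha h with rfl | ⟨j, rfl⟩ | ⟨i, rfl⟩ | ⟨j, k, hjk, rfl⟩
      · exact subset_closure (Or.inl (Or.inl ⟨u, rfl⟩))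
      · exact subset_closure (Or.inl (Or.inr ⟨j, u, rfl⟩))
      · exact subset_closure (Or.inr (Or.inl ⟨i, u, rfl⟩))
      · exact subset_closure (Or.inr (Or.inr (Or.inl ⟨j, k, u, hjk, rfl⟩)))
    · rw [consH_of_chd C.two h]
      exact subset_closure (Or.inr (Or.inr (Or.inr ⟨_, rfl⟩)))

theorem P_eq (C : KC E T) : Ps (E s0) (fun j => E (rv j)) (fun i => E (rz i)) (fun j => E (rc j))
    (fun j k => E (rl j k)) (T.comp consH) = PE E s0 := by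
  apply le_antisymm
  · rw [Ps, closure_le]
    rintro g ((⟨a, rfl⟩ | ⟨j, a, rfl⟩) | ⟨i, a, rfl⟩ | ⟨j, a, rfl⟩ | ⟨j, k, a, h, rfl⟩ | ⟨ν, rfl⟩)
    · exact mem_PE s0_mem p_s0.le a
    · exact mem_PE (rv_mem j) (p_rv j).1.le a
    · exact mem_PE (rz_mem i) (p_rz i).1.le a
    · exact mem_PE (rc_mem j) (p_rc j).1.ge a
    · exact mem_PE (rl_mem j k h) (p_rl j k h).1.ge a
    · exact C.cX s0 s0_mem n_s0 1 one_ne_zero _ (C.chart.tor_comm s0_mem (chd_consH_s0 ν) 1)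
  · rw [PE, closure_le]
    rintro g ⟨a, ha, h, u, rfl⟩
    rcases k_P a ha h with rfl | ⟨j, rfl⟩ | ⟨i, rfl⟩ | ⟨j, rfl⟩ | ⟨j, k, hjk, rfl⟩
    · exact subset_closure (Or.inl (Or.inl ⟨u, rfl⟩))
    · exact subset_closure (Or.inl (Or.inr ⟨j, u, rfl⟩))
    · exact subset_closure (Or.inr (Or.inl ⟨i, u, rfl⟩))
    · exact subset_closure (Or.inr (Or.inr (Or.inl ⟨j, u, rfl⟩)))
    · exact subset_closure (Or.inr (Or.inr (Or.inr (Or.inl ⟨j, k, u, hjk, rfl⟩))))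

theorem map_PE (f : Y →* G) (s : Fin 4 → ℤ) : PE (fun a u => f (E a u)) s = (PE E s).map f := by
  rw [PE, PE, MonoidHom.map_closure]
  congr 1
  ext g
  constructor
  · rintro ⟨a, ha, h, u, rfl⟩; exact ⟨_, ⟨a, ha, h, u, rfl⟩, rfl⟩
  · rintro ⟨_, ⟨a, ha, h, u, rfl⟩, rfl⟩; exact ⟨a, ha, h, u, rfl⟩

theorem map_QE (f : Y →* G) (s : Fin 4 → ℤ) : QE (fun a u => f (E a u)) s = (QE E s).map f := by
  rw [QE, QE, MonoidHom.map_closure]
  congr 1
  ext g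
  constructor
  · rintro ⟨a, ha, h, u, rfl⟩; exact ⟨_, ⟨a, ha, h, u, rfl⟩, rfl⟩
  · rintro ⟨_, ⟨a, ha, h, u, rfl⟩, rfl⟩; exact ⟨a, ha, h, u, rfl⟩

theorem map_PT (f : Y →* G) (s : Fin 4 → ℤ) : PT (fun a u => f (E a u)) (f.comp T) s = (PT E T s).map f := by
  rw [PT, PT, MonoidHom.map_closure]
  congr 1
  ext g
  constructor
  · rintro (⟨a, ha, h, u, rfl⟩ | ⟨ν, h, rfl⟩)
    · exact ⟨_, Or.inl ⟨a, ha, h, u, rfl⟩, rfl⟩
    · exact ⟨_, Or.inr ⟨ν, h, rfl⟩, rfl⟩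
  · rintro ⟨_, (⟨a, ha, h, u, rfl⟩ | ⟨ν, h, rfl⟩), rfl⟩
    · exact Or.inl ⟨a, ha, h, u, rfl⟩
    · exact Or.inr ⟨ν, h, rfl⟩

theorem map_P (f : Y →* G) {x0 : F → Y} {v : J → F → Y} {z : Sp → F → Y} {c : J → F → Y} {l : J → J → F → Y}
    {th : (Fin 3 → Fˣ) →* Y} : Ps (fun a => f (x0 a)) (fun j a => f (v j a)) (fun i a => f (z i a))
      (fun j a => f (c j a)) (fun j k a => f (l j k a)) (f.comp th) = (Ps x0 v z c l th).map f := by
  rw [Ps, Ps, MonoidHom.map_closure]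
  congr 1
  ext g
  constructor
  · rintro ((⟨a, rfl⟩ | ⟨j, a, rfl⟩) | ⟨i, a, rfl⟩ | ⟨j, a, rfl⟩ | ⟨j, k, a, h, rfl⟩ | ⟨ν, rfl⟩)
    · exact ⟨_, Or.inl (Or.inl ⟨a, rfl⟩), rfl⟩
    · exact ⟨_, Or.inl (Or.inr ⟨j, a, rfl⟩), rfl⟩
    · exact ⟨_, Or.inr (Or.inl ⟨i, a, rfl⟩), rfl⟩
    · exact ⟨_, Or.inr (Or.inr (Or.inl ⟨j, a, rfl⟩)), rfl⟩
    · exact ⟨_, Or.inr (Or.inr (Or.inr (Or.inl ⟨j, k, a, h, rfl⟩))), rfl⟩
    · exact ⟨_, Or.inr (Or.inr (Or.inr (Or.inr ⟨ν, rfl⟩))), rfl⟩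
  · rintro ⟨_, ((⟨a, rfl⟩ | ⟨j, a, rfl⟩) | ⟨i, a, rfl⟩ | ⟨j, a, rfl⟩ | ⟨j, k, a, h, rfl⟩ | ⟨ν, rfl⟩), rfl⟩
    · exact Or.inl (Or.inl ⟨a, rfl⟩)
    · exact Or.inl (Or.inr ⟨j, a, rfl⟩)
    · exact Or.inr (Or.inl ⟨i, a, rfl⟩)
    · exact Or.inr (Or.inr (Or.inl ⟨j, a, rfl⟩))
    · exact Or.inr (Or.inr (Or.inr (Or.inl ⟨j, k, a, h, rfl⟩)))
    · exact Or.inr (Or.inr (Or.inr (Or.inr ⟨ν, rfl⟩)))

/-- conjugation on a finite subgroup -/
theorem conj_inv {S : Subgroup G} [Finite S] {n : G} (h : ∀ x ∈ S, n * x * n⁻¹ ∈ S) : ∀ x ∈ S, n⁻¹ * x * n ∈ S := by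
  have h1 : Function.Injective (fun x : S => (⟨n * x.1 * n⁻¹, h x.1 x.2⟩ : S)) := by
    intro x y hxy
    have := congrArg Subtype.val hxy
    exact Subtype.ext (mul_left_cancel (mul_right_cancel this))
  intro x hx
  obtain ⟨y, hy⟩ := (Finite.injective_iff_surjective.1 h1) ⟨x, hx⟩
  have h2 : n * y.1 * n⁻¹ = x := congrArg Subtype.val hy
  have h3 : n⁻¹ * x * n = y.1 := by rw [← h2]; group
  rw [h3]; exact y.2

/-- `Q` is a `2`-group. -/
theorem isPGroup_Q (C : Chart E T) : IsPGroup 2 (QE E s0) := by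
  rintro ⟨q, hq⟩
  refine ⟨2, Subtype.ext ?_⟩
  rw [← Q_eq] at hq
  have h1 := C.loc.Q2 hq
  have h2 := C.loc.V2 h1
  show q ^ 4 = 1
  rw [← h2, ← pow_two, ← pow_two, ← pow_mul]

end Gen

section Main

universe u

variable {F : Type u} [Field F] [Finite F] {G : Type*} [Group G] {E : (Fin 4 → ℤ) → F → ↥(chevF4.group F)}
  {T : (Fin 4 → Fˣ) →* ↥(chevF4.group F)} {t : G} {f : ↥(chevF4.group F) →* G}

/-- an element normalising `X` and `t X` normalises `P` -/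
theorem norm_P (C : KC E T) (R : Frame t f) {n : G} (h2 : ∀ u, ∃ u', n⁻¹ * f (E s0 u) * n = f (E s0 u')) (h3 : ∃ u, t * (n * t * n⁻¹) = f (E s0 u)) :
    ∀ x ∈ PE E s0, ∃ x' ∈ PE E s0, n * f x * n⁻¹ = f x' := by
  refine R.res (P := PE E s0) (Q := Set.range (E s0)) (C.perf s0 s0_mem n_s0) (fun x => ⟨fun hx => ?_, fun hx => ?_⟩) ?_
  · rintro _ ⟨u, rfl⟩
    have hle : PE E s0 ≤ centralizer {E s0 u} := by
      rw [PE, closure_le]
      rintro g ⟨a, ha, h, v, rfl⟩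
      rw [SetLike.mem_coe, mem_centralizer_singleton_iff]
      exact C.chart.c0 a ha s0 s0_mem h v u
    exact mem_centralizer_singleton_iff.1 (hle hx)
  · exact C.cX s0 s0_mem n_s0 1 one_ne_zero x (hx _ ⟨1, rfl⟩)
  · intro c hct hc
    have hX : ∀ u, n * c * n⁻¹ * f (E s0 u) = f (E s0 u) * (n * c * n⁻¹) := by
      intro u
      obtain ⟨u', hu'⟩ := h2 u
      have h4 := hc _ ⟨u', rfl⟩
      rw [← hu'] at h4
      calc n * c * n⁻¹ * f (E s0 u) = n * (c * (n⁻¹ * f (E s0 u) * n)) * n⁻¹ := by group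
        _ = n * ((n⁻¹ * f (E s0 u) * n) * c) * n⁻¹ := by rw [h4]
        _ = _ := by group
    refine ⟨?_, ?_⟩
    · obtain ⟨u, hu⟩ := h3
      have h5 : n * t * n⁻¹ = t * f (E s0 u) := by
        rw [← hu, ← mul_assoc, ← mul_assoc, ← mul_assoc, R.tt, one_mul]
      have h6 : t = n * t * n⁻¹ * (f (E s0 u))⁻¹ := by rw [h5]; group
      have h7 := hX u
      have h8 : n * c * n⁻¹ * (f (E s0 u))⁻¹ = (f (E s0 u))⁻¹ * (n * c * n⁻¹) := by
        rw [eq_inv_mul_iff_mul_eq, ← mul_assoc, ← h7, mul_inv_cancel_right]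
      calc n * c * n⁻¹ * t = n * c * n⁻¹ * (n * t * n⁻¹ * (f (E s0 u))⁻¹) := by rw [← h6]
        _ = n * (c * t) * n⁻¹ * (f (E s0 u))⁻¹ := by group
        _ = n * (t * c) * n⁻¹ * (f (E s0 u))⁻¹ := by rw [hct]
        _ = n * t * n⁻¹ * (n * c * n⁻¹ * (f (E s0 u))⁻¹) := by group
        _ = n * t * n⁻¹ * (f (E s0 u))⁻¹ * (n * c * n⁻¹) := by rw [h8]; group
        _ = t * (n * c * n⁻¹) := by rw [← h6]
    · rintro _ ⟨u, rfl⟩
      exact hX u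

/-- **`GData` at `s0`.** -/
theorem gdata (C : KC E T) (R : Frame t f) : GData t (f.comp (T.comp oneH)) (fun u => f (E s0 u))
    (fun j u => f (E (rv j) u)) (fun i u => f (E (rz i) u)) (fun j u => f (E (rc j) u))
    (fun j k u => f (E (rl j k) u)) (f.comp (T.comp consH)) := by
  have L := C.chart.loc
  have C' := C.chart.map f R.inj
  have L' := C'.loc
  have hP : Ps (fun u => f (E s0 u)) (fun j u => f (E (rv j) u)) (fun i u => f (E (rz i) u))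
      (fun j u => f (E (rc j) u)) (fun j k u => f (E (rl j k) u)) (f.comp (T.comp consH)) = (PE E s0).map f := by
    rw [map_P, P_eq C]
  have hQ : Qs (fun u => f (E s0 u)) (fun j u => f (E (rv j) u)) (fun i u => f (E (rz i) u)) = (QE E s0).map f := by
    rw [← map_QE, ← Q_eq]
  have hT : Pt (fun u => f (E s0 u)) (fun j u => f (E (rv j) u)) (fun i u => f (E (rz i) u))
      (fun j k u => f (E (rl j k) u)) (f.comp (T.comp consH)) = (PT E T s0).map f := by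
    rw [← map_PT, ← T_eq C']
    rfl
  have hsE : ∀ (μ : Fˣ) (a : Fin 4 → ℤ), a ∈ rts → ∀ u, (f.comp (T.comp oneH)) μ * f (E a u) *
      ((f.comp (T.comp oneH)) μ)⁻¹ = f (E a (((μ ^ dd a 0 : Fˣ) : F) * u)) := by
    intro μ a ha u
    rw [← chd_oneH, ← C.chart.tor a ha, map_mul, map_mul, map_inv]
    rfl
  refine ⟨R.tt, ?_, ?_, ?_, ?_, ?_, ?_, ?_, ?_, ?_, ?_, ?_⟩
  · intro a h
    exact R.not_mem_range C.cen _ h.symm
  · intro p hp
    rw [hP] at hp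
    obtain ⟨y, -, rfl⟩ := hp
    exact (R.ft y).symm
  · intro μ
    exact (R.ft _).symm
  · intro μ a
    rw [hsE μ s0 s0_mem, d_s0]
    show f (E s0 (((μ ^ (2 : ℤ) : Fˣ) : F) * a)) = _
    norm_cast
  · intro μ j a
    rw [hsE μ (rv j) (rv_mem j), e_rv]
    norm_cast
  · intro μ i a
    rw [hsE μ (rz i) (rz_mem i), e_rz, zpow_one]
  · intro μ j a
    have h := hsE μ (rc j) (rc_mem j) a
    rw [e_rc, zpow_zero, Units.val_one, one_mul] at h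
    exact (mul_inv_eq_iff_eq_mul.1 h)
  · intro μ j k a hjk
    have h := hsE μ (rl j k) (rl_mem j k hjk) a
    rw [e_rl, zpow_zero, Units.val_one, one_mul] at h
    exact (mul_inv_eq_iff_eq_mul.1 h)
  · intro μ ν
    show f (T (oneH μ)) * f (T (consH ν)) = f (T (consH ν)) * f (T (oneH μ))
    rw [← map_mul, ← map_mul, ← map_mul, ← map_mul, mul_comm]
  · intro n hn1 hn3
    haveI : Finite (Xs (fun u => f (E s0 u))) := by
      refine Set.Finite.subset (Set.finite_range fun u => f (E s0 u)) ?_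
      intro g hg
      obtain ⟨a, rfl⟩ := L'.mem_X.1 hg
      exact ⟨a, rfl⟩
    have hn2 := conj_inv hn1
    have e2 : ∀ u, ∃ u', n⁻¹ * f (E s0 u) * n = f (E s0 u') := fun u => L'.mem_X.1 (hn2 _ (L'.x0_mem u))
    have e3 : ∃ u, t * (n * t * n⁻¹) = f (E s0 u) := L'.mem_X.1 hn3
    have hPn := norm_P C R e2 e3
    have hPn' : ∀ p ∈ (PE E s0).map f, n * p * n⁻¹ ∈ (PE E s0).map f := by
      rintro _ ⟨x, hx, rfl⟩
      obtain ⟨x', hx', h⟩ := hPn x hx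
      rw [h]
      exact ⟨x', hx', rfl⟩
    have fin : ∀ S : Subgroup ↥(chevF4.group F), Finite ↥(S.map f) := fun S =>
      Set.Finite.to_subtype ((Set.toFinite (S : Set ↥(chevF4.group F))).image f)
    haveI := fin (PE E s0)
    haveI := fin (QE E s0)
    have hPi := conj_inv hPn'
    have hQn : ∀ q ∈ (QE E s0).map f, n * q * n⁻¹ ∈ (QE E s0).map f := by
      set Rn : Subgroup ↥(chevF4.group F) := (((QE E s0).map f).map (MulAut.conj n).toMonoidHom).comap f with hRn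
      have h2 : IsPGroup 2 Rn := by
        refine IsPGroup.comap_of_injective ?_ f R.inj
        exact ((isPGroup_Q C.chart).map f).map _
      have hle : Rn ≤ QE E s0 := by
        refine C.core s0 s0_mem n_s0 Rn h2 ?_
        rintro p hp r ⟨_, ⟨y, hy, rfl⟩, hyr⟩
        have hyr' : n * f y * n⁻¹ = f r := hyr
        obtain ⟨p', hp', hpp⟩ := hPi (f p) ⟨p, hp, rfl⟩
        refine ⟨_, ⟨p' * y * p'⁻¹, ?_, rfl⟩, ?_⟩
        · show p' * y * p'⁻¹ ∈ QE E s0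
          have h3 : y ∈ QE E s0 := hy
          rw [← Q_eq] at h3 ⊢
          have h4 : p' ∈ PE E s0 := hp'
          rw [← P_eq C] at h4
          exact L.PQ h4 h3
        · show n * f (p' * y * p'⁻¹) * n⁻¹ = f (p * r * p⁻¹)
          rw [map_mul, map_mul, map_inv, map_mul, map_mul, map_inv, hpp, ← hyr']
          group
      rintro _ ⟨y, hy, rfl⟩
      have hy' : y ∈ PE E s0 := by
        have h3 : y ∈ QE E s0 := hy
        rw [← Q_eq] at h3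
        rw [← P_eq C]
        exact Q_le_P h3
      obtain ⟨y', -, h⟩ := hPn y hy'
      rw [h]
      exact ⟨y', hle ⟨_, ⟨y, hy, rfl⟩, h⟩, rfl⟩
    have hQi := conj_inv hQn
    refine ⟨?_, ?_, ?_⟩
    · rw [hP]; exact hPn'
    · rw [hQ]; exact hQn
    · intro y hy
      have h1 : y ∈ Qs (fun u => f (E s0 u)) (fun j u => f (E (rv j) u)) (fun i u => f (E (rz i) u)) := V_le_Q hy
      refine L'.ZQ ?_ ?_
      · rw [hQ] at h1 ⊢
        exact hQn y h1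
      · intro q hq
        have h2 : n⁻¹ * q * n ∈ Qs (fun u => f (E s0 u)) (fun j u => f (E (rv j) u)) (fun i u => f (E (rz i) u)) := by
          rw [hQ] at hq ⊢
          exact hQi q hq
        have h3 := L'.VQ hy h2
        calc n * y * n⁻¹ * q = n * (y * (n⁻¹ * q * n)) * n⁻¹ := by group
          _ = n * ((n⁻¹ * q * n) * y) * n⁻¹ := by rw [h3]
          _ = _ := by group
  · intro g hgt hg
    rw [hT] at hg
    obtain ⟨α, hα⟩ := R.exists_aut hgt.symm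
    have hX : ∀ a ∈ rts, Cs s0 a → ∀ u, g * f (E a u) = f (E a u) * g := fun a ha h u =>
      hg _ ⟨_, subset_closure (Or.inl ⟨a, ha, h, u, rfl⟩), rfl⟩
    obtain ⟨x, rfl⟩ := C.inn s0 s0_mem n_s0 α fun u => by
      apply R.inj
      rw [← hα, hX s0 s0_mem (Or.inr ⟨n_s0, p_s0⟩), mul_inv_cancel_right]
    have h1 := R.mem_of_conj hgt.symm (x := x) hα
    have h2 : ∀ a ∈ rts, Cs s0 a → ∀ u, x * E a u = E a u * x := by
      intro a ha h u
      apply R.inj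
      rw [map_mul, map_mul]
      rcases h1 with h1 | h1
      · rw [← h1]; exact hX a ha h u
      · have h3 := hX a ha h u
        rw [h1, mul_assoc, ← mul_assoc (f (E a u)), R.ft, mul_assoc t] at h3
        exact mul_left_cancel h3
    obtain ⟨u, rfl⟩ := C.cent s0 s0_mem n_s0 x h2
    rcases h1 with h1 | h1
    · left
      rw [h1]
      exact L'.x0_mem u
    · right
      rw [h1, ← mul_assoc, R.tt, one_mul]
      exact L'.x0_mem u

end Main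

end Cfsg.Agent.OddHalf.D7F4Ex
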