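import Mathlib

/-!
# The parabolic `P_s = Q_s L_s`, `L_s = Sp₆(q)`, of `F₄(q)`, `q ≥ 4` even, in coordinates

One structure for both root lengths (`s` short or long; for the other length the coordinates are twisted by `√`):
* `x0` : the root group `X_s`;
* `v j` : the root groups of the other length at 45 degrees to `s`, `j = (k, ±)`;
* `z i` : the root groups of the same length at 60 degrees, `i : Fin 3 → Bool`;
* `c j` : the root groups of the same length orthogonal to `s`;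
* `l a b` : the root groups of the other length orthogonal to `s`;
* `th ν` : the torus of `L_s`.
-/

set_option autoImplicit false
set_option linter.unusedSectionVars false

namespace Cfsg.Agent.OddHalf.D7F4Ex

open Subgroup

/-- `±` three indices -/
abbrev J := Fin 3 × Bool

/-- the weights of the spin module -/
abbrev Sp := Fin 3 → Bool

/-- the negative -/
def ng (a : J) : J := (a.1, !a.2)

/-- flip one sign -/
def fl (i : Sp) (k : Fin 3) : Sp := fun m => if m = k then !i m else i m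

/-- the negative of a spin weight -/
def op (i : Sp) : Sp := fun m => !i m

theorem ng_ng (a : J) : ng (ng a) = a := by simp [ng]

theorem ng_ne (a : J) : ng a ≠ a := by
  rcases a with ⟨a, b⟩; cases b <;> simp [ng]

theorem op_op (i : Sp) : op (op i) = i := by funext m; simp [op]

theorem fl_fl (i : Sp) (k : Fin 3) : fl (fl i k) k = i := by
  funext m; by_cases h : m = k <;> simp [fl, h]

theorem fl_self (i : Sp) (k : Fin 3) : fl i k k = !i k := by simp [fl]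

theorem fl_ne (i : Sp) {k m : Fin 3} (h : m ≠ k) : fl i k m = i m := by simp [fl, h]

/-- the third index -/
def thd (a b : Fin 3) : Fin 3 := 0 - a - b

variable {F : Type*} [Field F]

/-- the weight of `j` -/
def wt (ν : Fin 3 → Fˣ) (j : J) : Fˣ := if j.2 then (ν j.1) ^ 2 else ((ν j.1)⁻¹) ^ 2

/-- the spin weight of `i` -/
def ws (ν : Fin 3 → Fˣ) (i : Sp) : Fˣ := ∏ k, if i k then ν k else (ν k)⁻¹

variable {G : Type*} [Group G]

/-- The relations. -/
structure Loc (x0 : F → G) (v : J → F → G) (z : Sp → F → G) (c : J → F → G) (l : J → J → F → G)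
    (th : (Fin 3 → Fˣ) →* G) : Prop where
  two : ∀ a : F, a + a = 0
  big : ∃ μ : Fˣ, μ ≠ 1
  x0_add : ∀ a b, x0 (a + b) = x0 a * x0 b
  v_add : ∀ j a b, v j (a + b) = v j a * v j b
  z_add : ∀ i a b, z i (a + b) = z i a * z i b
  c_add : ∀ j a b, c j (a + b) = c j a * c j b
  l_add : ∀ j k a b, j.1 ≠ k.1 → l j k (a + b) = l j k a * l j k b
  l_symm : ∀ j k a, l j k a = l k j a
  x0_inj : ∀ a, x0 a = 1 → a = 0
  xv : ∀ a j b, x0 a = v j b → b = 0
  x0_v : ∀ a j b, x0 a * v j b = v j b * x0 a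
  x0_z : ∀ a j b, x0 a * z j b = z j b * x0 a
  x0_c : ∀ a j b, x0 a * c j b = c j b * x0 a
  x0_l : ∀ a j k b, j.1 ≠ k.1 → x0 a * l j k b = l j k b * x0 a
  v_v : ∀ j a k b, v j a * v k b = v k b * v j a
  v_z : ∀ j a i b, v j a * z i b = z i b * v j a
  z_z : ∀ i a j b, j ≠ op i → z i a * z j b = z j b * z i a
  z_op : ∀ i a b, z i a * z (op i) b * (z i a)⁻¹ = x0 (a * b) * z (op i) b
  c_v : ∀ k a b, c k a * v (ng k) b * (c k a)⁻¹ = x0 (a * b) * v k (a ^ 2 * b) * v (ng k) b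
  c_v' : ∀ k a j b, j ≠ ng k → c k a * v j b = v j b * c k a
  c_z : ∀ k a i b, i k.1 ≠ k.2 → c k a * z i b * (c k a)⁻¹ = z (fl i k.1) (a * b) * z i b
  c_z' : ∀ k a i b, i k.1 = k.2 → c k a * z i b = z i b * c k a
  l_v : ∀ a b s u, a.1 ≠ b.1 → l a b s * v (ng a) u * (l a b s)⁻¹ = v b (s * u) * v (ng a) u
  l_v' : ∀ a b s j u, a.1 ≠ b.1 → j ≠ ng a → j ≠ ng b → l a b s * v j u = v j u * l a b s
  l_z : ∀ a b s i u, a.1 ≠ b.1 → i a.1 ≠ a.2 → i b.1 ≠ b.2 → l a b s * z i u * (l a b s)⁻¹ =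
    z (fl (fl i a.1) b.1) (s * u) * v (thd a.1 b.1, i (thd a.1 b.1)) (s * u ^ 2) * z i u
  l_z' : ∀ a b s i u, a.1 ≠ b.1 → (i a.1 = a.2 ∨ i b.1 = b.2) → l a b s * z i u = z i u * l a b s
  l_c : ∀ a b s u, a.1 ≠ b.1 → l a b s * c (ng a) u * (l a b s)⁻¹ =
    c b (s * u) * l b (ng a) (s * u ^ 2) * c (ng a) u
  th_x0 : ∀ ν a, th ν * x0 a = x0 a * th ν
  th_v : ∀ ν j a, th ν * v j a * (th ν)⁻¹ = v j ((wt ν j : F) * a)
  th_z : ∀ ν i a, th ν * z i a * (th ν)⁻¹ = z i ((ws ν i : F) * a)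
  th_c : ∀ ν j a, th ν * c j a * (th ν)⁻¹ = c j ((wt ν j : F) * a)
  th_l : ∀ ν j k a, j.1 ≠ k.1 → th ν * l j k a * (th ν)⁻¹ = l j k ((wt ν j : F) * (wt ν k : F) * a)

namespace Loc

variable {x0 : F → G} {v : J → F → G} {z : Sp → F → G} {c : J → F → G} {l : J → J → F → G}
  {th : (Fin 3 → Fˣ) →* G}

/-- an additive map has value `1` at `0` -/
theorem zero_of_add {e : F → G} (h : ∀ a b, e (a + b) = e a * e b) : e 0 = 1 := by
  have h1 := h 0 0
  rw [add_zero] at h1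
  exact (mul_eq_left.1 h1.symm)

theorem self_of_add {e : F → G} (h2 : ∀ a : F, a + a = 0) (h : ∀ a b, e (a + b) = e a * e b) (a : F) :
    e a * e a = 1 := by rw [← h, h2, zero_of_add h]

theorem inv_of_add {e : F → G} (h2 : ∀ a : F, a + a = 0) (h : ∀ a b, e (a + b) = e a * e b) (a : F) :
    (e a)⁻¹ = e a := inv_eq_of_mul_eq_one_left (self_of_add h2 h a)

/-- the generators of `V` -/
def gV (x0 : F → G) (v : J → F → G) : Set G := {g | (∃ a, g = x0 a) ∨ ∃ j a, g = v j a}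

/-- `X = X_s` -/
def Xs (x0 : F → G) : Subgroup G := closure (Set.range x0)

/-- `V = Z(Q)` -/
def Vs (x0 : F → G) (v : J → F → G) : Subgroup G := closure (gV x0 v)

/-- `Q = O_2(P)` -/
def Qs (x0 : F → G) (v : J → F → G) (z : Sp → F → G) : Subgroup G :=
  closure {g | g ∈ gV x0 v ∨ ∃ i a, g = z i a}

/-- `P` -/
def Ps (x0 : F → G) (v : J → F → G) (z : Sp → F → G) (c : J → F → G) (l : J → J → F → G)
    (th : (Fin 3 → Fˣ) →* G) : Subgroup G :=
  closure {g | g ∈ gV x0 v ∨ (∃ i a, g = z i a) ∨ (∃ j a, g = c j a) ∨ (∃ j k a, j.1 ≠ k.1 ∧ g = l j k a) ∨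
    ∃ ν, g = th ν}

section basic

variable (L : Loc x0 v z c l th)

include L

theorem mem_X {g : G} : g ∈ Xs x0 ↔ ∃ a, g = x0 a := by
  constructor
  · intro h
    induction h using closure_induction with
    | mem x hx => obtain ⟨a, rfl⟩ := hx; exact ⟨a, rfl⟩
    | one => exact ⟨0, (zero_of_add L.x0_add).symm⟩
    | mul x y _ _ hx hy =>
      obtain ⟨a, rfl⟩ := hx
      obtain ⟨b, rfl⟩ := hy
      exact ⟨a + b, (L.x0_add a b).symm⟩
    | inv x _ hx =>
      obtain ⟨a, rfl⟩ := hx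
      exact ⟨a, inv_of_add L.two L.x0_add a⟩
  · rintro ⟨a, rfl⟩
    exact subset_closure ⟨a, rfl⟩

theorem x0_mem (a : F) : x0 a ∈ Xs x0 := subset_closure ⟨a, rfl⟩

omit L in
theorem X_le_V : Xs x0 ≤ Vs x0 v := by
  rw [Xs, closure_le]
  rintro _ ⟨a, rfl⟩
  exact subset_closure (Or.inl ⟨a, rfl⟩)

omit L in
theorem V_le_Q : Vs x0 v ≤ Qs x0 v z := closure_mono fun _ h => Or.inl h

omit L in
theorem Q_le_P : Qs x0 v z ≤ Ps x0 v z c l th :=
  closure_mono fun _ h => h.elim (fun h => Or.inl h) fun h => Or.inr (Or.inl h)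

omit L in
theorem v_mem (j : J) (a : F) : v j a ∈ Vs x0 v := subset_closure (Or.inr ⟨j, a, rfl⟩)

omit L in
theorem z_mem (i : Sp) (a : F) : z i a ∈ Qs x0 v z := subset_closure (Or.inr ⟨i, a, rfl⟩)

omit L in
theorem c_mem (j : J) (a : F) : c j a ∈ Ps x0 v z c l th := subset_closure (Or.inr (Or.inr (Or.inl ⟨j, a, rfl⟩)))

omit L in
theorem l_mem {j k : J} (h : j.1 ≠ k.1) (a : F) : l j k a ∈ Ps x0 v z c l th :=
  subset_closure (Or.inr (Or.inr (Or.inr (Or.inl ⟨j, k, a, h, rfl⟩))))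

omit L in
theorem th_mem (ν : Fin 3 → Fˣ) : th ν ∈ Ps x0 v z c l th :=
  subset_closure (Or.inr (Or.inr (Or.inr (Or.inr ⟨ν, rfl⟩))))

/-- `X` is central in `P`. -/
theorem XP {x p : G} (hx : x ∈ Xs x0) (hp : p ∈ Ps x0 v z c l th) : x * p = p * x := by
  obtain ⟨a, rfl⟩ := L.mem_X.1 hx
  have hle : Ps x0 v z c l th ≤ centralizer {x0 a} := by
    rw [Ps, closure_le]
    rintro g hg
    rw [SetLike.mem_coe, mem_centralizer_singleton_iff]
    rcases hg with (⟨b, rfl⟩ | ⟨j, b, rfl⟩) | ⟨i, b, rfl⟩ | ⟨j, b, rfl⟩ | ⟨j, k, b, h, rfl⟩ | ⟨ν, rfl⟩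
    · rw [← L.x0_add, ← L.x0_add, add_comm]
    · rw [L.x0_v]
    · rw [L.x0_z]
    · rw [L.x0_c]
    · rw [L.x0_l _ _ _ _ h]
    · rw [L.th_x0]
  exact (mem_centralizer_singleton_iff.1 (hle hp)).symm

/-- `V` is central in `Q`. -/
theorem VQ {y q : G} (hy : y ∈ Vs x0 v) (hq : q ∈ Qs x0 v z) : y * q = q * y := by
  have key : ∀ g ∈ gV x0 v, Qs x0 v z ≤ centralizer {g} := by
    intro g hg
    rw [Qs, closure_le]
    intro r hr
    rw [SetLike.mem_coe, mem_centralizer_singleton_iff]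
    rcases hg with ⟨a, rfl⟩ | ⟨j, a, rfl⟩
    · rcases hr with (⟨b, rfl⟩ | ⟨k, b, rfl⟩) | ⟨i, b, rfl⟩
      · rw [← L.x0_add, ← L.x0_add, add_comm]
      · rw [L.x0_v]
      · rw [L.x0_z]
    · rcases hr with (⟨b, rfl⟩ | ⟨k, b, rfl⟩) | ⟨i, b, rfl⟩
      · rw [L.x0_v]
      · rw [L.v_v]
      · rw [L.v_z]
  have hle : Vs x0 v ≤ centralizer {q} := by
    rw [Vs, closure_le]
    intro g hg
    rw [SetLike.mem_coe, mem_centralizer_singleton_iff]
    exact (mem_centralizer_singleton_iff.1 (key g hg hq)).symm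
  exact mem_centralizer_singleton_iff.1 (hle hy)

theorem VV {y q : G} (hy : y ∈ Vs x0 v) (hq : q ∈ Vs x0 v) : y * q = q * y := L.VQ (z := z) hy (V_le_Q hq)

theorem V2 {y : G} (hy : y ∈ Vs x0 v) : y * y = 1 := by
  induction hy using closure_induction with
  | mem x hx =>
    rcases hx with ⟨a, rfl⟩ | ⟨j, a, rfl⟩
    · exact self_of_add L.two L.x0_add a
    · exact self_of_add L.two (L.v_add j) a
  | one => rw [mul_one]
  | mul x y hx hy ih1 ih2 =>
    have h1 := L.VV hx hy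
    calc x * y * (x * y) = x * (y * x) * y := by group
      _ = (x * x) * (y * y) := by rw [← h1]; group
      _ = 1 := by rw [ih1, ih2, one_mul]
  | inv x _ ih => rw [← mul_inv_rev, ih, inv_one]

/-- commutators of elements of `Q` lie in `X` -/
theorem z_conj (i : Sp) (a : F) (j : Sp) (b : F) :
    z i a * z j b * (z i a)⁻¹ = x0 (if j = op i then a * b else 0) * z j b := by
  split_ifs with h
  · rw [h, L.z_op]
  · rw [zero_of_add L.x0_add, one_mul, L.z_z i a j b h, mul_inv_cancel_right]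

/-- the homomorphism `q ↦ [q, z i b]` -/
theorem exists_beta {q : G} (hq : q ∈ Qs x0 v z) :
    ∃ a : Sp → F, ∀ i b, q * z i b * q⁻¹ = x0 (a (op i) * b) * z i b := by
  induction hq using closure_induction with
  | mem x hx =>
    rcases hx with (⟨a, rfl⟩ | ⟨j, a, rfl⟩) | ⟨j, a, rfl⟩
    · exact ⟨0, fun i b => by
        rw [Pi.zero_apply, zero_mul, zero_of_add L.x0_add, one_mul, L.x0_z, mul_inv_cancel_right]⟩
    · exact ⟨0, fun i b => by
        rw [Pi.zero_apply, zero_mul, zero_of_add L.x0_add, one_mul, L.v_z, mul_inv_cancel_right]⟩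
    · refine ⟨Pi.single j a, fun i b => ?_⟩
      rw [L.z_conj]
      by_cases h : i = op j
      · rw [if_pos h, h, op_op, Pi.single_eq_same]
      · rw [if_neg h, Pi.single_eq_of_ne, zero_mul]
        intro h2; apply h; rw [← h2, op_op]
  | one => exact ⟨0, fun i b => by
      rw [Pi.zero_apply, zero_mul, zero_of_add L.x0_add, one_mul, inv_one, mul_one]⟩
  | mul x y hx hy ih1 ih2 =>
    obtain ⟨a, ha⟩ := ih1
    obtain ⟨a', ha'⟩ := ih2
    refine ⟨a + a', fun i b => ?_⟩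
    have h1 := L.XP (c := c) (l := l) (th := th) (L.x0_mem (a' (op i) * b)) (Q_le_P hx)
    calc x * y * z i b * (x * y)⁻¹ = x * (y * z i b * y⁻¹) * x⁻¹ := by group
      _ = (x * x0 (a' (op i) * b)) * z i b * x⁻¹ := by rw [ha']; group
      _ = x0 (a' (op i) * b) * (x * z i b * x⁻¹) := by rw [← h1]; group
      _ = x0 ((a + a') (op i) * b) * z i b := by
        rw [ha, ← mul_assoc, ← L.x0_add, Pi.add_apply, add_mul, add_comm]
  | inv x hx ih =>
    obtain ⟨a, ha⟩ := ih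
    refine ⟨a, fun i b => ?_⟩
    have h1 := L.XP (c := c) (l := l) (th := th) (L.x0_mem (a (op i) * b)) (Q_le_P (inv_mem hx))
    have h2 := ha i b
    have h3 : z i b = x⁻¹ * (x0 (a (op i) * b) * z i b) * x := by rw [← h2]; group
    have h4 : x⁻¹ * z i b * x = (x0 (a (op i) * b))⁻¹ * z i b := by
      calc x⁻¹ * z i b * x = (x0 (a (op i) * b))⁻¹ * (x0 (a (op i) * b) * x⁻¹) * z i b * x := by group
        _ = (x0 (a (op i) * b))⁻¹ * (x⁻¹ * (x0 (a (op i) * b) * z i b) * x) := by rw [h1]; group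
        _ = _ := by rw [← h3]
    rw [inv_inv, h4, inv_of_add L.two L.x0_add]

theorem beta_unique {q : G} {a a' : Sp → F} (h : ∀ i b, q * z i b * q⁻¹ = x0 (a (op i) * b) * z i b)
    (h' : ∀ i b, q * z i b * q⁻¹ = x0 (a' (op i) * b) * z i b) : a = a' := by
  funext i
  have h1 := mul_right_cancel ((h (op i) 1).symm.trans (h' (op i) 1))
  rw [op_op, mul_one, mul_one] at h1
  have h2 : x0 (a i + a' i) = 1 := by rw [L.x0_add, h1, self_of_add L.two L.x0_add]
  have h3 := L.x0_inj _ h2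
  have h4 := L.two (a' i)
  calc a i = (a i + a' i) + a' i := by rw [add_assoc, h4, add_zero]
    _ = a' i := by rw [h3, zero_add]

theorem QQ {y q : G} (hy : y ∈ Qs x0 v z) (hq : q ∈ Qs x0 v z) : y * q * y⁻¹ * q⁻¹ ∈ Xs x0 := by
  obtain ⟨a, ha⟩ := L.exists_beta hy
  induction hq using closure_induction with
  | mem x hx =>
    rcases hx with hx | ⟨j, b, rfl⟩
    · have hx' : x ∈ Vs x0 v := subset_closure hx
      have h1 := L.VQ hx' hy
      rw [← h1, mul_inv_cancel_right, mul_inv_cancel]; exact one_mem _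
    · rw [ha, mul_inv_cancel_right]; exact L.x0_mem _
  | one => rw [mul_one, mul_inv_cancel, inv_one, mul_one]; exact one_mem _
  | mul x w hx hw ih1 ih2 =>
    have h1 := L.XP (c := c) (l := l) (th := th) ih2 (Q_le_P (inv_mem hx))
    have e : y * (x * w) * y⁻¹ * (x * w)⁻¹ = y * x * y⁻¹ * ((y * w * y⁻¹ * w⁻¹) * x⁻¹) := by group
    rw [e, h1, ← mul_assoc]
    exact mul_mem ih1 ih2
  | inv x hx ih =>
    have h1 := L.XP (c := c) (l := l) (th := th) (inv_mem ih) (Q_le_P hx)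
    have e : y * x⁻¹ * y⁻¹ * x⁻¹⁻¹ = x⁻¹ * ((y * x * y⁻¹ * x⁻¹)⁻¹ * x) := by group
    rw [e, h1, inv_mul_cancel_left]
    exact inv_mem ih

theorem Q2 {q : G} (hq : q ∈ Qs x0 v z) : q * q ∈ Vs x0 v := by
  induction hq using closure_induction with
  | mem x hx =>
    rcases hx with hx | ⟨j, b, rfl⟩
    · have hx' : x ∈ Vs x0 v := subset_closure hx
      exact mul_mem hx' hx'
    · rw [self_of_add L.two (L.z_add j)]; exact one_mem _
  | one => rw [mul_one]; exact one_mem _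
  | mul x w hx hw ih1 ih2 =>
    have h1 := X_le_V (v := v) (L.QQ hw hx)
    have h2 := L.VQ ih2 (mul_mem hw hx)
    have e : x * w * (x * w) = (x * x) * (x⁻¹ * (w * x * w⁻¹ * x⁻¹) * x) * (w * w) := by group
    rw [e, mul_assoc x⁻¹, L.VQ h1 hx, inv_mul_cancel_left]
    exact mul_mem (mul_mem ih1 h1) ih2
  | inv x hx ih => rw [← mul_inv_rev]; exact inv_mem ih

/-! ### `P` normalises `V` and `Q` -/

theorem th_inv (ν : Fin 3 → Fˣ) : (th ν)⁻¹ = th ν⁻¹ := (map_inv th ν).symm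

theorem gen_inv {g : G} (hg : g ∈ gV x0 v ∨ (∃ i a, g = z i a) ∨ (∃ j a, g = c j a) ∨
    (∃ j k a, j.1 ≠ k.1 ∧ g = l j k a) ∨ ∃ ν, g = th ν) :
    g⁻¹ ∈ gV x0 v ∨ (∃ i a, g⁻¹ = z i a) ∨ (∃ j a, g⁻¹ = c j a) ∨
    (∃ j k a, j.1 ≠ k.1 ∧ g⁻¹ = l j k a) ∨ ∃ ν, g⁻¹ = th ν := by
  rcases hg with (⟨b, rfl⟩ | ⟨j, b, rfl⟩) | ⟨i, b, rfl⟩ | ⟨j, b, rfl⟩ | ⟨j, k, b, h, rfl⟩ | ⟨ν, rfl⟩
  · exact Or.inl (Or.inl ⟨b, inv_of_add L.two L.x0_add b⟩)
  · exact Or.inl (Or.inr ⟨j, b, inv_of_add L.two (L.v_add j) b⟩)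
  · exact Or.inr (Or.inl ⟨i, b, inv_of_add L.two (L.z_add i) b⟩)
  · exact Or.inr (Or.inr (Or.inl ⟨j, b, inv_of_add L.two (L.c_add j) b⟩))
  · exact Or.inr (Or.inr (Or.inr (Or.inl ⟨j, k, b, h, inv_of_add L.two (fun a b => L.l_add j k a b h) b⟩)))
  · exact Or.inr (Or.inr (Or.inr (Or.inr ⟨ν⁻¹, L.th_inv ν⟩)))

/-- a subgroup is normalised by `P` as soon as it is by the generators -/
theorem P_norm {R : Subgroup G} (h : ∀ g, (g ∈ gV x0 v ∨ (∃ i a, g = z i a) ∨ (∃ j a, g = c j a) ∨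
    (∃ j k a, j.1 ≠ k.1 ∧ g = l j k a) ∨ ∃ ν, g = th ν) → ∀ r ∈ R, g * r * g⁻¹ ∈ R) {p r : G}
    (hp : p ∈ Ps x0 v z c l th) (hr : r ∈ R) : p * r * p⁻¹ ∈ R := by
  have hle : Ps x0 v z c l th ≤ normalizer (R : Set G) := by
    rw [Ps, closure_le]
    intro g hg
    rw [SetLike.mem_coe, mem_normalizer_iff]
    intro r
    refine ⟨fun hr => h g hg r hr, fun hr => ?_⟩
    have h1 := h g⁻¹ (L.gen_inv hg) _ hr
    have e : g⁻¹ * (g * r * g⁻¹) * g⁻¹⁻¹ = r := by group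
    rwa [e] at h1
  exact (mem_normalizer_iff.1 (hle hp) r).1 hr

theorem thd_ne {a b : Fin 3} (h : a ≠ b) : thd a b ≠ a ∧ thd a b ≠ b := by
  revert a b; decide

theorem PV {p y : G} (hp : p ∈ Ps x0 v z c l th) (hy : y ∈ Vs x0 v) : p * y * p⁻¹ ∈ Vs x0 v := by
  refine L.P_norm (fun g hg r hr => ?_) hp hy
  induction hr using closure_induction with
  | mem x hx =>
    have hx' : x ∈ Vs x0 v := subset_closure hx
    have triv : g * x = x * g → g * x * g⁻¹ ∈ Vs x0 v := fun h => by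
      rw [h, mul_inv_cancel_right]; exact hx'
    rcases hg with hg | ⟨i, b, rfl⟩ | ⟨j, b, rfl⟩ | ⟨j, k, b, h, rfl⟩ | ⟨ν, rfl⟩
    · exact triv (L.VV (z := z) (subset_closure hg) hx')
    · exact triv (L.VQ hx' (z_mem i b)).symm
    · rcases hx with ⟨a, rfl⟩ | ⟨m, a, rfl⟩
      · exact triv (L.x0_c a j b).symm
      · by_cases h : m = ng j
        · rw [h, L.c_v]
          exact mul_mem (mul_mem (X_le_V (L.x0_mem _)) (v_mem _ _)) (v_mem _ _)
        · exact triv (L.c_v' _ _ _ _ h)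
    · rcases hx with ⟨a, rfl⟩ | ⟨m, a, rfl⟩
      · exact triv (L.x0_l a j k b h).symm
      · by_cases h1 : m = ng j
        · rw [h1, L.l_v _ _ _ _ h]
          exact mul_mem (v_mem _ _) (v_mem _ _)
        · by_cases h2 : m = ng k
          · rw [h2, L.l_symm, L.l_v _ _ _ _ (Ne.symm h)]
            exact mul_mem (v_mem _ _) (v_mem _ _)
          · exact triv (L.l_v' _ _ _ _ _ h h1 h2)
    · rcases hx with ⟨a, rfl⟩ | ⟨m, a, rfl⟩
      · exact triv (L.th_x0 ν a)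
      · rw [L.th_v]; exact v_mem _ _
  | one => rw [mul_one, mul_inv_cancel]; exact one_mem _
  | mul x w _ _ ih1 ih2 =>
    have e : g * (x * w) * g⁻¹ = (g * x * g⁻¹) * (g * w * g⁻¹) := by group
    rw [e]; exact mul_mem ih1 ih2
  | inv x _ ih =>
    have e : g * x⁻¹ * g⁻¹ = (g * x * g⁻¹)⁻¹ := by group
    rw [e]; exact inv_mem ih

theorem PQ {p y : G} (hp : p ∈ Ps x0 v z c l th) (hy : y ∈ Qs x0 v z) : p * y * p⁻¹ ∈ Qs x0 v z := by
  refine L.P_norm (fun g hg r hr => ?_) hp hy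
  have hgP : g ∈ Ps x0 v z c l th := subset_closure hg
  induction hr using closure_induction with
  | mem x hx =>
    have hx' : x ∈ Qs x0 v z := subset_closure hx
    have triv : g * x = x * g → g * x * g⁻¹ ∈ Qs x0 v z := fun h => by
      rw [h, mul_inv_cancel_right]; exact hx'
    rcases hx with hx | ⟨i, a, rfl⟩
    · exact V_le_Q (L.PV hgP (subset_closure hx))
    rcases hg with hg | ⟨j, b, rfl⟩ | ⟨j, b, rfl⟩ | ⟨j, k, b, h, rfl⟩ | ⟨ν, rfl⟩
    · exact triv (L.VQ (subset_closure hg) hx')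
    · exact mul_mem (mul_mem (z_mem _ _) (z_mem _ _)) (inv_mem (z_mem _ _))
    · by_cases h : i j.1 = j.2
      · exact triv (L.c_z' _ _ _ _ h)
      · rw [L.c_z _ _ _ _ h]
        exact mul_mem (z_mem _ _) (z_mem _ _)
    · by_cases h1 : i j.1 = j.2
      · exact triv (L.l_z' _ _ _ _ _ h (Or.inl h1))
      · by_cases h2 : i k.1 = k.2
        · exact triv (L.l_z' _ _ _ _ _ h (Or.inr h2))
        · rw [L.l_z _ _ _ _ _ h h1 h2]
          exact mul_mem (mul_mem (z_mem _ _) (V_le_Q (v_mem _ _))) (z_mem _ _)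
    · rw [L.th_z]; exact z_mem _ _
  | one => rw [mul_one, mul_inv_cancel]; exact one_mem _
  | mul x w _ _ ih1 ih2 =>
    have e : g * (x * w) * g⁻¹ = (g * x * g⁻¹) * (g * w * g⁻¹) := by group
    rw [e]; exact mul_mem ih1 ih2
  | inv x _ ih =>
    have e : g * x⁻¹ * g⁻¹ = (g * x * g⁻¹)⁻¹ := by group
    rw [e]; exact inv_mem ih

end basic

end Loc

end Cfsg.Agent.OddHalf.D7F4Ex
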